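import Cfsg.Agent.H910.Six.Hex_m3
import Cfsg.Agent.S2116
import Mathlib
import Cfsg.Agent.H637.A7TwelveMain_m3
import Cfsg.Agent.H890.K6Lines_m3
import Cfsg.Agent.StandardComponent.AltAut
import Cfsg.Agent.S2697
import Cfsg.Agent.Lib.MatRng
import Cfsg.Agent.FastGrp
import Cfsg.Agent.Prune
set_option linter.all false

section
prune_inst 0x7fb0a9fbebfcabffdfff7e77aededdfdf9b93fffe4dff9cb7fe061ff2bdf7b80c985638d8be812fe1eb6c21490e87b03fffffeffe86ffc7ffffdfff41ffbffdfedf7b508519488340fbc0ffe03f0778e7f3fffffffffffffffffffffffffffbeffbfffffffff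

-- part: H825/A7x/Frame
section
prune_inst 0x4400040000000000000000000000000404800000200400800000008000000200489000000000000100000041020000000000000000000000000000000000000000000000000000000000000000000000000000000000000000000000000000000000000000
set_option linter.all false
open scoped Cfsg.Agent.FastGrp

-- part: H825/A7x/Mat2
section
/-!
# `6.A₇` in dimension twelve: three `2 × 2` matrices (helper825)

`V = F³ ⊗ U ⊗ M`, `dim U = dim M = 2`.  The data on `M` are `X, Z, N` with `2 N² = 1`, `X² = Z²`, `3 (XZ + ZX) = 1`.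
-/

set_option autoImplicit false
set_option linter.unusedSectionVars false

namespace Cfsg.Agent.H825.A7x

open Matrix Cfsg.Agent.H890.A7

section gen

variable {F : Type*} [Field F] {R : Type*} [Ring R] [Algebra F R]

/-- The data: `p_m = [Z, X] - 2 ω^(-m) X N X - 2 ω^m Z N Z`, `q_m = X² + ω^m Z N X - ω^(-m) X N Z`. -/
structure Eqs (ω L : F) (X Z N p₀ p₁ p₂ q₀ q₁ q₂ : R) : Prop where
  hω : ω ^ 2 + ω + 1 = 0
  h2 : (2 : F) ≠ 0
  h3 : (3 : F) ≠ 0
  L2 : L ^ 2 = 1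
  NN : (2 : F) • (N * N) = 1
  XX : X * X = Z * Z
  XZ : (3 : F) • (X * Z + Z * X) = 1
  hp0 : p₀ = (Z * X - X * Z) - (2 : F) • (X * N * X) - (2 : F) • (Z * N * Z)
  hp1 : p₁ = (Z * X - X * Z) - (2 * ω ^ 2) • (X * N * X) - (2 * ω) • (Z * N * Z)
  hp2 : p₂ = (Z * X - X * Z) - (2 * ω) • (X * N * X) - (2 * ω ^ 2) • (Z * N * Z)
  hq0 : q₀ = X * X + Z * N * X - X * N * Z
  hq1 : q₁ = X * X + ω • (Z * N * X) - ω ^ 2 • (X * N * Z)
  hq2 : q₂ = X * X + ω ^ 2 • (Z * N * X) - ω • (X * N * Z)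
  s0 : (3 : F) • (p₀ * p₀) + (12 : F) • (q₀ * q₀) = 1
  s1 : (3 : F) • (p₁ * p₁) + (12 : F) • (q₁ * q₂) = 1
  s2 : (3 : F) • (p₂ * p₂) + (12 : F) • (q₂ * q₁) = 1
  e00 : (3 : F) • (p₀ * p₀) - (12 : F) • (q₀ * q₀) = -((2 * L) • q₀)
  e12 : (6 : F) • (q₁ * N * p₂) = -(L • q₁)
  e21 : (6 : F) • (p₂ * N * q₂) = -(L • q₂)
  e01 : (6 : F) • (q₀ * N * p₁) = L • (p₀ * N + N * p₁)
  e10 : (6 : F) • (p₁ * N * q₀) = L • (p₁ * N + N * p₀)
  e22 : (3 : F) • (p₂ * p₂) - (12 : F) • (q₂ * q₁) = (2 * L) • (p₂ * N + N * p₂)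
  e02 : (3 : F) • (p₀ * N * q₁) = (2 * L) • (N * q₁ * N)
  e20 : (3 : F) • (q₂ * N * p₀) = (2 * L) • (N * q₂ * N)
  e11 : (3 : F) • (p₁ * p₁) - (12 : F) • (q₁ * q₂) = (8 * L) • (N * q₀ * N)

end gen

section two

variable {F : Type*} [Field F]

local notation "R2" => Matrix (Fin 2) (Fin 2) F

/-- irreducibility -/
structure Irr (X Z N : R2) : Prop where
  comm : ∀ Y : R2, Y * X = X * Y → Y * Z = Z * Y → Y * N = N * Y → IsSc Y
  irr : ∀ v : Fin 2 → F, v ≠ 0 → (∃ c : F, X *ᵥ v = c • v) → (∃ c : F, Z *ᵥ v = c • v) →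
    (∃ c : F, N *ᵥ v = c • v) → False

theorem smul_cancel {c : F} (hc : c ≠ 0) {x y : R2} (h : c • x = c • y) : x = y :=
  smul_right_injective _ hc h

theorem tr_mul_self_zero {x : R2} (hx : ¬ IsSc x) {c : F} (h : x * x = c • 1) : x.trace = 0 := by
  have h1 := ch2 x
  rw [h] at h1
  have h2 : x.trace • x + (-(x.det) - c) • (1 : R2) = 0 := by
    have : x.trace • x + (-(x.det) - c) • (1 : R2) = (x.trace • x - x.det • 1) - c • 1 := by module
    rw [this, ← h1, sub_self]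
  exact (coeff_zero hx h2).1

/-- traceless matrices -/
theorem anti {x y : R2} (hx : x.trace = 0) (hy : y.trace = 0) : x * y + y * x = (x * y).trace • 1 := by
  rw [ch2', hx, hy]
  simp

theorem smul_one_eq {a b : F} (h : a • (1 : R2) = b • 1) : a = b := by
  have := congrFun (congrFun h 0) 0
  simpa using this

theorem smul_one_eq_zero {a : F} (h : a • (1 : R2) = 0) : a = 0 := by
  have := congrFun (congrFun h 0) 0
  simpa using this

theorem theta_ne' {ω : F} (hω : ω ^ 2 + ω + 1 = 0) (h3 : (3 : F) ≠ 0) : ω - ω ^ 2 ≠ 0 := by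
  intro h
  apply h3
  linear_combination (ω ^ 2 - 3 * ω + 3) * hω - (ω - ω ^ 2) * h

/-- the kernel of a non-zero singular matrix is a line -/
theorem ker_line {G : R2} (hG : G ≠ 0) {v w : Fin 2 → F} (hv : v ≠ 0) (h1 : G *ᵥ v = 0) (h2 : G *ᵥ w = 0) :
    ∃ a : F, w = a • v := by
  by_cases hd : v 0 * w 1 - v 1 * w 0 = 0
  · by_cases h0 : v 0 = 0
    · have h3 : v 1 ≠ 0 := by
        intro h3
        apply hv
        funext i
        fin_cases i
        · exact h0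
        · exact h3
      refine ⟨w 1 / v 1, ?_⟩
      rw [h0, zero_mul, zero_sub, neg_eq_zero] at hd
      have h4 := (mul_eq_zero.1 hd).resolve_left h3
      funext i
      fin_cases i
      · simp [h0, h4]
      · simp [h3]
    · refine ⟨w 0 / v 0, ?_⟩
      funext i
      fin_cases i
      · simp [h0]
      · simp only [Fin.mk_one, Pi.smul_apply, smul_eq_mul]
        field_simp
        linear_combination hd
  · exfalso
    apply hG
    have e0 : ∀ i, G i 0 * v 0 + G i 1 * v 1 = 0 := fun i => by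
      have := congrFun h1 i
      rwa [Matrix.mulVec, dotProduct, Fin.sum_univ_two] at this
    have e1 : ∀ i, G i 0 * w 0 + G i 1 * w 1 = 0 := fun i => by
      have := congrFun h2 i
      rwa [Matrix.mulVec, dotProduct, Fin.sum_univ_two] at this
    ext i j
    have f0 : G i 0 * (v 0 * w 1 - v 1 * w 0) = 0 := by linear_combination w 1 * e0 i - v 1 * e1 i
    have f1 : G i 1 * (v 0 * w 1 - v 1 * w 0) = 0 := by linear_combination v 0 * e1 i - w 0 * e0 i
    fin_cases j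
    · exact (mul_eq_zero.1 f0).resolve_right hd
    · exact (mul_eq_zero.1 f1).resolve_right hd

namespace Eqs

variable {ω L : F} {X Z N p₀ p₁ p₂ q₀ q₁ q₂ : Matrix (Fin 2) (Fin 2) F} (h : Eqs ω L X Z N p₀ p₁ p₂ q₀ q₁ q₂)
include h

theorem L0 : L ≠ 0 := by
  intro h0
  have := h.L2
  rw [h0] at this
  norm_num at this

theorem h6 : (6 : F) ≠ 0 := by
  rw [show (6 : F) = 2 * 3 by norm_num]
  exact mul_ne_zero h.h2 h.h3

theorem X_ne : X ≠ 0 := by
  intro h0
  have := h.XZ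
  rw [h0, zero_mul, mul_zero, add_zero, smul_zero] at this
  exact zero_ne_one this

/-- `X² = c` -/
theorem GG {c : F} (hc : X * X = c • 1) :
    (9 : F) • ((Z * X - X * Z) * (Z * X - X * Z)) = (1 - 36 * c ^ 2) • 1 := by
  have hc' : Z * Z = c • 1 := by rw [← h.XX, hc]
  have e1 : (Z * X) * (X * Z) = (c ^ 2) • 1 := by
    calc (Z * X) * (X * Z) = Z * (X * X) * Z := by noncomm_ring
      _ = c • (Z * Z) := by rw [hc, mul_smul_comm, smul_mul_assoc, mul_one]
      _ = _ := by rw [hc', smul_smul, sq]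
  have e2 : (X * Z) * (Z * X) = (c ^ 2) • 1 := by
    calc (X * Z) * (Z * X) = X * (Z * Z) * X := by noncomm_ring
      _ = c • (X * X) := by rw [hc', mul_smul_comm, smul_mul_assoc, mul_one]
      _ = _ := by rw [hc, smul_smul, sq]
  have e3 : (9 : F) • ((X * Z + Z * X) * (X * Z + Z * X)) = 1 := by
    have : (9 : F) • ((X * Z + Z * X) * (X * Z + Z * X)) =
        ((3 : F) • (X * Z + Z * X)) * ((3 : F) • (X * Z + Z * X)) := by
      rw [smul_mul_smul_comm]; norm_num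
    rw [this, h.XZ, one_mul]
  have e4 : (Z * X - X * Z) * (Z * X - X * Z) = (X * Z + Z * X) * (X * Z + Z * X) -
      ((Z * X) * (X * Z) + (Z * X) * (X * Z)) - ((X * Z) * (Z * X) + (X * Z) * (Z * X)) := by noncomm_ring
  rw [e4, e1, e2, smul_sub, smul_sub, e3]
  module

/-- `G` anticommutes with `X` -/
theorem GX {c : F} (hc : X * X = c • 1) : (Z * X - X * Z) * X = -(X * (Z * X - X * Z)) := by
  have : (Z * X - X * Z) * X = -(X * (Z * X - X * Z)) + (Z * (X * X) - (X * X) * Z) := by noncomm_ring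
  rw [this, hc, mul_smul_comm, smul_mul_assoc, mul_one, one_mul, sub_self, add_zero]

theorem GZ {c : F} (hc : X * X = c • 1) : (Z * X - X * Z) * Z = -(Z * (Z * X - X * Z)) := by
  have : (Z * X - X * Z) * Z = -(Z * (Z * X - X * Z)) + ((Z * Z) * X - X * (Z * Z)) := by noncomm_ring
  rw [this, ← h.XX, hc, mul_smul_comm, smul_mul_assoc, mul_one, one_mul, sub_self, add_zero]

/-- not everything is a scalar -/
theorem not_comm (hI : Irr X Z N) (hX : IsSc X) (hN : IsSc N) : False := by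
  obtain ⟨x, hx⟩ := hX
  have hx0 : x ≠ 0 := by
    rintro rfl
    exact h.X_ne (by rw [hx, zero_smul])
  have hZ : IsSc Z := by
    have h1 := h.XZ
    rw [hx, smul_mul_assoc, mul_smul_comm, one_mul, mul_one, ← two_smul F, smul_smul, smul_smul] at h1
    refine ⟨(3 * 2 * x)⁻¹, ?_⟩
    have h0 : 3 * 2 * x ≠ 0 := mul_ne_zero (mul_ne_zero h.h3 h.h2) hx0
    apply smul_cancel h0
    rw [h1, smul_smul, mul_inv_cancel₀ h0, one_smul]
  apply not_all_sc (F := F)
  intro Y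
  exact hI.comm Y (IsSc.comm ⟨x, hx⟩ Y).symm ((hZ.comm Y).symm) ((hN.comm Y).symm)

/-- `N` is not a scalar -/
theorem N_not_sc (hI : Irr X Z N) : ¬ IsSc N := by
  rintro hN
  obtain ⟨ν, hν⟩ := hN
  have hν2 : 2 * (ν * ν) = 1 := by
    have h1 := h.NN
    rw [hν, smul_mul_smul_comm, one_mul, smul_smul] at h1
    exact smul_one_eq (by rw [one_smul]; exact h1)
  have hν0 : ν ≠ 0 := by
    rintro rfl
    norm_num at hν2
  have hNc : ∀ Y : R2, Y * N = N * Y := fun Y => by rw [hν, mul_smul_comm, smul_mul_assoc, mul_one, one_mul]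
  obtain ⟨c, hc⟩ := hI.comm (X * X) (mul_assoc _ _ _) (by rw [h.XX, mul_assoc]) (hNc _)
  have hGsc : ¬ IsSc (Z * X - X * Z) := by
    rintro ⟨g, hg⟩
    have h1 := h.GX hc
    rw [hg, smul_mul_assoc, mul_smul_comm, one_mul, mul_one] at h1
    have h2 : (2 * g) • X = 0 := by
      have : (2 * g) • X = g • X + g • X := by module
      rw [this]
      nth_rewrite 1 [h1]
      exact neg_add_cancel _
    have h3 : g = 0 := (mul_eq_zero.1 ((smul_eq_zero.1 h2).resolve_right h.X_ne)).resolve_left h.h2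
    rw [h3, zero_smul, sub_eq_zero] at hg
    exact h.not_comm hI (hI.comm X rfl hg.symm (hNc _)) ⟨ν, hν⟩
  have hGG := h.GG hc
  obtain ⟨G, hG⟩ : ∃ G, G = Z * X - X * Z := ⟨_, rfl⟩
  rw [← hG] at hGsc hGG
  have hp0 : p₀ = G - (4 * ν * c) • 1 := by
    rw [h.hp0, ← hG, hν, mul_smul_comm, smul_mul_assoc, mul_smul_comm, smul_mul_assoc, mul_one, mul_one, ← h.XX, hc]
    module
  have hq0 : q₀ = c • 1 + ν • G := by
    rw [h.hq0, hν, mul_smul_comm, smul_mul_assoc, mul_smul_comm, smul_mul_assoc, mul_one, mul_one, hc, hG]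
    module
  have hp1 : p₁ = G + (2 * ν * c) • 1 := by
    have e : -(2 * ω ^ 2) * (ν * c) - (2 * ω) * (ν * c) = 2 * ν * c := by
      linear_combination (-(2 * ν * c)) * h.hω
    rw [h.hp1, ← hG, hν, mul_smul_comm, smul_mul_assoc, mul_smul_comm, smul_mul_assoc, mul_one, mul_one, ← h.XX, hc, ← e]
    module
  have e00 := h.e00
  have s0 := h.s0
  have e11 := h.e11
  have s1 := h.s1
  have hNq : N * q₀ * N = (ν * ν) • q₀ := by
    rw [hν, smul_mul_assoc, mul_smul_comm, mul_one, one_mul, smul_smul]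
  -- twice `3 p₀² = 1 - 2 L q₀`
  have k0 : (6 : F) • (p₀ * p₀) = 1 - (2 * L) • q₀ := by
    have : (6 : F) • (p₀ * p₀) = ((3 : F) • (p₀ * p₀) + (12 : F) • (q₀ * q₀)) +
      ((3 : F) • (p₀ * p₀) - (12 : F) • (q₀ * q₀)) := by module
    rw [this, s0, e00, ← sub_eq_add_neg]
  have k1 : (6 : F) • (p₁ * p₁) = 1 + (4 * L) • q₀ := by
    have : (6 : F) • (p₁ * p₁) = ((3 : F) • (p₁ * p₁) + (12 : F) • (q₁ * q₂)) +
      ((3 : F) • (p₁ * p₁) - (12 : F) • (q₁ * q₂)) := by module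
    rw [this, s1, e11, hNq, smul_smul]
    congr 2
    linear_combination (4 * L) * hν2
  have m0 : p₀ * p₀ = G * G - (8 * ν * c) • G + (4 * ν * c) ^ 2 • 1 := by
    rw [hp0]
    have : (G - (4 * ν * c) • 1) * (G - (4 * ν * c) • 1) = G * G - (4 * ν * c) • G - (4 * ν * c) • G +
      ((4 * ν * c) * (4 * ν * c)) • (1 : R2) := by
      simp only [sub_mul, mul_sub, smul_mul_assoc, mul_smul_comm, mul_one, one_mul]
      module
    rw [this]
    module
  have m1 : p₁ * p₁ = G * G + (4 * ν * c) • G + (2 * ν * c) ^ 2 • 1 := by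
    rw [hp1]
    have : (G + (2 * ν * c) • 1) * (G + (2 * ν * c) • 1) = G * G + (2 * ν * c) • G + (2 * ν * c) • G +
      ((2 * ν * c) * (2 * ν * c)) • (1 : R2) := by
      simp only [add_mul, mul_add, smul_mul_assoc, mul_smul_comm, mul_one, one_mul]
      module
    rw [this]
    module
  rw [m0, hq0] at k0
  rw [m1, hq0] at k1
  -- coefficients of `G`
  have r0 : (3 * (-48 * ν * c + 2 * L * ν)) • G + (2 * (1 - 36 * c ^ 2) + 18 * (4 * ν * c) ^ 2 - 3 + 6 * L * c) • (1 : R2) = 0 := by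
    have : (3 * (-48 * ν * c + 2 * L * ν)) • G + (2 * (1 - 36 * c ^ 2) + 18 * (4 * ν * c) ^ 2 - 3 + 6 * L * c) • (1 : R2) =
      (3 : F) • ((6 : F) • (G * G - (8 * ν * c) • G + (4 * ν * c) ^ 2 • 1) - (1 - (2 * L) • (c • 1 + ν • G))) -
        (2 : F) • ((9 : F) • (G * G) - (1 - 36 * c ^ 2) • 1) := by module
    rw [this, k0, hGG, sub_self, sub_self, smul_zero, smul_zero, sub_self]
  have r1 : (3 * (24 * ν * c - 4 * L * ν)) • G + (2 * (1 - 36 * c ^ 2) + 18 * (2 * ν * c) ^ 2 - 3 - 12 * L * c) • (1 : R2) = 0 := by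
    have : (3 * (24 * ν * c - 4 * L * ν)) • G + (2 * (1 - 36 * c ^ 2) + 18 * (2 * ν * c) ^ 2 - 3 - 12 * L * c) • (1 : R2) =
      (3 : F) • ((6 : F) • (G * G + (4 * ν * c) • G + (2 * ν * c) ^ 2 • 1) - (1 + (4 * L) • (c • 1 + ν • G))) -
        (2 : F) • ((9 : F) • (G * G) - (1 - 36 * c ^ 2) • 1) := by module
    rw [this, k1, hGG, sub_self, sub_self, smul_zero, smul_zero, sub_self]
  obtain ⟨a0, -⟩ := coeff_zero hGsc r0
  obtain ⟨a1, -⟩ := coeff_zero hGsc r1
  have b0 : 24 * c = L := by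
    have h1 : (3 * (2 * ν)) * (L - 24 * c) = 0 := by linear_combination a0
    have h2 := (mul_eq_zero.1 h1).resolve_left (mul_ne_zero h.h3 (mul_ne_zero h.h2 hν0))
    linear_combination -h2
  have b1 : 6 * c = L := by
    have h1 : (3 * (2 * 2 * ν)) * (6 * c - L) = 0 := by linear_combination a1
    have h2 := (mul_eq_zero.1 h1).resolve_left (mul_ne_zero h.h3 (mul_ne_zero (mul_ne_zero h.h2 h.h2) hν0))
    linear_combination h2
  have b2 : (3 * (3 * 2)) * c = 0 := by linear_combination b0 - b1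
  have b3 := (mul_eq_zero.1 b2).resolve_left (mul_ne_zero h.h3 (mul_ne_zero h.h3 h.h2))
  rw [b3, mul_zero] at b1
  exact h.L0 b1.symm

/-- `X`, `Z` are not scalars -/
theorem X_not_sc (hI : Irr X Z N) : ¬ IsSc X := by
  intro hX
  have hX' := hX
  obtain ⟨x, hx⟩ := hX
  have hx0 : x ≠ 0 := by
    rintro rfl
    exact h.X_ne (by rw [hx, zero_smul])
  have hZ : IsSc Z := by
    have h1 := h.XZ
    rw [hx, smul_mul_assoc, mul_smul_comm, one_mul, mul_one, ← two_smul F, smul_smul, smul_smul] at h1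
    refine ⟨(3 * 2 * x)⁻¹, ?_⟩
    have h0 : 3 * 2 * x ≠ 0 := mul_ne_zero (mul_ne_zero h.h3 h.h2) hx0
    apply smul_cancel h0
    rw [h1, smul_smul, mul_inv_cancel₀ h0, one_smul]
  exact h.N_not_sc hI (hI.comm N (hX'.comm N).symm (hZ.comm N).symm rfl)

theorem Z_not_sc (hI : Irr X Z N) : ¬ IsSc Z := by
  intro hZ
  have hZ' := hZ
  obtain ⟨x, hx⟩ := hZ
  have hx0 : x ≠ 0 := by
    rintro rfl
    have := h.XZ
    rw [hx, zero_smul, zero_mul, mul_zero, add_zero, smul_zero] at this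
    exact zero_ne_one this
  have hX : IsSc X := by
    have h1 := h.XZ
    rw [hx, smul_mul_assoc, mul_smul_comm, one_mul, mul_one, ← two_smul F, smul_smul, smul_smul] at h1
    refine ⟨(3 * 2 * x)⁻¹, ?_⟩
    have h0 : 3 * 2 * x ≠ 0 := mul_ne_zero (mul_ne_zero h.h3 h.h2) hx0
    apply smul_cancel h0
    rw [h1, smul_smul, mul_inv_cancel₀ h0, one_smul]
  exact h.X_not_sc hI hX

/-- `X²` is a scalar -/
theorem XX_sc (hI : Irr X Z N) : IsSc (X * X) := by
  by_contra hC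
  -- `X` and `Z` commute
  have hXZ : X * Z = Z * X := by
    have h1 := ch2 X
    have htr : X.trace ≠ 0 := by
      intro h0
      apply hC
      rw [h0, zero_smul, zero_sub, ← neg_smul] at h1
      exact ⟨_, h1⟩
    have h2 : X.trace • X = Z * Z + X.det • 1 := by rw [← h.XX, h1]; abel
    have h3 : X.trace • (X * Z) = X.trace • (Z * X) := by
      rw [← smul_mul_assoc, ← mul_smul_comm, h2, add_mul, mul_add, mul_assoc, smul_mul_assoc, mul_smul_comm, one_mul,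
        mul_one]
    exact smul_cancel htr h3
  obtain ⟨A, hA⟩ : ∃ A, A = X + Z := ⟨_, rfl⟩
  obtain ⟨B, hB⟩ : ∃ B, B = X - Z := ⟨_, rfl⟩
  have hAB : A * B = 0 := by
    have : A * B = (X * X - Z * Z) - (X * Z - Z * X) := by rw [hA, hB]; noncomm_ring
    rw [this, h.XX, hXZ, sub_self, sub_self, sub_self]
  have hBA : B * A = 0 := by
    have : B * A = (X * X - Z * Z) + (X * Z - Z * X) := by rw [hA, hB]; noncomm_ring
    rw [this, h.XX, hXZ, sub_self, sub_self, add_zero]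
  have hAABB : (3 : F) • (A * A) - (3 : F) • (B * B) = (2 : F) • 1 := by
    have : (3 : F) • (A * A) - (3 : F) • (B * B) = (2 : F) • ((3 : F) • (X * Z + Z * X)) := by
      have h1 : A * A - B * B = (X * Z + Z * X) + (X * Z + Z * X) := by rw [hA, hB]; noncomm_ring
      rw [← smul_sub, h1]
      module
    rw [this, h.XZ]
  have hA3 : (3 : F) • (A * A * A) = (2 : F) • A := by
    have h1 : ((3 : F) • (A * A) - (3 : F) • (B * B)) * A = (2 : F) • A := by
      rw [hAABB, smul_mul_assoc, one_mul]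
    rw [← h1, sub_mul, smul_mul_assoc, smul_mul_assoc, mul_assoc B, hBA, mul_zero, smul_zero, sub_zero]
  have hB3 : (3 : F) • (B * B * B) = -((2 : F) • B) := by
    have h1 : ((3 : F) • (A * A) - (3 : F) • (B * B)) * B = (2 : F) • B := by
      rw [hAABB, smul_mul_assoc, one_mul]
    rw [← h1, sub_mul, smul_mul_assoc, smul_mul_assoc, mul_assoc A, hAB, mul_zero, smul_zero, zero_sub, neg_neg]
  -- `p₀`, `q₀`
  have hp0 : p₀ = -(A * N * A + B * N * B) := by
    have h1 : A * N * A + B * N * B = (X * N * X + X * N * X) + (Z * N * Z + Z * N * Z) := by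
      rw [hA, hB]; noncomm_ring
    rw [h.hp0, h1, hXZ, sub_self]
    module
  have hq0 : (4 : F) • q₀ = A * A + B * B + (2 : F) • (A * N * B - B * N * A) := by
    have h1 : A * A + B * B = (X * X + X * X) + (Z * Z + Z * Z) := by rw [hA, hB]; noncomm_ring
    have h2 : A * N * B - B * N * A = (Z * N * X + Z * N * X) - (X * N * Z + X * N * Z) := by rw [hA, hB]; noncomm_ring
    rw [h.hq0, h1, h2, ← h.XX]
    module
  have hAq : (12 : F) • (A * q₀) = (2 : F) • A + (6 : F) • (A * A * N * B) := by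
    have h1 : (12 : F) • (A * q₀) = (3 : F) • (A * ((4 : F) • q₀)) := by rw [mul_smul_comm, smul_smul]; norm_num
    have h2 : A * (A * A + B * B + (2 : F) • (A * N * B - B * N * A)) =
        A * A * A + (A * B) * B + (2 : F) • (A * A * N * B - (A * B) * N * A) := by
      rw [mul_add, mul_add, mul_smul_comm, mul_sub]
      simp only [mul_assoc]
    rw [h1, hq0, h2, hAB, zero_mul, zero_mul, zero_mul, add_zero, sub_zero, smul_add, hA3]
    module
  have hqB : (12 : F) • (q₀ * B) = -((2 : F) • B) + (6 : F) • (A * N * B * B) := by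
    have h1 : (12 : F) • (q₀ * B) = (3 : F) • (((4 : F) • q₀) * B) := by rw [smul_mul_assoc, smul_smul]; norm_num
    have h2 : (A * A + B * B + (2 : F) • (A * N * B - B * N * A)) * B =
        A * (A * B) + B * B * B + (2 : F) • (A * N * B * B - B * N * (A * B)) := by
      rw [add_mul, add_mul, smul_mul_assoc, sub_mul]
      simp only [mul_assoc]
    rw [h1, hq0, h2, hAB, mul_zero, mul_zero, zero_add, sub_zero, smul_add, hB3]
    module
  have hBq : (12 : F) • (B * q₀) = -((2 : F) • B) - (6 : F) • (B * B * N * A) := by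
    have h1 : (12 : F) • (B * q₀) = (3 : F) • (B * ((4 : F) • q₀)) := by rw [mul_smul_comm, smul_smul]; norm_num
    have h2 : B * (A * A + B * B + (2 : F) • (A * N * B - B * N * A)) =
        (B * A) * A + B * B * B + (2 : F) • ((B * A) * N * B - B * B * N * A) := by
      rw [mul_add, mul_add, mul_smul_comm, mul_sub]
      simp only [mul_assoc]
    rw [h1, hq0, h2, hBA, zero_mul, zero_mul, zero_mul, zero_add, zero_sub, smul_add, hB3]
    module
  have hqA : (12 : F) • (q₀ * A) = (2 : F) • A - (6 : F) • (B * N * A * A) := by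
    have h1 : (12 : F) • (q₀ * A) = (3 : F) • (((4 : F) • q₀) * A) := by rw [smul_mul_assoc, smul_smul]; norm_num
    have h2 : (A * A + B * B + (2 : F) • (A * N * B - B * N * A)) * A =
        A * A * A + B * (B * A) + (2 : F) • (A * N * (B * A) - B * N * A * A) := by
      rw [add_mul, add_mul, smul_mul_assoc, sub_mul]
      simp only [mul_assoc]
    rw [h1, hq0, h2, hBA, mul_zero, mul_zero, add_zero, zero_sub, smul_add, hA3]
    module
  have hApB : A * (p₀ * p₀) * B = 0 := by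
    rw [hp0]
    have : A * (-(A * N * A + B * N * B) * -(A * N * A + B * N * B)) * B =
      A * A * N * A * A * N * (A * B) + A * A * N * (A * B) * N * B * B + (A * B) * N * (B * A) * N * (A * B) +
        (A * B) * N * B * B * N * B * B := by noncomm_ring
    rw [this, hAB, hBA]
    simp
  have hBpA : B * (p₀ * p₀) * A = 0 := by
    rw [hp0]
    have : B * (-(A * N * A + B * N * B) * -(A * N * A + B * N * B)) * A =
      (B * A) * N * A * A * N * A * A + (B * A) * N * (A * B) * N * (B * A) + B * B * N * (B * A) * N * A * A +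
        B * B * N * B * B * N * (B * A) := by noncomm_ring
    rw [this, hAB, hBA]
    simp
  have hAqqB : A * (q₀ * q₀) * B = 0 := by
    have h1 : (12 * 12 : F) • (A * (q₀ * q₀) * B) = ((12 : F) • (A * q₀)) * ((12 : F) • (q₀ * B)) := by
      rw [smul_mul_smul_comm]
      congr 1
      noncomm_ring
    have h2 : ((2 : F) • A + (6 : F) • (A * A * N * B)) * (-((2 : F) • B) + (6 : F) • (A * N * B * B)) =
        (-4 : F) • (A * B) + (12 : F) • (A * A * N * B * B) - (12 : F) • (A * A * N * B * B) +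
          (36 : F) • (A * A * N * (B * A) * N * B * B) := by
      simp only [add_mul, mul_add, smul_mul_assoc, mul_smul_comm, mul_neg, ← mul_assoc]
      module
    rw [hAq, hqB, h2, hAB, hBA] at h1
    have h3 : (12 * 12 : F) • (A * (q₀ * q₀) * B) = (12 * 12 : F) • (0 : R2) := by rw [h1]; simp
    refine smul_cancel ?_ h3
    have h12 : (12 : F) ≠ 0 := by
      rw [show (12 : F) = 2 * 6 by norm_num]
      exact mul_ne_zero h.h2 h.h6
    exact mul_ne_zero h12 h12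
  have hBqqA : B * (q₀ * q₀) * A = 0 := by
    have h1 : (12 * 12 : F) • (B * (q₀ * q₀) * A) = ((12 : F) • (B * q₀)) * ((12 : F) • (q₀ * A)) := by
      rw [smul_mul_smul_comm]
      congr 1
      noncomm_ring
    have h2 : (-((2 : F) • B) - (6 : F) • (B * B * N * A)) * ((2 : F) • A - (6 : F) • (B * N * A * A)) =
        (-4 : F) • (B * A) + (12 : F) • (B * B * N * A * A) - (12 : F) • (B * B * N * A * A) +
          (36 : F) • (B * B * N * (A * B) * N * A * A) := by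
      simp only [sub_mul, mul_sub, smul_mul_assoc, mul_smul_comm, neg_mul, ← mul_assoc]
      module
    rw [hBq, hqA, h2, hAB, hBA] at h1
    have h3 : (12 * 12 : F) • (B * (q₀ * q₀) * A) = (12 * 12 : F) • (0 : R2) := by rw [h1]; simp only [_root_.smul_zero, _root_.zero_add, _root_.sub_self, _root_.MulZeroClass.mul_zero, _root_.MulZeroClass.zero_mul, _root_.add_zero]
    refine smul_cancel ?_ h3
    have h12 : (12 : F) ≠ 0 := by
      rw [show (12 : F) = 2 * 6 by norm_num]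
      exact mul_ne_zero h.h2 h.h6
    exact mul_ne_zero h12 h12
  have h12L : (2 * L : F) ≠ 0 := mul_ne_zero h.h2 h.L0
  have k1 : A * q₀ * B = 0 := by
    have h1 := congrArg (fun Y => A * Y * B) h.e00
    simp only [mul_sub, sub_mul, mul_smul_comm, smul_mul_assoc, mul_neg, neg_mul] at h1
    rw [hApB, hAqqB, smul_zero, smul_zero, sub_zero] at h1
    exact (smul_eq_zero.1 (neg_eq_zero.1 h1.symm)).resolve_left h12L
  have k2 : B * q₀ * A = 0 := by
    have h1 := congrArg (fun Y => B * Y * A) h.e00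
    simp only [mul_sub, sub_mul, mul_smul_comm, smul_mul_assoc, mul_neg, neg_mul] at h1
    rw [hBpA, hBqqA, smul_zero, smul_zero, sub_zero] at h1
    exact (smul_eq_zero.1 (neg_eq_zero.1 h1.symm)).resolve_left h12L
  have k3 : A * A * N * B * B = 0 := by
    have h1 : (12 : F) • (A * q₀ * B) = (2 : F) • (A * B) + (6 : F) • (A * A * N * B * B) := by
      rw [← smul_mul_assoc, hAq, add_mul, smul_mul_assoc, smul_mul_assoc]
    rw [k1, hAB, smul_zero, smul_zero, zero_add] at h1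
    exact (smul_eq_zero.1 h1.symm).resolve_left h.h6
  have k4 : B * B * N * A * A = 0 := by
    have h1 : (12 : F) • (B * q₀ * A) = -((2 : F) • (B * A)) - (6 : F) • (B * B * N * A * A) := by
      rw [← smul_mul_assoc, hBq, sub_mul, neg_mul, smul_mul_assoc, smul_mul_assoc]
    rw [k2, hBA, smul_zero, smul_zero, neg_zero, zero_sub] at h1
    exact (smul_eq_zero.1 (neg_eq_zero.1 h1.symm)).resolve_left h.h6
  -- `A²` commutes with `N`
  have k5 : (A * A) * N = N * (A * A) := by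
    have h1 : (2 : F) • ((A * A) * N) = (3 : F) • (A * A * N * A * A) := by
      have : (2 : F) • ((A * A) * N) = (A * A) * N * ((2 : F) • 1) := by rw [mul_smul_comm, mul_one]
      rw [this, ← hAABB, mul_sub, mul_smul_comm, mul_smul_comm, ← mul_assoc, ← mul_assoc, k3, smul_zero, sub_zero]
    have h2 : (2 : F) • (N * (A * A)) = (3 : F) • (A * A * N * A * A) := by
      have : (2 : F) • (N * (A * A)) = ((2 : F) • 1) * (N * (A * A)) := by rw [smul_mul_assoc, one_mul]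
      rw [this, ← hAABB, sub_mul, smul_mul_assoc, smul_mul_assoc]
      have e1 : B * B * (N * (A * A)) = B * B * N * A * A := by simp only [mul_assoc]
      have e2 : A * A * (N * (A * A)) = A * A * N * A * A := by simp only [mul_assoc]
      rw [e1, e2, k4, smul_zero, sub_zero]
    exact smul_cancel h.h2 (h1.trans h2.symm)
  have hAX : A * X = X * A := by rw [hA, add_mul, mul_add, hXZ]
  have hAZ : A * Z = Z * A := by rw [hA, add_mul, mul_add, hXZ]
  obtain ⟨c, hc⟩ := hI.comm (A * A) (by rw [mul_assoc, hAX, ← mul_assoc, hAX, mul_assoc])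
    (by rw [mul_assoc, hAZ, ← mul_assoc, hAZ, mul_assoc]) k5
  apply hC
  have h1 : (6 : F) • (X * X) = (3 * c - 1) • 1 := by
    have e1 : A * A = (X * X + Z * Z) + (X * Z + Z * X) := by rw [hA]; noncomm_ring
    have e2 : (3 : F) • (A * A) = (6 : F) • (X * X) + 1 := by
      rw [e1, ← h.XX, smul_add, h.XZ]
      module
    rw [hc] at e2
    have : (3 * c - 1) • (1 : R2) = (3 : F) • c • 1 - 1 := by module
    rw [this, e2, add_sub_cancel_right]
  refine ⟨6⁻¹ * (3 * c - 1), ?_⟩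
  apply smul_cancel h.h6
  rw [h1, smul_smul, ← mul_assoc, mul_inv_cancel₀ h.h6, one_mul]

theorem c_of (hI : Irr X Z N) : ∃ c τ : F, X * X = c • 1 ∧ Z * Z = c • 1 ∧ Z * N * X - X * N * Z = τ • 1 ∧
    (Z * X - X * Z) * N + N * (Z * X - X * Z) = -((2 * τ) • 1) ∧ q₀ = (c + τ) • 1 ∧ X.trace = 0 ∧ Z.trace = 0 ∧
    N.trace = 0 ∧ 24 * (c + τ) ^ 2 = 1 + 2 * L * (c + τ) := by
  obtain ⟨c, hc⟩ := h.XX_sc hI
  have hc' : Z * Z = c • 1 := by rw [← h.XX, hc]
  have tX := tr_mul_self_zero (h.X_not_sc hI) hc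
  have tZ := tr_mul_self_zero (h.Z_not_sc hI) hc'
  have tN : N.trace = 0 := by
    refine tr_mul_self_zero (h.N_not_sc hI) (c := 2⁻¹) ?_
    apply smul_cancel h.h2
    rw [h.NN, smul_smul, mul_inv_cancel₀ h.h2, one_smul]
  have eX : X 1 1 = -X 0 0 := by rw [Matrix.trace_fin_two] at tX; exact eq_neg_of_add_eq_zero_right tX
  have eZ : Z 1 1 = -Z 0 0 := by rw [Matrix.trace_fin_two] at tZ; exact eq_neg_of_add_eq_zero_right tZ
  have eN : N 1 1 = -N 0 0 := by rw [Matrix.trace_fin_two] at tN; exact eq_neg_of_add_eq_zero_right tN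
  have h1 : Z * N * X - X * N * Z = (Z * N * X).trace • 1 := by
    rw [Matrix.trace_fin_two]
    ext i j
    (revert i j; simp only [Matrix.mul_apply, Fin.sum_univ_two, eX, eZ, eN, _root_.Fin.forall_fin_succ, _root_.Matrix.sub_apply, Fin.isValue, _root_.mul_neg, _root_.neg_mul, _root_.neg_neg, _root_.Matrix.smul_apply, _root_.smul_eq_mul, _root_.Fin.succ_zero_eq_one, _root_.IsEmpty.forall_iff, _root_.and_true, _root_.Matrix.one_apply_eq, _root_.mul_one, Nat.reduceAdd, _root_.ne_eq, _root_.zero_ne_one, _root_.not_false_eq_true, _root_.Matrix.one_apply_ne, _root_.MulZeroClass.mul_zero, _root_.Fin.succ_ne_zero]) <;> (repeat' with_reducible apply And.intro) <;> ring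
  have h2 : (Z * X - X * Z) * N + N * (Z * X - X * Z) = -((2 * (Z * N * X).trace) • 1) := by
    rw [Matrix.trace_fin_two]
    ext i j
    (revert i j; simp only [Matrix.mul_apply, Fin.sum_univ_two, eX, eZ, eN, _root_.Fin.forall_fin_succ, _root_.Matrix.add_apply, _root_.Matrix.sub_apply, Fin.isValue, _root_.mul_neg, _root_.neg_mul, _root_.neg_neg, _root_.Matrix.neg_apply, _root_.Matrix.smul_apply, _root_.smul_eq_mul, _root_.Fin.succ_zero_eq_one, _root_.IsEmpty.forall_iff, _root_.and_true, _root_.Matrix.one_apply_eq, _root_.mul_one, Nat.reduceAdd, _root_.ne_eq, _root_.zero_ne_one, _root_.not_false_eq_true, _root_.Matrix.one_apply_ne, _root_.MulZeroClass.mul_zero, _root_.neg_zero, _root_.Fin.succ_ne_zero]) <;> (repeat' with_reducible apply And.intro) <;> ring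
  have h3 : q₀ = (c + (Z * N * X).trace) • 1 := by
    rw [h.hq0, add_sub_assoc, h1, hc, add_smul]
  refine ⟨c, _, hc, hc', h1, h2, h3, tX, tZ, tN, ?_⟩
  have h4 := congrArg₂ (fun a b => a - b) h.s0 h.e00
  have h5 : (24 : F) • (q₀ * q₀) = 1 + (2 * L) • q₀ := by
    have : (24 : F) • (q₀ * q₀) = ((3 : F) • (p₀ * p₀) + (12 : F) • (q₀ * q₀)) -
      ((3 : F) • (p₀ * p₀) - (12 : F) • (q₀ * q₀)) := by module
    rw [this, h.s0, h.e00, sub_neg_eq_add]
  rw [h3] at h5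
  apply smul_one_eq
  have h6 : (24 * (c + (Z * N * X).trace) ^ 2) • (1 : R2) =
      (24 : F) • ((c + (Z * N * X).trace) • (1 : R2) * (c + (Z * N * X).trace) • (1 : R2)) := by
    rw [smul_mul_smul_comm, one_mul, smul_smul, sq]
  rw [h6, h5]
  module

/-- the first case -/
theorem case_one {c τ : F} (h5 : (5 : F) ≠ 0) (hc : X * X = c • 1) (hc' : Z * Z = c • 1)
    (hτ : Z * N * X - X * N * Z = τ • 1) (hq : q₀ = (c + τ) • 1) (tN : N.trace = 0) (h4 : 4 * (c + τ) = L) : False := by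
  have hNN : ∀ Y : R2, (2 : F) • (Y * N * N) = Y := fun Y => by
    rw [mul_assoc, ← mul_smul_comm, h.NN, mul_one]
  have hNN' : ∀ Y : R2, (2 : F) • (N * (N * Y)) = Y := fun Y => by
    rw [← mul_assoc, ← smul_mul_assoc, h.NN, one_mul]
  have k0 : (12 : F) • (p₀ * p₀) = 1 := by
    have h1 : (12 : F) • (p₀ * p₀) = (2 : F) • (((3 : F) • (p₀ * p₀) + (12 : F) • (q₀ * q₀)) +
      ((3 : F) • (p₀ * p₀) - (12 : F) • (q₀ * q₀))) := by module
    rw [h1, h.s0, h.e00, hq]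
    have h2 : (2 : F) • ((1 : R2) + -((2 * L) • (c + τ) • 1)) = (2 - L * (4 * (c + τ))) • 1 := by module
    rw [h2, h4, ← sq, h.L2]
    norm_num
  have k1 : q₁ = 0 := by
    have e1 : (9 : F) • (p₀ * p₀ * (N * q₁)) = (2 : F) • (N * q₁) := by
      calc (9 : F) • (p₀ * p₀ * (N * q₁)) = (3 : F) • (p₀ * ((3 : F) • (p₀ * N * q₁))) := by
            rw [mul_smul_comm, smul_smul, ← mul_assoc, ← mul_assoc, ← mul_assoc]; norm_num
        _ = (2 * L) • (((3 : F) • (p₀ * N * q₁)) * N) := by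
            rw [h.e02, mul_smul_comm, smul_mul_assoc, ← mul_assoc, ← mul_assoc, smul_comm, ← smul_mul_assoc, h.e02,
              smul_mul_assoc]
        _ = (2 * L ^ 2) • ((2 : F) • (N * q₁ * N * N)) := by
            rw [h.e02, smul_mul_assoc, smul_smul, smul_smul]
            congr 1
            ring
        _ = _ := by rw [hNN, h.L2, mul_one]
    have e2 : (36 : F) • (p₀ * p₀ * (N * q₁)) = (3 : F) • (N * q₁) := by
      have : (36 : F) • (p₀ * p₀ * (N * q₁)) = (3 : F) • (((12 : F) • (p₀ * p₀)) * (N * q₁)) := by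
        rw [smul_mul_assoc, smul_smul]; norm_num
      rw [this, k0, one_mul]
    have e3 : (5 : F) • (N * q₁) = 0 := by
      have : (5 : F) • (N * q₁) = (4 : F) • ((2 : F) • (N * q₁)) - (3 : F) • (N * q₁) := by module
      rw [this, ← e1, ← e2, smul_smul]
      norm_num
    have e4 := (smul_eq_zero.1 e3).resolve_left h5
    rw [← hNN' q₁, e4, mul_zero, smul_zero]
  have k2 : q₂ = 0 := by
    have e1 : (9 : F) • (q₂ * N * (p₀ * p₀)) = (2 : F) • (q₂ * N) := by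
      calc (9 : F) • (q₂ * N * (p₀ * p₀)) = (3 : F) • (((3 : F) • (q₂ * N * p₀)) * p₀) := by
            rw [smul_mul_assoc, smul_smul, ← mul_assoc]; norm_num
        _ = (2 * L) • (N * ((3 : F) • (q₂ * N * p₀))) := by
            rw [h.e20, mul_smul_comm, smul_mul_assoc, smul_comm, mul_assoc N q₂ N, mul_assoc N, ← mul_smul_comm, h.e20,
              mul_smul_comm, mul_assoc N q₂ N]
        _ = (2 * L ^ 2) • ((2 : F) • (N * (N * (q₂ * N)))) := by
            rw [h.e20, mul_smul_comm, smul_smul, smul_smul, mul_assoc N q₂ N]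
            congr 1
            ring
        _ = _ := by rw [hNN', h.L2, mul_one]
    have e2 : (36 : F) • (q₂ * N * (p₀ * p₀)) = (3 : F) • (q₂ * N) := by
      have : (36 : F) • (q₂ * N * (p₀ * p₀)) = (3 : F) • ((q₂ * N) * ((12 : F) • (p₀ * p₀))) := by
        rw [mul_smul_comm, smul_smul]; norm_num
      rw [this, k0, mul_one]
    have e3 : (5 : F) • (q₂ * N) = 0 := by
      have : (5 : F) • (q₂ * N) = (4 : F) • ((2 : F) • (q₂ * N)) - (3 : F) • (q₂ * N) := by module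
      rw [this, ← e1, ← e2, smul_smul]
      norm_num
    have e4 := (smul_eq_zero.1 e3).resolve_left h5
    rw [← hNN q₂, e4, zero_mul, smul_zero]
  have hω := h.hω
  have j1 : (2 * c - τ) • (1 : R2) = 0 := by
    have e1 : q₁ + q₂ = (2 : F) • (X * X) + (ω ^ 2 + ω + 1) • (Z * N * X - X * N * Z) - (Z * N * X - X * N * Z) := by
      rw [h.hq1, h.hq2]; module
    rw [hω, zero_smul, hτ, hc, k1, k2] at e1
    have : (2 * c - τ) • (1 : R2) = (2 : F) • c • (1 : R2) + 0 - τ • (1 : R2) := by module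
    rw [this, ← e1, add_zero]
  have j2 := smul_one_eq_zero j1
  have hθ := theta_ne' hω h.h3
  have j3 : Z * N * X + X * N * Z = 0 := by
    have e1 : q₁ - q₂ = (ω - ω ^ 2) • (Z * N * X + X * N * Z) := by
      rw [h.hq1, h.hq2]; module
    rw [k1, k2, sub_zero] at e1
    exact (smul_eq_zero.1 e1.symm).resolve_left hθ
  have j4 : Z * N * X = c • 1 := by
    apply smul_cancel h.h2
    have : (2 : F) • (Z * N * X) = (Z * N * X - X * N * Z) + (Z * N * X + X * N * Z) := by module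
    rw [this, hτ, j3, add_zero, smul_smul, sub_eq_zero.1 j2]
  have j5 : (c ^ 2) • N = c • (Z * X) := by
    have e1 : Z * (Z * N * X) * X = (Z * Z) * N * (X * X) := by noncomm_ring
    rw [j4, hc, hc', mul_smul_comm, mul_one, smul_mul_assoc, smul_mul_assoc, one_mul, mul_smul_comm, mul_one, smul_smul,
      ← sq] at e1
    exact e1.symm
  have j6 : c * (Z * X).trace = 0 := by
    have := congrArg Matrix.trace j5
    rw [Matrix.trace_smul, Matrix.trace_smul, tN, smul_zero, smul_eq_mul] at this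
    exact this.symm
  have j7 : 3 * (2 * (Z * X).trace) = 2 := by
    have := congrArg Matrix.trace h.XZ
    rw [Matrix.trace_smul, Matrix.trace_add, Matrix.trace_mul_comm X Z, Matrix.trace_one, Fintype.card_fin, smul_eq_mul,
      ← two_mul] at this
    exact_mod_cast this
  have j8 : 2 * c = 0 := by linear_combination (6 : F) * j6 - c * j7
  have j9 := (mul_eq_zero.1 j8).resolve_left h.h2
  apply h.L0
  rw [← h4]
  linear_combination (12 : F) * j9 - 4 * j2

/-- the second case -/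
theorem case_two (hI : Irr X Z N) {c τ : F} (h5 : (5 : F) ≠ 0) (hc : X * X = c • 1) (hc' : Z * Z = c • 1)
    (hτ' : (Z * X - X * Z) * N + N * (Z * X - X * Z) = -((2 * τ) • 1)) (hq : q₀ = (c + τ) • 1)
    (tN : N.trace = 0) (h4 : 6 * (c + τ) = -L) : False := by
  have hω := h.hω
  have hω3 : ω ^ 3 = 1 := by linear_combination (ω - 1) * hω
  have hL2 := h.L2
  have hNN : ∀ Y : R2, (2 : F) • (Y * N * N) = Y := fun Y => by
    rw [mul_assoc, ← mul_smul_comm, h.NN, mul_one]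
  have hNN' : ∀ Y : R2, (2 : F) • (N * (N * Y)) = Y := fun Y => by
    rw [← mul_assoc, ← smul_mul_assoc, h.NN, one_mul]
  have hNq : N * q₀ * N = (c + τ) • (N * N) := by
    rw [hq, mul_smul_comm, smul_mul_assoc, mul_one]
  have e11' : (3 : F) • (p₁ * p₁) - (12 : F) • (q₁ * q₂) = (4 * L * (c + τ)) • 1 := by
    rw [h.e11, hNq, ← h.NN, smul_smul, smul_smul]
    congr 1
    ring
  have k1 : (18 : F) • (p₁ * p₁) = 1 := by
    have h1 : (18 : F) • (p₁ * p₁) = (3 : F) • (((3 : F) • (p₁ * p₁) + (12 : F) • (q₁ * q₂)) +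
      ((3 : F) • (p₁ * p₁) - (12 : F) • (q₁ * q₂))) := by module
    rw [h1, h.s1, e11']
    have h2 : (3 : F) • ((1 : R2) + (4 * L * (c + τ)) • 1) = (3 + 2 * L * (6 * (c + τ))) • 1 := by module
    rw [h2, h4]
    have : 3 + 2 * L * -L = 1 := by linear_combination (-2 : F) * hL2
    rw [this, one_smul]
  have k12 : (72 : F) • (q₁ * q₂) = (5 : F) • 1 := by
    have h1 : (72 : F) • (q₁ * q₂) = (3 : F) • (((3 : F) • (p₁ * p₁) + (12 : F) • (q₁ * q₂)) -
      ((3 : F) • (p₁ * p₁) - (12 : F) • (q₁ * q₂))) := by module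
    rw [h1, h.s1, e11']
    have h2 : (3 : F) • ((1 : R2) - (4 * L * (c + τ)) • 1) = (3 - 2 * L * (6 * (c + τ))) • 1 := by module
    rw [h2, h4]
    congr 1
    linear_combination (2 : F) * hL2
  have k21 : (72 : F) • (q₂ * q₁) = (5 : F) • 1 := by
    have h1 : ((5 : F)⁻¹ • ((72 : F) • q₁)) * q₂ = 1 := by
      rw [smul_mul_assoc, smul_mul_assoc, k12, smul_smul, inv_mul_cancel₀ h5, one_smul]
    have h2 := mul_eq_one_comm.1 h1
    rw [mul_smul_comm, mul_smul_comm] at h2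
    have h3 := congrArg (fun Y => (5 : F) • Y) h2
    simp only [smul_smul, ← mul_assoc] at h3
    rw [mul_inv_cancel₀ h5, one_mul] at h3
    exact h3
  -- `p₂ = -(L/3) N`
  have k2 : (3 : F) • p₂ = -(L • N) := by
    have h1 : (6 : F) • (p₂ * N) = -(L • 1) := by
      apply smul_cancel h5
      have e1 : (5 : F) • (6 : F) • (p₂ * N) = (72 : F) • (((6 : F) • (p₂ * N * q₂)) * q₁) := by
        have : ((6 : F) • (p₂ * N * q₂)) * q₁ = (6 : F) • (p₂ * N * (q₂ * q₁)) := by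
          rw [smul_mul_assoc, mul_assoc]
        rw [this, smul_comm (72 : F), ← mul_smul_comm (72 : F), k21, mul_smul_comm, mul_one, smul_comm]
      have e2 : (72 : F) • ((-(L • q₂)) * q₁) = (5 : F) • -(L • (1 : R2)) := by
        rw [neg_mul, smul_mul_assoc, smul_neg, smul_comm, k21, smul_neg, smul_comm]
      rw [e1, h.e21, e2]
    have h2 : (3 : F) • p₂ = ((6 : F) • (p₂ * N)) * N := by
      nth_rewrite 1 [← hNN p₂]
      rw [smul_smul, smul_mul_assoc]
      norm_num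
    rw [h2, h1, neg_mul, smul_mul_assoc, one_mul]
  -- `p₀`
  have trXNX : (X * N * X).trace = 0 := by
    rw [Matrix.trace_mul_cycle, hc, smul_mul_assoc, one_mul, Matrix.trace_smul, tN, smul_zero]
  have trZNZ : (Z * N * Z).trace = 0 := by
    rw [Matrix.trace_mul_cycle, hc', smul_mul_assoc, one_mul, Matrix.trace_smul, tN, smul_zero]
  have tp1 : p₁.trace = 0 := by
    rw [h.hp1, Matrix.trace_sub, Matrix.trace_sub, Matrix.trace_sub, Matrix.trace_smul, Matrix.trace_smul, trXNX, trZNZ,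
      Matrix.trace_mul_comm, sub_self, smul_zero, smul_zero, sub_zero, sub_zero]
  obtain ⟨κ, hκ⟩ : ∃ κ : F, p₁ * N + N * p₁ = κ • 1 := ⟨_, anti tp1 tN⟩
  have k3 : p₀ * N = -((2 : F) • (N * p₁)) := by
    have h1 := h.e01
    rw [hq, smul_mul_assoc, smul_mul_assoc, one_mul, smul_smul, h4] at h1
    apply smul_cancel h.L0
    have : L • (p₀ * N) = L • (p₀ * N + N * p₁) - L • (N * p₁) := by module
    rw [this, ← h1]
    module
  have k4 : p₀ = (2 : F) • p₁ - (4 * κ) • N := by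
    have h1 : p₀ = (2 : F) • ((p₀ * N) * N) := (hNN p₀).symm
    have h2 : p₁ * N = κ • 1 - N * p₁ := eq_sub_of_add_eq hκ
    rw [h1, k3, neg_mul, smul_mul_assoc, mul_assoc, h2, mul_sub, mul_smul_comm, mul_one]
    have h3 : (2 : F) • -((2 : F) • (κ • N - N * (N * p₁))) =
      (2 : F) • ((2 : F) • (N * (N * p₁))) - (4 * κ) • N := by module
    rw [h3, hNN']
  -- the products
  obtain ⟨G, hG⟩ : ∃ G, G = Z * X - X * Z := ⟨_, rfl⟩
  have g1 : (9 : F) • G = (9 : F) • p₁ - (12 * κ + L) • N := by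
    have e1 : (3 : F) • G = p₀ + p₁ + p₂ + (2 * (ω ^ 2 + ω + 1)) • (X * N * X) + (2 * (ω ^ 2 + ω + 1)) • (Z * N * Z) := by
      rw [hG, h.hp0, h.hp1, h.hp2]; module
    rw [hω, mul_zero, zero_smul, zero_smul, add_zero, add_zero] at e1
    have e2 : (9 : F) • G = (3 : F) • p₀ + (3 : F) • p₁ + (3 : F) • p₂ := by
      have : (9 : F) • G = (3 : F) • ((3 : F) • G) := by rw [smul_smul]; norm_num
      rw [this, e1, smul_add, smul_add]
    rw [e2, k4, k2]
    module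
  have g2 : (18 : F) • (X * N * X) = -((6 + 3 * ω) • p₁ - (12 * κ + ω ^ 2 * L) • N) := by
    have e1 : p₀ + ω • p₁ + ω ^ 2 • p₂ = (ω ^ 2 + ω + 1) • (Z * X - X * Z) -
        (2 * (1 + ω ^ 3 + ω ^ 3)) • (X * N * X) - (2 * (1 + ω ^ 2 + ω ^ 3 * ω)) • (Z * N * Z) := by
      rw [h.hp0, h.hp1, h.hp2]; module
    rw [hω, hω3, zero_smul, zero_sub] at e1
    have e3 : 2 * (1 + ω ^ 2 + 1 * ω) = 0 := by linear_combination (2 : F) * hω
    rw [e3, zero_smul, sub_zero] at e1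
    have e2 : (18 : F) • (X * N * X) = -((3 : F) • p₀ + (3 * ω) • p₁ + ω ^ 2 • ((3 : F) • p₂)) := by
      have : (18 : F) • (X * N * X) = -((3 : F) • -((2 * (1 + 1 + 1) : F) • (X * N * X))) := by module
      rw [this, ← e1]
      module
    rw [e2, k4, k2]
    module
  have g3 : (18 : F) • (Z * N * Z) = -((6 + 3 * ω ^ 2) • p₁ - (12 * κ + ω * L) • N) := by
    have e1 : p₀ + ω ^ 2 • p₁ + ω • p₂ = (ω ^ 2 + ω + 1) • (Z * X - X * Z) -
        (2 * (1 + ω ^ 3 * ω + ω ^ 2)) • (X * N * X) - (2 * (1 + ω ^ 3 + ω ^ 3)) • (Z * N * Z) := by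
      rw [h.hp0, h.hp1, h.hp2]; module
    rw [hω, hω3, zero_smul, zero_sub] at e1
    have e3 : 2 * (1 + 1 * ω + ω ^ 2) = 0 := by linear_combination (2 : F) * hω
    rw [e3, zero_smul, neg_zero, zero_sub] at e1
    have e2 : (18 : F) • (Z * N * Z) = -((3 : F) • p₀ + (3 * ω ^ 2) • p₁ + ω • ((3 : F) • p₂)) := by
      have : (18 : F) • (Z * N * Z) = -((3 : F) • -((2 * (1 + 1 + 1) : F) • (Z * N * Z))) := by module
      rw [this, ← e1]
      module
    rw [e2, k4, k2]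
    module
  have sqf : ∀ a b : F, (18 : F) • ((a • p₁ - b • N) * (a • p₁ - b • N)) = (a ^ 2 + 9 * b ^ 2 - 18 * a * b * κ) • 1 := by
    intro a b
    have e1 : (a • p₁ - b • N) * (a • p₁ - b • N) = a ^ 2 • (p₁ * p₁) + b ^ 2 • (N * N) - (a * b) • (p₁ * N + N * p₁) := by
      simp only [sub_mul, mul_sub, smul_mul_assoc, mul_smul_comm]
      module
    have e2 : (18 : F) • (a ^ 2 • (p₁ * p₁) + b ^ 2 • (N * N) - (a * b) • (p₁ * N + N * p₁)) =
      a ^ 2 • ((18 : F) • (p₁ * p₁)) + (9 * b ^ 2) • ((2 : F) • (N * N)) - (18 * a * b) • (p₁ * N + N * p₁) := by module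
    rw [e1, e2, k1, h.NN, hκ]
    module
  have sqX : (2 : F) • ((X * N * X) * (X * N * X)) = c ^ 2 • 1 := by
    have e1 : (X * N * X) * (X * N * X) = X * (N * (X * X) * N) * X := by noncomm_ring
    rw [e1, hc, mul_smul_comm, mul_one, smul_mul_assoc, mul_smul_comm, smul_mul_assoc]
    have e2 : (2 : F) • c • (X * (N * N) * X) = c • (X * ((2 : F) • (N * N)) * X) := by
      rw [mul_smul_comm, smul_mul_assoc, smul_comm]
    rw [e2, h.NN, mul_one, hc, smul_smul, sq]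
  have sqZ : (2 : F) • ((Z * N * Z) * (Z * N * Z)) = c ^ 2 • 1 := by
    have e1 : (Z * N * Z) * (Z * N * Z) = Z * (N * (Z * Z) * N) * Z := by noncomm_ring
    rw [e1, hc', mul_smul_comm, mul_one, smul_mul_assoc, mul_smul_comm, smul_mul_assoc]
    have e2 : (2 : F) • c • (Z * (N * N) * Z) = c • (Z * ((2 : F) • (N * N)) * Z) := by
      rw [mul_smul_comm, smul_mul_assoc, smul_comm]
    rw [e2, h.NN, mul_one, hc', smul_smul, sq]
  -- the scalar equations
  have f0 : 18 * τ = 3 * κ + L := by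
    have e1 : (9 : F) • (G * N + N * G) = (9 : F) • (p₁ * N + N * p₁) - (12 * κ + L) • ((2 : F) • (N * N)) := by
      have : (9 : F) • (G * N + N * G) = ((9 : F) • G) * N + N * ((9 : F) • G) := by
        rw [smul_mul_assoc, mul_smul_comm, smul_add]
      rw [this, g1]
      simp only [sub_mul, mul_sub, smul_mul_assoc, mul_smul_comm]
      module
    rw [hκ, h.NN, hG, hτ'] at e1
    have e2 : -(18 * τ) = 9 * κ - (12 * κ + L) := by
      apply smul_one_eq
      have : (-(18 * τ)) • (1 : R2) = (9 : F) • -((2 * τ) • 1) := by module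
      rw [this, e1]
      module
    linear_combination -e2
  have f1 : 18 * c = -(4 * L + 3 * κ) := by linear_combination (3 : F) * h4 - f0
  have h9 : (9 : F) ≠ 0 := by
    rw [show (9 : F) = 3 * 3 by norm_num]
    exact mul_ne_zero h.h3 h.h3
  have f2 : (2 + ω) ^ 2 + (12 * κ + ω ^ 2 * L) ^ 2 - 6 * (2 + ω) * (12 * κ + ω ^ 2 * L) * κ - (4 * L + 3 * κ) ^ 2 = 0 := by
    have e1 : (18 : F) • (((18 : F) • (X * N * X)) * ((18 : F) • (X * N * X))) = (9 * (18 * c) ^ 2) • 1 := by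
      rw [smul_mul_smul_comm, smul_smul]
      have : (18 * (18 * 18) : F) • (X * N * X * (X * N * X)) = (9 * 18 * 18 : F) • ((2 : F) • (X * N * X * (X * N * X))) := by
        rw [smul_smul]; norm_num
      rw [this, sqX, smul_smul]
      congr 1
      ring
    rw [g2, neg_mul_neg, sqf] at e1
    have e2 := smul_one_eq e1
    have e3 : (9 : F) * ((2 + ω) ^ 2 + (12 * κ + ω ^ 2 * L) ^ 2 - 6 * (2 + ω) * (12 * κ + ω ^ 2 * L) * κ -
        (4 * L + 3 * κ) ^ 2) = 0 := by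
      linear_combination e2 + 9 * (18 * c - (4 * L + 3 * κ)) * f1
    exact (mul_eq_zero.1 e3).resolve_left h9
  have f3 : (2 + ω ^ 2) ^ 2 + (12 * κ + ω * L) ^ 2 - 6 * (2 + ω ^ 2) * (12 * κ + ω * L) * κ - (4 * L + 3 * κ) ^ 2 = 0 := by
    have e1 : (18 : F) • (((18 : F) • (Z * N * Z)) * ((18 : F) • (Z * N * Z))) = (9 * (18 * c) ^ 2) • 1 := by
      rw [smul_mul_smul_comm, smul_smul]
      have : (18 * (18 * 18) : F) • (Z * N * Z * (Z * N * Z)) = (9 * 18 * 18 : F) • ((2 : F) • (Z * N * Z * (Z * N * Z))) := by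
        rw [smul_smul]; norm_num
      rw [this, sqZ, smul_smul]
      congr 1
      ring
    rw [g3, neg_mul_neg, sqf] at e1
    have e2 := smul_one_eq e1
    have e3 : (9 : F) * ((2 + ω ^ 2) ^ 2 + (12 * κ + ω * L) ^ 2 - 6 * (2 + ω ^ 2) * (12 * κ + ω * L) * κ -
        (4 * L + 3 * κ) ^ 2) = 0 := by
      linear_combination e2 + 9 * (18 * c - (4 * L + 3 * κ)) * f1
    exact (mul_eq_zero.1 e3).resolve_left h9
  have hθ := theta_ne' hω h.h3
  have f4 : 3 * κ + L = 0 := by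
    have e1 : (4 * (ω - ω ^ 2)) * ((3 * κ + L) * (6 * κ - L)) = 0 := by
      linear_combination f3 - f2 - (4 * ω - 3 * ω ^ 2 - ω ^ 4) * hL2
    have e2 := (mul_eq_zero.1 e1).resolve_left (mul_ne_zero (by
      rw [show (4 : F) = 2 * 2 by norm_num]
      exact mul_ne_zero h.h2 h.h2) hθ)
    have e3 : (6 : F) * ((3 * κ + L) * (3 * κ - 5 * L)) = 0 := by
      linear_combination f3 + f2 + (-ω ^ 2 * L ^ 2 - ω ^ 2 + ω * L ^ 2 + 12 * ω * L * κ + ω - L ^ 2 - 24 * L * κ +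
        72 * κ ^ 2 - 5) * hω + 3 * hL2
    have e4 := (mul_eq_zero.1 e3).resolve_left h.h6
    have e5 : (9 * L) * (3 * κ + L) = 0 := by linear_combination e2 - 2 * e4
    exact (mul_eq_zero.1 e5).resolve_left (mul_ne_zero h9 h.L0)
  have f5 : 6 * c = -L := by
    have : (3 : F) * (6 * c + L) = 0 := by linear_combination f1 - f4
    have := (mul_eq_zero.1 this).resolve_left h.h3
    linear_combination this
  have f6 : 2 * τ = 0 := by
    have : (9 : F) * (2 * τ) = 0 := by linear_combination f0 + f4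
    exact (mul_eq_zero.1 this).resolve_left h9
  have hGG : G * G = 0 := by
    have e1 := h.GG hc
    rw [← hG] at e1
    have e2 : 1 - 36 * c ^ 2 = 0 := by linear_combination -hL2 + (L - 6 * c) * f5
    rw [e2, zero_smul] at e1
    exact (smul_eq_zero.1 e1).resolve_left h9
  have hGX := h.GX hc
  have hGZ := h.GZ hc
  rw [← hG] at hGX hGZ
  have hGN : G * N = -(N * G) := by
    rw [← hG, f6, zero_smul, neg_zero] at hτ'
    exact eq_neg_of_add_eq_zero_left hτ'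
  by_cases hG0 : G = 0
  · have hXZ : X * Z = Z * X := by rw [hG0] at hG; exact (sub_eq_zero.1 hG.symm).symm
    have e1 : (6 : F) • (X * Z) = 1 := by
      rw [← h.XZ, hXZ]; module
    have e2 : Z = -(L • X) := by
      have e3 : X = -(L • Z) := by
        calc X = X * ((6 : F) • (X * Z)) := by rw [e1, mul_one]
          _ = (6 : F) • ((X * X) * Z) := by rw [mul_smul_comm, mul_assoc]
          _ = (6 * c) • Z := by rw [hc, smul_mul_assoc, one_mul, smul_smul]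
          _ = _ := by rw [f5, neg_smul]
      have e4 : -(L • X) = (L ^ 2) • Z := by
        nth_rewrite 1 [e3]
        module
      rw [e4, hL2, one_smul]
    have e3 : Z * N * Z = X * N * X := by
      have : Z * N * Z = (L ^ 2) • (X * N * X) := by
        rw [e2]
        simp only [neg_mul, mul_neg, smul_mul_assoc, mul_smul_comm]
        module
      rw [this, hL2, one_smul]
    have e4 : p₂ = (2 : F) • (X * N * X) := by
      have : p₂ = G - (2 * (ω ^ 2 + ω + 1) - 2) • (X * N * X) := by rw [hG, h.hp2, e3]; module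
      rw [this, hG0, hω]
      module
    have e5 : (6 : F) • (X * N * X) = -(L • N) := by
      rw [← k2, e4, smul_smul]; norm_num
    have e6 : L • (N * X) = L • (X * N) := by
      have e7 : X * ((6 : F) • (X * N * X)) = (6 * c) • (N * X) := by
        have : X * (X * N * X) = (X * X) * (N * X) := by noncomm_ring
        rw [mul_smul_comm, this, hc, smul_mul_assoc, one_mul, smul_smul]
      rw [e5, f5, mul_neg, mul_smul_comm, neg_smul] at e7
      exact (neg_injective e7).symm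
    have e7 := smul_cancel h.L0 e6
    exact h.X_not_sc hI (hI.comm X rfl hXZ e7.symm)
  · have hdet : G.det = 0 := by
      have := congrArg Matrix.det hGG
      rw [Matrix.det_mul, Matrix.det_zero] at this
      exact mul_self_eq_zero.1 this
    obtain ⟨v, hv, hGv⟩ := Matrix.exists_mulVec_eq_zero_iff.2 hdet
    have key : ∀ Y : R2, G * Y = -(Y * G) → ∃ a : F, Y *ᵥ v = a • v := by
      intro Y hY
      have e1 : G *ᵥ (Y *ᵥ v) = 0 := by
        rw [Matrix.mulVec_mulVec, hY, Matrix.neg_mulVec, ← Matrix.mulVec_mulVec, hGv, Matrix.mulVec_zero, neg_zero]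
      exact ker_line hG0 hv hGv e1
    exact hI.irr v hv (key X hGX) (key Z hGZ) (key N hGN)

/-- **characteristic different from five is impossible** -/
theorem false_of (hI : Irr X Z N) (h5 : (5 : F) ≠ 0) : False := by
  obtain ⟨c, τ, hc, hc', hτ, hτ', hq, -, -, tN, h24⟩ := h.c_of hI
  have h1 : (4 * (c + τ) - L) * (6 * (c + τ) + L) = 0 := by
    linear_combination h24 - h.L2
  rcases mul_eq_zero.1 h1 with h2 | h2
  · exact h.case_one h5 hc hc' hτ hq tN (sub_eq_zero.1 h2)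
  · exact h.case_two hI h5 hc hc' hτ' hq tN (eq_neg_of_add_eq_zero_left h2)

end Eqs

end two

end Cfsg.Agent.H825.A7x
end

-- part: H825/A7x/Red
section
/-!
# `6.A₇` in dimension twelve: from `3 × 3` blocks to the three matrices (helper825)
-/

set_option autoImplicit false
set_option linter.unusedSectionVars false

namespace Cfsg.Agent.H825.A7x

open Matrix Cfsg.Agent.H890.A7

section gen

variable {F : Type*} [Field F] {R : Type*} [Ring R] [Algebra F R] {ω : F}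

/-- circulant -/
def ci (y₀ y₁ y₂ : R) : Matrix (Fin 3) (Fin 3) R := !![y₀, y₂, y₁; y₁, y₀, y₂; y₂, y₁, y₀]

theorem ci_entries (y₀ y₁ y₂ : R) : ci y₀ y₁ y₂ 0 0 = y₀ ∧ ci y₀ y₁ y₂ 0 1 = y₂ ∧ ci y₀ y₁ y₂ 0 2 = y₁ ∧
    ci y₀ y₁ y₂ 1 0 = y₁ ∧ ci y₀ y₁ y₂ 1 1 = y₀ ∧ ci y₀ y₁ y₂ 1 2 = y₂ ∧ ci y₀ y₁ y₂ 2 0 = y₂ ∧ ci y₀ y₁ y₂ 2 1 = y₁ ∧
    ci y₀ y₁ y₂ 2 2 = y₀ := ⟨rfl, rfl, rfl, rfl, rfl, rfl, rfl, rfl, rfl⟩

theorem K_eq3 (hω : ω ^ 2 + ω + 1 = 0) (x d₀ d₁ d₂ t : R) :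
    gm ω x * dg d₀ d₁ d₂ * (gm ω x * rm t) = ci (x * (d₀ + d₁ + d₂) * (x * t))
      (x * (d₀ + ω ^ 2 • d₁ + ω • d₂) * (x * t)) (x * (d₀ + ω • d₁ + ω ^ 2 • d₂) * (x * t)) := by
  obtain ⟨a00, a01, a02, a10, a11, a12, a20, a21, a22⟩ := gm_entries hω x
  obtain ⟨r00, r01, r02, r10, r11, r12, r20, r21, r22⟩ := rm_entries t
  obtain ⟨k00, k01, k02, k10, k11, k12, k20, k21, k22⟩ := dg_entries d₀ d₁ d₂
  obtain ⟨p00, p01, p02, p10, p11, p12, p20, p21, p22⟩ := ci_entries (x * (d₀ + d₁ + d₂) * (x * t))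
      (x * (d₀ + ω ^ 2 • d₁ + ω • d₂) * (x * t)) (x * (d₀ + ω • d₁ + ω ^ 2 • d₂) * (x * t))
  have e1 : ω ^ 2 * ω ^ 2 = ω := by linear_combination (ω ^ 2 - ω) * hω
  have e2 : ω * ω ^ 2 = 1 := by linear_combination (ω - 1) * hω
  have e3 : ω ^ 2 * ω = 1 := by linear_combination (ω - 1) * hω
  have e4 : ω * ω = ω ^ 2 := by ring
  apply ext3 <;> simp only [mul3, p00, p01, p02, p10, p11, p12, p20, p21, p22] <;>
    simp only [a00, a01, a02, a10, a11, a12, a20, a21, a22, r00, r01, r02, r10, r11, r12, r20, r21, r22,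
      k00, k01, k02, k10, k11, k12, k20, k21, k22, mul_zero, add_zero, zero_add, mul_add, add_mul,
      smul_mul_assoc, mul_smul_comm, smul_smul, e1, e2, e3, e4, one_smul, mul_assoc]

/-- the relation of order six -/
theorem r6_neg {k g : R} {L : F} (kk : k * k = -1) (hss : (g * g) * (g * g) = -1)
    (r6 : (k * (g * k * (g * (g * g)))) ^ 3 = L • (g * g)) :
    k * (g * k * (g * (g * g))) * k = -(L • ((g * g) * ((g * k * (g * (g * g))) * k * (g * k * (g * (g * g)))))) := by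
  have hKK : (g * k * (g * (g * g))) * (g * k * (g * (g * g))) = -1 := by
    calc _ = g * k * ((g * g) * (g * g)) * k * (g * (g * g)) := by noncomm_ring
      _ = -(g * (k * k) * (g * (g * g))) := by rw [hss]; noncomm_ring
      _ = (g * g) * (g * g) := by rw [kk]; noncomm_ring
      _ = -1 := hss
  generalize g * k * (g * (g * g)) = K at *
  have h1 : (K * k * K) * (K * k * K) = -1 := by
    calc _ = K * k * (K * K) * k * K := by noncomm_ring
      _ = -(K * (k * k) * K) := by rw [hKK]; noncomm_ring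
      _ = K * K := by rw [kk]; noncomm_ring
      _ = -1 := hKK
  calc k * K * k = -(k * K * k * ((K * k * K) * (K * k * K))) := by rw [h1, mul_neg, neg_neg, mul_one]
    _ = -((k * K) ^ 3 * (K * k * K)) := by
      rw [pow_succ, pow_two]; noncomm_ring
    _ = _ := by rw [r6, smul_mul_assoc]

/-- products with `diag(x, x, x)` -/
theorem dg_ci (x y₀ y₁ y₂ : R) : dg x x x * ci y₀ y₁ y₂ = ci (x * y₀) (x * y₁) (x * y₂) := by
  obtain ⟨k00, k01, k02, k10, k11, k12, k20, k21, k22⟩ := dg_entries x x x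
  obtain ⟨p00, p01, p02, p10, p11, p12, p20, p21, p22⟩ := ci_entries y₀ y₁ y₂
  obtain ⟨r00, r01, r02, r10, r11, r12, r20, r21, r22⟩ := ci_entries (x * y₀) (x * y₁) (x * y₂)
  apply ext3 <;> simp only [mul3, p00, p01, p02, p10, p11, p12, p20, p21, p22, r00, r01, r02, r10, r11, r12, r20, r21,
    r22, k00, k01, k02, k10, k11, k12, k20, k21, k22, zero_mul, add_zero, zero_add]

theorem ci_dg (x y₀ y₁ y₂ : R) : ci y₀ y₁ y₂ * dg x x x = ci (y₀ * x) (y₁ * x) (y₂ * x) := by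
  obtain ⟨k00, k01, k02, k10, k11, k12, k20, k21, k22⟩ := dg_entries x x x
  obtain ⟨p00, p01, p02, p10, p11, p12, p20, p21, p22⟩ := ci_entries y₀ y₁ y₂
  obtain ⟨r00, r01, r02, r10, r11, r12, r20, r21, r22⟩ := ci_entries (y₀ * x) (y₁ * x) (y₂ * x)
  apply ext3 <;> simp only [mul3, p00, p01, p02, p10, p11, p12, p20, p21, p22, r00, r01, r02, r10, r11, r12, r20, r21,
    r22, k00, k01, k02, k10, k11, k12, k20, k21, k22, mul_zero, add_zero, zero_add]

theorem dg_mul' (x y z x' y' z' : R) : dg x y z * dg x' y' z' = dg (x * x') (y * y') (z * z') := by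
  obtain ⟨X00, X01, X02, X10, X11, X12, X20, X21, X22⟩ := dg_entries x y z
  obtain ⟨Y00, Y01, Y02, Y10, Y11, Y12, Y20, Y21, Y22⟩ := dg_entries x' y' z'
  obtain ⟨Z00, Z01, Z02, Z10, Z11, Z12, Z20, Z21, Z22⟩ := dg_entries (x * x') (y * y') (z * z')
  apply ext3 <;> simp only [mul3, X00, X01, X02, X10, X11, X12, X20, X21, X22, Y00, Y01, Y02, Y10, Y11, Y12, Y20, Y21,
    Y22, Z00, Z01, Z02, Z10, Z11, Z12, Z20, Z21, Z22, mul_zero, zero_mul, add_zero, zero_add]

theorem dg_rm (x y : R) : dg x x x * rm y = rm (x * y) := by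
  obtain ⟨k00, k01, k02, k10, k11, k12, k20, k21, k22⟩ := dg_entries x x x
  obtain ⟨p00, p01, p02, p10, p11, p12, p20, p21, p22⟩ := rm_entries y
  obtain ⟨r00, r01, r02, r10, r11, r12, r20, r21, r22⟩ := rm_entries (x * y)
  apply ext3 <;> simp only [mul3, p00, p01, p02, p10, p11, p12, p20, p21, p22, r00, r01, r02, r10, r11, r12, r20, r21,
    r22, k00, k01, k02, k10, k11, k12, k20, k21, k22, mul_zero, zero_mul, add_zero, zero_add]

theorem rm_dg (x y : R) : rm y * dg x x x = rm (y * x) := by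
  obtain ⟨k00, k01, k02, k10, k11, k12, k20, k21, k22⟩ := dg_entries x x x
  obtain ⟨p00, p01, p02, p10, p11, p12, p20, p21, p22⟩ := rm_entries y
  obtain ⟨r00, r01, r02, r10, r11, r12, r20, r21, r22⟩ := rm_entries (y * x)
  apply ext3 <;> simp only [mul3, p00, p01, p02, p10, p11, p12, p20, p21, p22, r00, r01, r02, r10, r11, r12, r20, r21,
    r22, k00, k01, k02, k10, k11, k12, k20, k21, k22, mul_zero, zero_mul, add_zero, zero_add]

theorem smul_dg (c : F) (x y z : R) : c • dg x y z = dg (c • x) (c • y) (c • z) := by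
  obtain ⟨k00, k01, k02, k10, k11, k12, k20, k21, k22⟩ := dg_entries x y z
  obtain ⟨r00, r01, r02, r10, r11, r12, r20, r21, r22⟩ := dg_entries (c • x) (c • y) (c • z)
  apply ext3 <;> simp only [Matrix.smul_apply, r00, r01, r02, r10, r11, r12, r20, r21,
    r22, k00, k01, k02, k10, k11, k12, k20, k21, k22, smul_zero]

theorem smul_ci (c : F) (x y z : R) : c • ci x y z = ci (c • x) (c • y) (c • z) := by
  obtain ⟨k00, k01, k02, k10, k11, k12, k20, k21, k22⟩ := ci_entries x y z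
  obtain ⟨r00, r01, r02, r10, r11, r12, r20, r21, r22⟩ := ci_entries (c • x) (c • y) (c • z)
  apply ext3 <;> simp only [Matrix.smul_apply, r00, r01, r02, r10, r11, r12, r20, r21,
    r22, k00, k01, k02, k10, k11, k12, k20, k21, k22]

theorem smul_rm (c : F) (x : R) : c • rm x = rm (c • x) := by
  obtain ⟨k00, k01, k02, k10, k11, k12, k20, k21, k22⟩ := rm_entries x
  obtain ⟨r00, r01, r02, r10, r11, r12, r20, r21, r22⟩ := rm_entries (c • x)
  apply ext3 <;> simp only [Matrix.smul_apply, r00, r01, r02, r10, r11, r12, r20, r21,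
    r22, k00, k01, k02, k10, k11, k12, k20, k21, k22, smul_zero]

seal _root_.Finset.sum _root_.dotProduct _root_.npowRec in
/-- the relation in the form `3 E C E = L R t C E C` -/
theorem rel_E (hω : ω ^ 2 + ω + 1 = 0) {L s : F} {x t d₀ d₁ d₂ f₀ f₁ f₂ E₀ E₁ E₂ : R}
    (ht : t = (3 : F) • (x * x)) (tt : t * t = -1) (h00 : d₀ * d₀ = -1) (h11 : d₁ * d₁ = -1) (h22 : d₂ * d₂ = -1)
    (r6 : (dg d₀ d₁ d₂ * (gm ω x * dg d₀ d₁ d₂ * (gm ω x * (gm ω x * gm ω x)))) ^ 3 = L • (gm ω x * gm ω x))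
    (hf0 : s • (d₀ + d₁ + d₂) = (3 : F) • f₀) (hf1 : s • (d₀ + ω • d₁ + ω ^ 2 • d₂) = (3 : F) • f₁)
    (hf2 : s • (d₀ + ω ^ 2 • d₁ + ω • d₂) = (3 : F) • f₂)
    (hE0 : E₀ = -(x * t * (s • d₀) * x)) (hE1 : E₁ = -(x * t * (s • d₁) * x)) (hE2 : E₂ = -(x * t * (s • d₂) * x)) :
    (3 : F) • (dg E₀ E₁ E₂ * ci f₀ f₂ f₁ * dg E₀ E₁ E₂) =
      L • (rm t * (ci f₀ f₂ f₁ * dg E₀ E₁ E₂ * ci f₀ f₂ f₁)) := by
  have hxt : x * t = t * x := by rw [ht, mul_smul_comm, smul_mul_assoc, mul_assoc]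
  have hs : gm ω x * gm ω x = rm t := by rw [gm_mul_gm hω, ht]
  have hrr : rm t * rm t = (-1 : Matrix (Fin 3) (Fin 3) R) := by
    obtain ⟨r00, r01, r02, r10, r11, r12, r20, r21, r22⟩ := rm_entries t
    apply ext3 <;> simp only [mul3, r00, r01, r02, r10, r11, r12, r20, r21, r22, tt] <;> simp
  have hkk : dg d₀ d₁ d₂ * dg d₀ d₁ d₂ = (-1 : Matrix (Fin 3) (Fin 3) R) := by
    obtain ⟨k00, k01, k02, k10, k11, k12, k20, k21, k22⟩ := dg_entries d₀ d₁ d₂
    apply ext3 <;> simp only [mul3, k00, k01, k02, k10, k11, k12, k20, k21, k22, h00, h11, h22] <;> simp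
  have h1 := r6_neg hkk (by rw [hs, hrr]) r6
  rw [hs, K_eq3 hω] at h1
  obtain ⟨k, hk⟩ : ∃ k, k = s • dg d₀ d₁ d₂ := ⟨_, rfl⟩
  obtain ⟨C, hC⟩ : ∃ C, C = ci f₀ f₂ f₁ := ⟨_, rfl⟩
  obtain ⟨K, hK⟩ : ∃ K, K = ci (x * (d₀ + d₁ + d₂) * (x * t)) (x * (d₀ + ω ^ 2 • d₁ + ω • d₂) * (x * t))
    (x * (d₀ + ω • d₁ + ω ^ 2 • d₂) * (x * t)) := ⟨_, rfl⟩
  have hsK : s • K = (3 : F) • (dg x x x * C * (dg x x x * dg t t t)) := by
    rw [hK, hC, dg_mul', dg_ci, ci_dg, smul_ci, smul_ci]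
    have e : ∀ y f : R, s • y = (3 : F) • f → s • (x * y * (x * t)) = (3 : F) • (x * f * (x * t)) := by
      intro y f hy
      rw [← smul_mul_assoc, ← mul_smul_comm, hy, mul_smul_comm, smul_mul_assoc]
    rw [e _ _ hf0, e _ _ hf2, e _ _ hf1]
  have hE : dg E₀ E₁ E₂ = -(dg x x x * dg t t t * k * dg x x x) := by
    rw [hk, smul_dg, dg_mul', dg_mul', dg_mul', hE0, hE1, hE2]
    obtain ⟨k00, k01, k02, k10, k11, k12, k20, k21, k22⟩ := dg_entries (-(x * t * (s • d₀) * x))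
      (-(x * t * (s • d₁) * x)) (-(x * t * (s • d₂) * x))
    obtain ⟨l00, l01, l02, l10, l11, l12, l20, l21, l22⟩ := dg_entries (x * t * (s • d₀) * x)
      (x * t * (s • d₁) * x) (x * t * (s • d₂) * x)
    apply ext3 <;> simp only [Matrix.neg_apply, l00, l01, l02, l10, l11, l12, l20, l21, l22,
      k00, k01, k02, k10, k11, k12, k20, k21, k22, neg_zero]
  have h2 : k * (s • K) * k = -(L • (rm t * ((s • K) * k * (s • K)))) := by
    rw [← hK] at h1
    have e1 : k * (s • K) * k = (s * s * s) • (dg d₀ d₁ d₂ * K * dg d₀ d₁ d₂) := by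
      rw [hk]
      simp only [smul_mul_assoc, mul_smul_comm, smul_smul]
      rw [mul_assoc s s s]
    have e2 : -(L • (rm t * ((s • K) * k * (s • K)))) =
        (s * s * s) • -(L • (rm t * (K * dg d₀ d₁ d₂ * K))) := by
      rw [hk]
      simp only [smul_mul_assoc, mul_smul_comm, smul_neg, smul_smul]
      congr 2
      ring
    rw [e1, e2, h1]
  obtain ⟨X, hX⟩ : ∃ X, X = dg x x x := ⟨_, rfl⟩
  obtain ⟨T, hT⟩ : ∃ T, T = dg t t t := ⟨_, rfl⟩
  rw [← hX, ← hT] at hsK hE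
  rw [← hC, hE]
  rw [hsK] at h2
  have c1 : (3 : F) • (X * T * X) = -1 := by
    rw [hX, hT, dg_mul', dg_mul', smul_dg]
    have : (3 : F) • (x * t * x) = -1 := by
      rw [mul_assoc, ← hxt, ← mul_assoc, ← smul_mul_assoc, ← ht, tt]
    rw [this]
    apply ext3 <;> simp [dg]
  have c2 : (3 : F) • (X * T * rm t * X) = -(rm t) := by
    rw [hX, hT, dg_mul', dg_rm, rm_dg, smul_rm]
    have : (3 : F) • (x * t * t * x) = -t := by
      rw [mul_assoc x t t, tt, mul_neg, mul_one, neg_mul, smul_neg, ← ht]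
    rw [this]
    obtain ⟨l00, l01, l02, l10, l11, l12, l20, l21, l22⟩ := rm_entries (-t)
    obtain ⟨k00, k01, k02, k10, k11, k12, k20, k21, k22⟩ := rm_entries t
    apply ext3 <;> simp only [Matrix.neg_apply, l00, l01, l02, l10, l11, l12, l20, l21, l22,
      k00, k01, k02, k10, k11, k12, k20, k21, k22, neg_zero]
  -- multiply by `X T` and `X`
  have h4 : (3 : F) • (-(X * T * k * X) * C * -(X * T * k * X)) =
      (X * T) * (k * ((3 : F) • (X * C * (X * T))) * k) * X := by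
    simp only [mul_smul_comm, smul_mul_assoc]
    congr 1
    noncomm_ring
  rw [h4, h2]
  have h5 : (X * T) * -(L • (rm t * (((3 : F) • (X * C * (X * T))) * k * ((3 : F) • (X * C * (X * T)))))) * X =
      L • (((3 : F) • (X * T * rm t * X)) * (C * -(X * T * k * X) * C) * ((3 : F) • (X * T * X))) := by
    simp only [mul_smul_comm, smul_mul_assoc, mul_neg, neg_mul, smul_neg]
    congr 1
    congr 1
    congr 1
    congr 1
    noncomm_ring
  rw [h5, c1, c2]
  congr 1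
  noncomm_ring

/-! ### the second block decomposition -/

/-- `s d_m` -/
def SD (u v : F) : Matrix (Fin 2) (Fin 2) R := !![1, u • 1; (2 * v) • 1, -1]

section blk

variable {x t d₀ d₁ d₂ : Matrix (Fin 2) (Fin 2) R} {s : F}

/-- the hypotheses on the blocks -/
structure Blk (ω s : F) (x t d₀ d₁ d₂ : Matrix (Fin 2) (Fin 2) R) : Prop where
  hω : ω ^ 2 + ω + 1 = 0
  h2 : (2 : F) ≠ 0
  h3 : (3 : F) ≠ 0
  hs : s = ω - ω ^ 2
  ht : t = (3 : F) • (x * x)
  tt : t * t = -1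
  t0 : t * d₀ = -(d₀ * t)
  t2 : t * d₂ = -(d₁ * t)
  t1 : t * d₁ = -(d₂ * t)
  h00 : d₀ * d₀ = -1
  h11 : d₁ * d₁ = -1
  h22 : d₂ * d₂ = -1
  e0 : s • d₀ = SD (1 : F) 1
  e1 : s • d₁ = SD ω (ω ^ 2)
  e2 : s • d₂ = SD (ω ^ 2) ω

theorem ss_eq (hω : ω ^ 2 + ω + 1 = 0) (hs : s = ω - ω ^ 2) : s * s = -3 := by
  rw [hs]; linear_combination (ω ^ 2 - 3 * ω + 3) * hω

theorem ext2 {A B : Matrix (Fin 2) (Fin 2) R} (h00 : A 0 0 = B 0 0) (h01 : A 0 1 = B 0 1) (h10 : A 1 0 = B 1 0)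
    (h11 : A 1 1 = B 1 1) : A = B := by
  ext i j
  fin_cases i <;> fin_cases j <;> assumption

theorem mul2 (A B : Matrix (Fin 2) (Fin 2) R) (i j : Fin 2) : (A * B) i j = A i 0 * B 0 j + A i 1 * B 1 j := by
  rw [Matrix.mul_apply, Fin.sum_univ_two]

theorem mk_entries (a b c d : R) : (!![a, b; c, d] : Matrix (Fin 2) (Fin 2) R) 0 0 = a ∧
    (!![a, b; c, d] : Matrix (Fin 2) (Fin 2) R) 0 1 = b ∧ (!![a, b; c, d] : Matrix (Fin 2) (Fin 2) R) 1 0 = c ∧
    (!![a, b; c, d] : Matrix (Fin 2) (Fin 2) R) 1 1 = d := ⟨rfl, rfl, rfl, rfl⟩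

theorem mk_mul (a b c d a' b' c' d' : R) : (!![a, b; c, d] : Matrix (Fin 2) (Fin 2) R) * !![a', b'; c', d'] =
    !![a * a' + b * c', a * b' + b * d'; c * a' + d * c', c * b' + d * d'] := by
  apply ext2 <;> simp only [mul2, mk_entries]

theorem mk_neg (a b c d : R) : -(!![a, b; c, d] : Matrix (Fin 2) (Fin 2) R) = !![-a, -b; -c, -d] := by
  apply ext2 <;> rfl

theorem mk_add (a b c d a' b' c' d' : R) : (!![a, b; c, d] : Matrix (Fin 2) (Fin 2) R) + !![a', b'; c', d'] =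
    !![a + a', b + b'; c + c', d + d'] := by
  apply ext2 <;> rfl

theorem mk_smul (r : F) (a b c d : R) : r • (!![a, b; c, d] : Matrix (Fin 2) (Fin 2) R) =
    !![r • a, r • b; r • c, r • d] := by
  apply ext2 <;> rfl

theorem mk_inj {a b c d a' b' c' d' : R} (h : (!![a, b; c, d] : Matrix (Fin 2) (Fin 2) R) = !![a', b'; c', d']) :
    a = a' ∧ b = b' ∧ c = c' ∧ d = d' :=
  ⟨congrFun (congrFun h 0) 0, congrFun (congrFun h 0) 1, congrFun (congrFun h 1) 0, congrFun (congrFun h 1) 1⟩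

theorem eta2 (A : Matrix (Fin 2) (Fin 2) R) : A = !![A 0 0, A 0 1; A 1 0, A 1 1] := by
  apply ext2 <;> rfl

theorem comb (a b : F) : (SD (1 : F) 1 + a • SD ω (ω ^ 2) + b • SD (ω ^ 2) ω : Matrix (Fin 2) (Fin 2) R) =
    !![(1 + a + b) • 1, (1 + a * ω + b * ω ^ 2) • 1; (2 * (1 + a * ω ^ 2 + b * ω)) • 1, -((1 + a + b) • 1)] := by
  unfold SD
  rw [mk_smul, mk_smul, mk_add, mk_add]
  apply ext2 <;> simp only [mk_entries] <;> module

namespace Blk

variable (h : Blk ω s x t d₀ d₁ d₂)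
include h

theorem h6 : (6 : F) ≠ 0 := by
  rw [show (6 : F) = 2 * 3 by norm_num]; exact mul_ne_zero h.h2 h.h3

theorem c0 : s • (d₀ + d₁ + d₂) = (3 : F) • (!![1, 0; 0, -1] : Matrix (Fin 2) (Fin 2) R) := by
  have e : s • (d₀ + d₁ + d₂) = s • d₀ + (1 : F) • (s • d₁) + (1 : F) • (s • d₂) := by module
  rw [e, h.e0, h.e1, h.e2, comb, mk_smul]
  have z : 1 + 1 * ω + 1 * ω ^ 2 = 0 := by linear_combination h.hω
  have z' : 1 + 1 * ω ^ 2 + 1 * ω = 0 := by linear_combination h.hω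
  rw [z, z']
  apply ext2 <;> simp only [mk_entries] <;> module

theorem c1 : s • (d₀ + ω • d₁ + ω ^ 2 • d₂) = (3 : F) • (!![0, 0; (2 : F) • 1, 0] : Matrix (Fin 2) (Fin 2) R) := by
  have e : s • (d₀ + ω • d₁ + ω ^ 2 • d₂) = s • d₀ + ω • (s • d₁) + ω ^ 2 • (s • d₂) := by module
  have hω := h.hω
  rw [e, h.e0, h.e1, h.e2, comb, mk_smul]
  have z : 1 + ω * ω + ω ^ 2 * ω ^ 2 = 0 := by linear_combination (ω ^ 2 - ω + 1) * hω
  have z' : 1 + ω + ω ^ 2 = 0 := by linear_combination hω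
  have z'' : 2 * (1 + ω * ω ^ 2 + ω ^ 2 * ω) = 6 := by linear_combination (4 * (ω - 1)) * hω
  rw [z, z', z'']
  apply ext2 <;> simp only [mk_entries] <;> module

theorem c2 : s • (d₀ + ω ^ 2 • d₁ + ω • d₂) = (3 : F) • (!![0, 1; 0, 0] : Matrix (Fin 2) (Fin 2) R) := by
  have e : s • (d₀ + ω ^ 2 • d₁ + ω • d₂) = s • d₀ + ω ^ 2 • (s • d₁) + ω • (s • d₂) := by module
  have hω := h.hω
  rw [e, h.e0, h.e1, h.e2, comb, mk_smul]
  have z : 1 + ω ^ 2 * ω + ω * ω ^ 2 = 3 := by linear_combination (2 * (ω - 1)) * hω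
  have z' : 1 + ω ^ 2 + ω = 0 := by linear_combination hω
  have z'' : 2 * (1 + ω ^ 2 * ω ^ 2 + ω * ω) = 0 := by linear_combination (2 * (ω ^ 2 - ω + 1)) * hω
  rw [z, z', z'']
  apply ext2 <;> simp only [mk_entries] <;> module

/-- the shape of `t` -/
theorem t_eq : ∃ N : R, t = !![0, N; -((2 : F) • N), 0] ∧ (2 : F) • (N * N) = 1 := by
  have k1 : t * (s • (d₀ + ω • d₁ + ω ^ 2 • d₂)) = -((s • (d₀ + ω ^ 2 • d₁ + ω • d₂)) * t) := by
    simp only [mul_add, add_mul, smul_add, mul_smul_comm, smul_mul_assoc, h.t0, h.t1, h.t2]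
    module
  have k0 : t * (s • (d₀ + d₁ + d₂)) = -((s • (d₀ + d₁ + d₂)) * t) := by
    simp only [mul_add, add_mul, smul_add, mul_smul_comm, smul_mul_assoc, h.t0, h.t1, h.t2]
    module
  obtain ⟨a, b, c, d, ht⟩ : ∃ a b c d, t = !![a, b; c, d] := ⟨_, _, _, _, eta2 t⟩
  have tt := h.tt
  rw [h.c1, h.c2, ht, mk_smul, mk_smul, mk_mul, mk_mul, mk_neg] at k1
  rw [h.c0, ht, mk_smul, mk_mul, mk_mul, mk_neg] at k0
  obtain ⟨k10, -, -, k13⟩ := mk_inj k1
  obtain ⟨k11, -, k12, -⟩ := mk_inj k1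
  obtain ⟨k00, -, -, k03⟩ := mk_inj k0
  simp only [smul_zero, mul_zero, zero_mul, add_zero, zero_add, mul_smul_comm, smul_mul_assoc, mul_one, one_mul,
    mul_neg, neg_mul, neg_neg, smul_neg, neg_zero] at k10 k11 k12 k13 k00 k03
  have ha : a = 0 := by
    have e : (6 : F) • a = 0 := by
      have : (6 : F) • a = (3 : F) • a + (3 : F) • a := by module
      rw [this]
      nth_rewrite 1 [k00]
      exact neg_add_cancel _
    exact (smul_eq_zero.1 e).resolve_left h.h6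
  have hd : d = 0 := by
    have e : (6 : F) • d = 0 := by
      have : (6 : F) • d = (3 : F) • d + (3 : F) • d := by module
      rw [this]
      nth_rewrite 2 [← k03]
      exact add_neg_cancel _
    exact (smul_eq_zero.1 e).resolve_left h.h6
  have hc : c = -((2 : F) • b) := by
    have e : (3 : F) • c = (3 : F) • -((2 : F) • b) := by
      have : (3 : F) • -((2 : F) • b) = -((3 : F) • (2 : F) • b) := by module
      rw [this, k10, neg_neg]
    exact smul_right_injective _ h.h3 e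
  refine ⟨b, by rw [ht, ha, hd, hc], ?_⟩
  rw [ht, ha, hd, hc, mk_mul] at tt
  have e := congrFun (congrFun tt 0) 0
  simp only [mk_entries, Matrix.neg_apply, Matrix.one_apply_eq, mul_zero, zero_add, mul_neg, mul_smul_comm] at e
  exact neg_injective e

end Blk

end blk

end gen

end Cfsg.Agent.H825.A7x
end

-- part: H825/A7x/Red2
section
/-!
# `6.A₇` in dimension twelve: the equations for `X, Z, N` (helper825)
-/

set_option autoImplicit false
set_option linter.unusedSectionVars false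
set_option linter.unusedSimpArgs false

namespace Cfsg.Agent.H825.A7x

open Matrix Cfsg.Agent.H890.A7

section gen

variable {F : Type*} [Field F] {R : Type*} [Ring R] [Algebra F R] {ω : F}

/-- the shape of `E_m` -/
def EE (p q q' p' N : R) : Matrix (Fin 2) (Fin 2) R := 
  (!![p, (2 : F) • (q * N); (4 : F) • (N * q'), -((2 : F) • (N * p' * N))] : Matrix (Fin 2) (Fin 2) R)

section blk

variable {x t d₀ d₁ d₂ : Matrix (Fin 2) (Fin 2) R} {s : F}

/-- the shape of `x` -/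
structure Shape (x t : Matrix (Fin 2) (Fin 2) R) (X Z N : R) : Prop where
  t_eq : t = !![0, N; -((2 : F) • N), 0]
  x_eq : x = !![X, Z * N; -((2 : F) • (N * Z)), (2 : F) • (N * X * N)]
  NN : (2 : F) • (N * N) = 1
  XX : X * X = Z * Z
  XZ : (3 : F) • (X * Z + Z * X) = 1

theorem half {N : R} (h2 : (2 : F) ≠ 0) (hN : (2 : F) • (N * N) = 1) : N * N = (2 : F)⁻¹ • 1 := by
  rw [← hN, smul_smul, inv_mul_cancel₀ h2, one_smul]

theorem half' {N : R} (h2 : (2 : F) ≠ 0) (hN : (2 : F) • (N * N) = 1) (Y : R) : N * (N * Y) = (2 : F)⁻¹ • Y := by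
  rw [← mul_assoc, half h2 hN, smul_mul_assoc, one_mul]

theorem Blk.shape (h : Blk ω s x t d₀ d₁ d₂) : ∃ X Z N : R, Shape (F := F) x t X Z N := by
  obtain ⟨N, ht, hN⟩ := h.t_eq
  have n2 := half h.h2 hN
  have n3 := half' h.h2 hN
  obtain ⟨x00, x01, x10, x11, hx⟩ : ∃ a b c d, x = !![a, b; c, d] := ⟨_, _, _, _, eta2 x⟩
  have hxt : x * t = t * x := by rw [h.ht, mul_smul_comm, smul_mul_assoc, mul_assoc]
  rw [hx, ht, mk_mul, mk_mul] at hxt
  obtain ⟨k0, k1, k2, k3⟩ := mk_inj hxt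
  simp only [mul_zero, zero_mul, add_zero, zero_add, mul_neg, neg_mul, mul_smul_comm, smul_mul_assoc] at k0 k1 k2 k3
  have h2 := h.h2
  have e11 : x11 = (2 : F) • (N * x00 * N) := by
    rw [mul_assoc, k1, n3, smul_smul, mul_inv_cancel₀ h2, one_smul]
  have e01 : x01 = ((2 : F) • (x01 * N)) * N := by
    rw [smul_mul_assoc, mul_assoc, n2, mul_smul_comm, smul_smul, mul_inv_cancel₀ h2, one_smul, mul_one]
  have e10 : x10 = -((2 : F) • (N * ((2 : F) • (x01 * N)))) := by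
    have e : -((2 : F) • (N * ((2 : F) • (x01 * N)))) = (2 : F) • (N * -((2 : F) • (x01 * N))) := by
      rw [mul_neg, smul_neg]
    rw [e, k0, n3, smul_smul, mul_inv_cancel₀ h2, one_smul]
  obtain ⟨Z, hZ⟩ : ∃ Z, Z = (2 : F) • (x01 * N) := ⟨_, rfl⟩
  rw [← hZ] at e01 e10
  have hx' : x = !![x00, Z * N; -((2 : F) • (N * Z)), (2 : F) • (N * x00 * N)] := by
    rw [hx, ← e01, ← e10, ← e11]
  have h3 : (3 : F) • (x * x) = t := h.ht.symm
  rw [hx', ht, mk_mul, mk_smul] at h3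
  obtain ⟨j0, j1, -, -⟩ := mk_inj h3
  refine ⟨x00, Z, N, ht, hx', hN, ?_, ?_⟩
  · have e : (3 : F) • (x00 * x00 - Z * Z) = 0 := by
      rw [← j0]
      simp only [mul_neg, mul_smul_comm, mul_assoc, n3]
      simp only [smul_smul, mul_inv_cancel₀ h2, one_smul]
      rw [sub_eq_add_neg]
    exact sub_eq_zero.1 ((smul_eq_zero.1 e).resolve_left h.h3)
  · have e : (3 : F) • (x00 * Z + Z * x00) * N = N := by
      conv_rhs => rw [← j1]
      simp only [mul_neg, mul_smul_comm, mul_assoc, n3, smul_mul_assoc, add_mul]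
      simp only [smul_smul, mul_inv_cancel₀ h2, one_smul]
    calc (3 : F) • (x00 * Z + Z * x00) = (2 : F) • (((3 : F) • (x00 * Z + Z * x00) * N) * N) := by
          rw [mul_assoc, ← mul_smul_comm, hN, mul_one]
      _ = 1 := by rw [e, hN]

theorem Shape.E_eq {X Z N : R} (h2 : (2 : F) ≠ 0) (S : Shape (F := F) x t X Z N) (u v : F) :
    -(x * t * SD u v * x) = EE (F := F) ((Z * X - X * Z) - (2 * v) • (X * N * X) - (2 * u) • (Z * N * Z))
      (X * X + u • (Z * N * X) - v • (X * N * Z)) (X * X + v • (Z * N * X) - u • (X * N * Z))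
      ((Z * X - X * Z) - (2 * u) • (X * N * X) - (2 * v) • (Z * N * Z)) N := by
  have n2 := half h2 S.NN
  have n3 := half' h2 S.NN
  have n4 : Z * Z = X * X := S.XX.symm
  have n5 : ∀ Y : R, Z * (Z * Y) = X * (X * Y) := fun Y => by rw [← mul_assoc, n4, mul_assoc]
  rw [S.t_eq, S.x_eq, SD, EE, mk_mul, mk_mul, mk_mul, mk_neg]
  congr 1
  simp only [mul_assoc, mul_neg, neg_mul, mul_smul_comm, smul_mul_assoc, mul_zero, zero_mul, add_zero, zero_add,
    mul_add, add_mul, mul_sub, sub_mul, mul_one, one_mul, n3, n2, n4, n5, smul_smul]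
  have e : ∀ (a b c d a' b' c' d' : R), a = a' → b = b' → c = c' → d = d' →
      (![![a, b], ![c, d]] : Fin 2 → Fin 2 → R) = ![![a', b'], ![c', d']] := by
    rintro a b c d a' b' c' d' rfl rfl rfl rfl; rfl
  apply e <;> match_scalars <;> field_simp <;> ring

/-- the nine equations -/
theorem nine_eqs {L : F} {N p₀ p₁ p₂ q₀ q₁ q₂ : R} (h2 : (2 : F) ≠ 0) (h3 : (3 : F) ≠ 0) (hN : (2 : F) • (N * N) = 1)
    {t f₀ f₁ f₂ E₀ E₁ E₂ : Matrix (Fin 2) (Fin 2) R} (ht : t = !![0, N; -((2 : F) • N), 0])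
    (hf0 : f₀ = !![1, 0; 0, -1]) (hf1 : f₁ = !![0, 0; (2 : F) • 1, 0]) (hf2 : f₂ = !![0, 1; 0, 0])
    (hE0 : E₀ = EE (F := F) p₀ q₀ q₀ p₀ N) (hE1 : E₁ = EE (F := F) p₁ q₁ q₂ p₂ N) (hE2 : E₂ = EE (F := F) p₂ q₂ q₁ p₁ N)
    (hE : (3 : F) • (dg E₀ E₁ E₂ * ci f₀ f₂ f₁ * dg E₀ E₁ E₂) =
      L • (rm t * (ci f₀ f₂ f₁ * dg E₀ E₁ E₂ * ci f₀ f₂ f₁))) :
    (3 : F) • (p₀ * p₀) - (12 : F) • (q₀ * q₀) = -((2 * L) • q₀) ∧
    (6 : F) • (q₁ * N * p₂) = -(L • q₁) ∧
    (6 : F) • (p₂ * N * q₂) = -(L • q₂) ∧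
    (6 : F) • (q₀ * N * p₁) = L • (p₀ * N + N * p₁) ∧
    (6 : F) • (p₁ * N * q₀) = L • (p₁ * N + N * p₀) ∧
    (3 : F) • (p₂ * p₂) - (12 : F) • (q₂ * q₁) = (2 * L) • (p₂ * N + N * p₂) ∧
    (3 : F) • (p₀ * N * q₁) = (2 * L) • (N * q₁ * N) ∧
    (3 : F) • (q₂ * N * p₀) = (2 * L) • (N * q₂ * N) ∧
    (3 : F) • (p₁ * p₁) - (12 : F) • (q₁ * q₂) = (8 * L) • (N * q₀ * N) := by
  have n2 := half h2 hN
  have n3 := half' h2 hN
  have h6 : (6 : F) ≠ 0 := by
    rw [show (6 : F) = 2 * 3 by norm_num]; exact mul_ne_zero h2 h3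
  obtain ⟨k00, k01, k02, k10, k11, k12, k20, k21, k22⟩ := dg_entries E₀ E₁ E₂
  obtain ⟨c00, c01, c02, c10, c11, c12, c20, c21, c22⟩ := ci_entries f₀ f₂ f₁
  obtain ⟨r00, r01, r02, r10, r11, r12, r20, r21, r22⟩ := rm_entries t
  have key : ∀ i j, (3 : F) • (dg E₀ E₁ E₂ * ci f₀ f₂ f₁ * dg E₀ E₁ E₂ : Matrix (Fin 3) (Fin 3) _) i j =
      L • (rm t * (ci f₀ f₂ f₁ * dg E₀ E₁ E₂ * ci f₀ f₂ f₁) : Matrix (Fin 3) (Fin 3) _) i j := fun i j =>
    congrFun (congrFun hE i) j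
  have b00 := key 0 0
  have b01 := key 0 1
  have b02 := key 0 2
  have b10 := key 1 0
  have b11 := key 1 1
  have b12 := key 1 2
  have b20 := key 2 0
  have b21 := key 2 1
  have b22 := key 2 2
  simp only [mul3, k00, k01, k02, k10, k11, k12, k20, k21, k22, c00, c01, c02, c10, c11, c12, c20, c21, c22,
    r00, r01, r02, r10, r11, r12, r20, r21, r22, zero_mul, mul_zero, add_zero, zero_add]
    at b00 b01 b02 b10 b11 b12 b20 b21 b22
  simp only [hf0, hf1, hf2, hE0, hE1, hE2, EE, ht, mk_mul, mk_add, mk_smul] at b00 b01 b02 b10 b11 b12 b20 b21 b22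
  have a00 := (mk_inj b00).1
  have a01 := (mk_inj b01).1
  have a02 := (mk_inj b02).1
  have a10 := (mk_inj b10).1
  have a11 := (mk_inj b11).1
  have a12 := (mk_inj b12).1
  have a20 := (mk_inj b20).1
  have a21 := (mk_inj b21).1
  have a22 := (mk_inj b22).1
  clear b00 b01 b02 b10 b11 b12 b20 b21 b22 k00 k01 k02 k10 k11 k12 k20 k21 k22 c00 c01 c02 c10 c11 c12 c20 c21 c22
    r00 r01 r02 r10 r11 r12 r20 r21 r22 key hE
  simp only [mul_assoc, mul_neg, neg_mul, mul_smul_comm, smul_mul_assoc, mul_zero, zero_mul, add_zero, zero_add,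
    mul_add, add_mul, mul_one, one_mul, n3, n2, smul_smul, smul_neg, neg_neg, neg_zero, smul_zero]
    at a00 a01 a02 a10 a11 a12 a20 a21 a22 ⊢
  have e2 : (2 : F) * 2⁻¹ = 1 := mul_inv_cancel₀ h2
  have e4 : (4 : F) * 2⁻¹ = 2 := by rw [show (4 : F) = 2 * 2 by norm_num, mul_assoc, e2, mul_one]
  simp only [e2, e4, mul_one] at a00 a01 a02 a10 a11 a12 a20 a21 a22
  refine ⟨?_, ?_, ?_, ?_, ?_, ?_, ?_, ?_, ?_⟩
  · linear_combination (norm := module) a00
  · apply smul_right_injective _ h2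
    show (2 : F) • _ = (2 : F) • _
    linear_combination (norm := module) a12
  · apply smul_right_injective _ h2
    show (2 : F) • _ = (2 : F) • _
    linear_combination (norm := module) a21
  · apply smul_right_injective _ h2
    show (2 : F) • _ = (2 : F) • _
    linear_combination (norm := module) a01
  · apply smul_right_injective _ h2
    show (2 : F) • _ = (2 : F) • _
    linear_combination (norm := module) a10
  · linear_combination (norm := module) a22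
  · apply smul_right_injective _ (mul_ne_zero h2 h2)
    show (2 * 2 : F) • _ = (2 * 2 : F) • _
    linear_combination (norm := module) a02
  · apply smul_right_injective _ (mul_ne_zero h2 h2)
    show (2 * 2 : F) • _ = (2 * 2 : F) • _
    linear_combination (norm := module) a20
  · linear_combination (norm := module) a11

theorem EE_sq {h2 : (2 : F) ≠ 0} {N p q q' p' : R} (hN : (2 : F) • (N * N) = 1)
    (h : (3 : F) • (EE (F := F) p q q' p' N * EE (F := F) p q q' p' N) = 1) :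
    (3 : F) • (p * p) + (12 : F) • (q * q') = 1 := by
  have n2 := half h2 hN
  have n3 := half' h2 hN
  have h1 : (1 : Matrix (Fin 2) (Fin 2) R) = !![1, 0; 0, 1] := by
    apply ext2 <;> simp
  rw [EE, mk_mul, mk_smul, h1] at h
  have h3 := (mk_inj h).1
  simp only [mul_assoc, mul_smul_comm, smul_mul_assoc, n3, smul_smul] at h3
  have e2 : (2 : F) * 2⁻¹ = 1 := mul_inv_cancel₀ h2
  rw [e2, mul_one] at h3
  linear_combination (norm := module) h3

theorem sq_aux {A : Type*} [Ring A] [Algebra F A] {x t D : A} (ht : t = (3 : F) • (x * x)) (tt : t * t = -1)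
    (hD : D * D = (3 : F) • 1) : (3 : F) • (-(x * t * D * x) * -(x * t * D * x)) = 1 := by
  have hxt : x * t = t * x := by rw [ht, mul_smul_comm, smul_mul_assoc, mul_assoc]
  calc (3 : F) • (-(x * t * D * x) * -(x * t * D * x)) = x * t * D * ((3 : F) • (x * x)) * t * D * x := by
        simp only [mul_smul_comm, smul_mul_assoc]
        congr 1
        noncomm_ring
    _ = x * t * D * (t * t) * D * x := by rw [← ht]; noncomm_ring
    _ = -(x * t * (D * D) * x) := by rw [tt]; noncomm_ring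
    _ = -((3 : F) • (x * t * x)) := by rw [hD, mul_smul_comm, smul_mul_assoc, mul_one]
    _ = -(((3 : F) • (x * x)) * t) := by rw [smul_mul_assoc, mul_assoc, ← hxt, ← mul_assoc]
    _ = 1 := by rw [← ht, tt, neg_neg]

theorem SD_sq {u v : F} (huv : u * v = 1) : (SD u v * SD u v : Matrix (Fin 2) (Fin 2) R) = (3 : F) • 1 := by
  have h1 : (1 : Matrix (Fin 2) (Fin 2) R) = !![1, 0; 0, 1] := by
    apply ext2 <;> simp
  rw [SD, mk_mul, h1, mk_smul]
  have e : ∀ (a b c d a' b' c' d' : R), a = a' → b = b' → c = c' → d = d' →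
      (!![a, b; c, d] : Matrix (Fin 2) (Fin 2) R) = !![a', b'; c', d'] := by
    rintro a b c d a' b' c' d' rfl rfl rfl rfl; rfl
  apply e <;> simp only [mul_smul_comm, smul_mul_assoc, mul_one, one_mul, mul_neg, neg_mul, neg_neg, smul_smul]
  · have : u * (2 * v) = 2 := by linear_combination 2 * huv
    linear_combination (norm := module) (2 * huv) • (1 : R)
  · module
  · module
  · have : (2 * v) * u = 2 := by linear_combination 2 * huv
    linear_combination (norm := module) (2 * huv) • (1 : R)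

/-- the equations -/
theorem Blk.eqs (h : Blk ω s x t d₀ d₁ d₂) {L : F} (L2 : L ^ 2 = 1)
    (r6 : (dg d₀ d₁ d₂ * (gm ω x * dg d₀ d₁ d₂ * (gm ω x * (gm ω x * gm ω x)))) ^ 3 = L • (gm ω x * gm ω x)) :
    ∃ X Z N p₀ p₁ p₂ q₀ q₁ q₂ : R, Shape (F := F) x t X Z N ∧ Eqs ω L X Z N p₀ p₁ p₂ q₀ q₁ q₂ := by
  obtain ⟨X, Z, N, S⟩ := h.shape
  have hω := h.hω
  have h2 := h.h2
  have h3 := h.h3
  obtain ⟨p₀, hp0⟩ : ∃ p₀, p₀ = (Z * X - X * Z) - (2 : F) • (X * N * X) - (2 : F) • (Z * N * Z) := ⟨_, rfl⟩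
  obtain ⟨p₁, hp1⟩ : ∃ p₁, p₁ = (Z * X - X * Z) - (2 * ω ^ 2) • (X * N * X) - (2 * ω) • (Z * N * Z) := ⟨_, rfl⟩
  obtain ⟨p₂, hp2⟩ : ∃ p₂, p₂ = (Z * X - X * Z) - (2 * ω) • (X * N * X) - (2 * ω ^ 2) • (Z * N * Z) := ⟨_, rfl⟩
  obtain ⟨q₀, hq0⟩ : ∃ q₀, q₀ = X * X + Z * N * X - X * N * Z := ⟨_, rfl⟩
  obtain ⟨q₁, hq1⟩ : ∃ q₁, q₁ = X * X + ω • (Z * N * X) - ω ^ 2 • (X * N * Z) := ⟨_, rfl⟩
  obtain ⟨q₂, hq2⟩ : ∃ q₂, q₂ = X * X + ω ^ 2 • (Z * N * X) - ω • (X * N * Z) := ⟨_, rfl⟩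
  have hE0 : -(x * t * (s • d₀) * x) = EE (F := F) p₀ q₀ q₀ p₀ N := by
    rw [h.e0, S.E_eq h2, hp0, hq0]
    congr 1 <;> module
  have hE1 : -(x * t * (s • d₁) * x) = EE (F := F) p₁ q₁ q₂ p₂ N := by
    rw [h.e1, S.E_eq h2, hp1, hp2, hq1, hq2]
  have hE2 : -(x * t * (s • d₂) * x) = EE (F := F) p₂ q₂ q₁ p₁ N := by
    rw [h.e2, S.E_eq h2, hp1, hp2, hq1, hq2]
  have hrel := rel_E hω (s := s) h.ht h.tt h.h00 h.h11 h.h22 r6 h.c0 h.c1 h.c2 hE0.symm hE1.symm hE2.symm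
  obtain ⟨e00, e12, e21, e01, e10, e22, e02, e20, e11⟩ :=
    nine_eqs (L := L) h2 h3 S.NN S.t_eq rfl rfl rfl rfl rfl rfl hrel
  have ω3 : ω * ω ^ 2 = 1 := by linear_combination (ω - 1) * hω
  have ω3' : ω ^ 2 * ω = 1 := by linear_combination (ω - 1) * hω
  refine ⟨X, Z, N, p₀, p₁, p₂, q₀, q₁, q₂, S, hω, h2, h3, L2, S.NN, S.XX, S.XZ, hp0, hp1, hp2, hq0, hq1, hq2,
    ?_, ?_, ?_, e00, e12, e21, e01, e10, e22, e02, e20, e11⟩
  · refine EE_sq (h2 := h2) (p' := p₀) S.NN ?_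
    rw [← hE0]
    exact sq_aux h.ht h.tt (by rw [h.e0, SD_sq (mul_one 1)])
  · refine EE_sq (h2 := h2) (p' := p₂) S.NN ?_
    rw [← hE1]
    exact sq_aux h.ht h.tt (by rw [h.e1, SD_sq ω3])
  · refine EE_sq (h2 := h2) (p' := p₁) S.NN ?_
    rw [← hE2]
    exact sq_aux h.ht h.tt (by rw [h.e2, SD_sq ω3'])

end blk

end gen

end Cfsg.Agent.H825.A7x
end

-- part: H825/A7x/Units
section
/-!
# Block decompositions of endomorphism algebras (helper825)

* `blkE` : `End W ≃ₐ M_n(End M)` from embeddings `em i : M → W` and projections `pj i : W → M`;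
* `exists_two` : from `f₁² = f₂² = 0`, `f₂ f₁ + f₁ f₂ = 2` an isomorphism `End W ≃ₐ M₂(End M)`.
-/

set_option autoImplicit false
set_option linter.unusedSectionVars false

namespace Cfsg.Agent.H825.A7x

open Matrix

section gen

variable {F W M : Type*} [Field F] [AddCommGroup W] [Module F W] [AddCommGroup M] [Module F M]
  {n : Type*} [Fintype n] [DecidableEq n]

/-- block decomposition -/
def blkE (em : n → (M →ₗ[F] W)) (pj : n → (W →ₗ[F] M)) (h1 : ∀ i j w, pj i (em j w) = if i = j then w else 0)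
    (h2 : ∀ w, ∑ i, em i (pj i w) = w) : Module.End F W ≃ₐ[F] Matrix n n (Module.End F M) where
  toFun T := Matrix.of fun i j => pj i ∘ₗ T ∘ₗ em j
  invFun A := ∑ i, ∑ j, em i ∘ₗ A i j ∘ₗ pj j
  left_inv T := by
    apply LinearMap.ext
    intro w
    simp only [LinearMap.sum_apply, LinearMap.comp_apply, Matrix.of_apply]
    rw [Finset.sum_comm]
    simp only [h2, ← map_sum]
  right_inv A := by
    ext i j w
    simp only [Matrix.of_apply, LinearMap.comp_apply, LinearMap.sum_apply, map_sum, h1]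
    rw [Finset.sum_eq_single i]
    · rw [Finset.sum_eq_single j]
      · rw [if_pos rfl, if_pos rfl]
      · intro l _ hl
        rw [if_pos rfl, if_neg hl, map_zero]
      · intro h; exact absurd (Finset.mem_univ _) h
    · intro l _ hl
      apply Finset.sum_eq_zero
      intro m _
      rw [if_neg (Ne.symm hl)]
    · intro h; exact absurd (Finset.mem_univ _) h
  map_mul' S T := by
    ext i j w
    simp only [Matrix.of_apply, LinearMap.comp_apply, Matrix.mul_apply, LinearMap.sum_apply, Module.End.mul_apply]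
    rw [← map_sum, ← map_sum, h2]
  map_add' S T := by
    ext i j w
    simp only [Matrix.of_apply, LinearMap.comp_apply, Matrix.add_apply, LinearMap.add_apply, map_add]
  commutes' c := by
    ext i j w
    simp only [Matrix.of_apply, LinearMap.comp_apply, Module.algebraMap_end_apply, map_smul, h1, Matrix.algebraMap_matrix_apply]
    by_cases h : i = j
    · rw [if_pos h, if_pos h]; rfl
    · rw [if_neg h, if_neg h, smul_zero]; rfl

theorem blkE_apply {em : n → (M →ₗ[F] W)} {pj : n → (W →ₗ[F] M)} (h1 : ∀ i j w, pj i (em j w) = if i = j then w else 0)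
    (h2 : ∀ w, ∑ i, em i (pj i w) = w) (T : Module.End F W) (i j : n) (w : M) :
    blkE em pj h1 h2 T i j w = pj i (T (em j w)) := rfl

end gen

section two

variable {F W : Type*} [Field F] [AddCommGroup W] [Module F W]

/-- from two nilpotent elements -/
theorem exists_two (h2 : (2 : F) ≠ 0) {f₁ f₂ : Module.End F W} (h11 : f₁ * f₁ = 0) (h22 : f₂ * f₂ = 0)
    (h12 : f₂ * f₁ + f₁ * f₂ = (2 : F) • 1) : ∃ (M : Submodule F W)
      (θ : Module.End F W ≃ₐ[F] Matrix (Fin 2) (Fin 2) (Module.End F M)),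
      θ f₁ = !![0, 0; (2 : F) • 1, 0] ∧ θ f₂ = !![0, 1; 0, 0] := by
  have a11 : ∀ w, f₁ (f₁ w) = 0 := fun w => congrArg (fun T : Module.End F W => T w) h11
  have a22 : ∀ w, f₂ (f₂ w) = 0 := fun w => congrArg (fun T : Module.End F W => T w) h22
  have a12 : ∀ w, f₂ (f₁ w) + f₁ (f₂ w) = (2 : F) • w := fun w => congrArg (fun T : Module.End F W => T w) h12
  let M : Submodule F W := LinearMap.ker f₂
  have hM : ∀ w : M, f₂ (w : W) = 0 := fun w => w.2
  have hM1 : ∀ w : M, f₂ (f₁ (w : W)) = (2 : F) • (w : W) := fun w => by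
    rw [← a12, hM, map_zero, add_zero]
  let em : Fin 2 → (M →ₗ[F] W) := fun i => if i = 0 then M.subtype else (2 : F)⁻¹ • (f₁ ∘ₗ M.subtype)
  let pj : Fin 2 → (W →ₗ[F] M) := fun i => if i = 0 then LinearMap.codRestrict M ((2 : F)⁻¹ • (f₂ ∘ₗ f₁)) (fun w => by
      show f₂ ((2 : F)⁻¹ • f₂ (f₁ w)) = 0
      rw [map_smul, a22, smul_zero])
    else LinearMap.codRestrict M f₂ (fun w => a22 w)
  have em0 : ∀ w, em 0 w = w := fun w => rfl
  have em1 : ∀ w, em 1 w = (2 : F)⁻¹ • f₁ w := fun w => rfl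
  have pj0 : ∀ w, (pj 0 w : W) = (2 : F)⁻¹ • f₂ (f₁ w) := fun w => rfl
  have pj1 : ∀ w, (pj 1 w : W) = f₂ w := fun w => rfl
  have h1 : ∀ i j w, pj i (em j w) = if i = j then w else 0 := by
    intro i j w
    apply Subtype.ext
    fin_cases i <;> fin_cases j
    · show (pj 0 (em 0 w) : W) = w
      rw [pj0, em0, hM1, smul_smul, inv_mul_cancel₀ h2, one_smul]
    · show (pj 0 (em 1 w) : W) = 0
      rw [pj0, em1, map_smul, map_smul, a11, map_zero, smul_zero, smul_zero]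
    · show (pj 1 (em 0 w) : W) = 0
      rw [pj1, em0, hM]
    · show (pj 1 (em 1 w) : W) = w
      rw [pj1, em1, map_smul, hM1, smul_smul, inv_mul_cancel₀ h2, one_smul]
  have h2' : ∀ w, ∑ i, em i (pj i w) = w := by
    intro w
    rw [Fin.sum_univ_two, em0, em1, pj0, pj1, ← smul_add, a12, smul_smul, inv_mul_cancel₀ h2, one_smul]
  refine ⟨M, blkE em pj h1 h2', ?_, ?_⟩
  · ext i j w
    rw [blkE_apply]
    fin_cases i <;> fin_cases j
    · show (pj 0 (f₁ (em 0 w)) : W) = ((0 : Module.End F M) w : W)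
      rw [pj0, em0, a11, map_zero, smul_zero]; rfl
    · show (pj 0 (f₁ (em 1 w)) : W) = ((0 : Module.End F M) w : W)
      rw [pj0, em1, map_smul, a11, smul_zero, map_zero, map_zero, smul_zero]; rfl
    · show (pj 1 (f₁ (em 0 w)) : W) = (((2 : F) • 1 : Module.End F M) w : W)
      rw [pj1, em0, hM1]; rfl
    · show (pj 1 (f₁ (em 1 w)) : W) = ((0 : Module.End F M) w : W)
      rw [pj1, em1, map_smul, a11, smul_zero, map_zero]; rfl
  · ext i j w
    rw [blkE_apply]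
    fin_cases i <;> fin_cases j
    · show (pj 0 (f₂ (em 0 w)) : W) = ((0 : Module.End F M) w : W)
      rw [pj0, em0, hM, map_zero, map_zero, smul_zero]; rfl
    · show (pj 0 (f₂ (em 1 w)) : W) = ((1 : Module.End F M) w : W)
      rw [pj0, em1, map_smul, hM1, smul_smul, inv_mul_cancel₀ h2, one_smul, hM1, smul_smul, inv_mul_cancel₀ h2,
        one_smul]; rfl
    · show (pj 1 (f₂ (em 0 w)) : W) = ((0 : Module.End F M) w : W)
      rw [pj1, em0, hM, map_zero]; rfl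
    · show (pj 1 (f₂ (em 1 w)) : W) = ((0 : Module.End F M) w : W)
      rw [pj1, a22]; rfl

end two

end Cfsg.Agent.H825.A7x
end

-- part: H825/A7x/Theta
section
/-!
# From the multiplicity space of `3^{1+2}` to `2 × 2` matrices (helper825)
-/

set_option autoImplicit false
set_option linter.unusedSectionVars false
set_option linter.unusedSimpArgs false

namespace Cfsg.Agent.H825.A7x

open Matrix Cfsg.Agent.H890.A7

section map

variable {F : Type*} [Field F] {R S : Type*} [Ring R] [Algebra F R] [Ring S] [Algebra F S] {ω : F}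

theorem map_dg' (θ : R ≃ₐ[F] S) (x y z : R) : θ.mapMatrix (dg x y z) = dg (θ x) (θ y) (θ z) := by
  obtain ⟨k00, k01, k02, k10, k11, k12, k20, k21, k22⟩ := dg_entries x y z
  obtain ⟨r00, r01, r02, r10, r11, r12, r20, r21, r22⟩ := dg_entries (θ x) (θ y) (θ z)
  apply ext3 <;> simp only [AlgEquiv.mapMatrix_apply, Matrix.map_apply, r00, r01, r02, r10, r11, r12, r20, r21, r22,
    k00, k01, k02, k10, k11, k12, k20, k21, k22, map_zero]

theorem map_gm' (θ : R ≃ₐ[F] S) (x : R) : θ.mapMatrix (gm ω x) = gm ω (θ x) := by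
  ext i j
  rw [AlgEquiv.mapMatrix_apply, Matrix.map_apply, gm, gm, Matrix.of_apply, Matrix.of_apply, map_smul]

theorem map_a3' (θ : R ≃ₐ[F] S) : θ.mapMatrix (a3 ω) = a3 ω := by
  ext i j
  rw [AlgEquiv.mapMatrix_apply, Matrix.map_apply, a3_apply, a3_apply]
  split_ifs
  · rw [map_smul, map_one]
  · rw [map_zero]

theorem map_b3' (θ : R ≃ₐ[F] S) : θ.mapMatrix b3 = b3 := by
  ext i j
  rw [AlgEquiv.mapMatrix_apply, Matrix.map_apply, b3_apply, b3_apply]
  split_ifs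
  · rw [map_one]
  · rw [map_zero]

end map

/-- the reduced data on the multiplicity space, `e = -1` -/
structure Dat {F W : Type*} [Field F] [AddCommGroup W] [Module F W] (ω L : F) (x d₀ d₁ d₂ t : Module.End F W) :
    Prop where
  hω : ω ^ 2 + ω + 1 = 0
  h2 : (2 : F) ≠ 0
  h3 : (3 : F) ≠ 0
  L2 : L ^ 2 = 1
  ht : t = (3 : F) • (x * x)
  tt : t * t = -1
  t0 : t * d₀ = -(d₀ * t)
  t2 : t * d₂ = -(d₁ * t)
  t1 : t * d₁ = -(d₂ * t)
  h00 : d₀ * d₀ = -1
  h11 : d₁ * d₁ = -1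
  h22 : d₂ * d₂ = -1
  h21 : d₂ * d₁ = d₀
  h02 : d₀ * d₂ = d₁
  h10 : d₁ * d₀ = d₂
  r6 : (dg d₀ d₁ d₂ * (gm ω x * dg d₀ d₁ d₂ * (gm ω x * (gm ω x * gm ω x)))) ^ 3 = L • (gm ω x * gm ω x)
  irr : ∀ U : Submodule F W, (∀ u ∈ U, x u ∈ U) → (∀ u ∈ U, d₀ u ∈ U) → (∀ u ∈ U, d₁ u ∈ U) → (∀ u ∈ U, d₂ u ∈ U) →
    U = ⊥ ∨ U = ⊤
  comm : ∀ Z : Module.End F W, Z * x = x * Z → Z * d₀ = d₀ * Z → Z * d₁ = d₁ * Z → Z * d₂ = d₂ * Z → ∃ c : F, Z = c • 1

section quat

variable {F A : Type*} [Field F] [Ring A] [Algebra F A] {ω s : F} {d₀ d₁ d₂ : A}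

attribute [-instance] instNoNatZeroDivisorsOfIsAddTorsionFree instIsCharPOfIsLeftCancelAddOfCharP in
theorem quat_units (hω : ω ^ 2 + ω + 1 = 0) (h3 : (3 : F) ≠ 0) (hs : s = ω - ω ^ 2) (h00 : d₀ * d₀ = -1)
    (h11 : d₁ * d₁ = -1) (h22 : d₂ * d₂ = -1) (h21 : d₂ * d₁ = d₀) (h02 : d₀ * d₂ = d₁) (h10 : d₁ * d₀ = d₂) :
    ∃ f₁ f₂ : A, f₁ * f₁ = 0 ∧ f₂ * f₂ = 0 ∧ f₂ * f₁ + f₁ * f₂ = (2 : F) • 1 ∧
      s • d₀ = (f₂ * f₁ - 1) + f₁ + f₂ ∧ s • d₁ = (f₂ * f₁ - 1) + ω ^ 2 • f₁ + ω • f₂ ∧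
      s • d₂ = (f₂ * f₁ - 1) + ω • f₁ + ω ^ 2 • f₂ := by
  have h01 : d₀ * d₁ = -d₂ := by
    rw [← h02, ← mul_assoc, h00, neg_mul, one_mul]
  have h20 : d₂ * d₀ = -d₁ := by
    have : d₂ * d₀ = d₂ * (d₂ * d₁) := by rw [h21]
    rw [this, ← mul_assoc, h22, neg_mul, one_mul]
  have h12 : d₁ * d₂ = -d₀ := by
    have : d₁ * d₂ = d₁ * (d₁ * d₀) := by rw [h10]
    rw [this, ← mul_assoc, h11, neg_mul, one_mul]
  have hss : s * s = -3 := ss_eq hω hs
  have h33 : (3 : F)⁻¹ * 3⁻¹ * (s * s) = -3⁻¹ := by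
    rw [hss, mul_assoc, mul_neg, inv_mul_cancel₀ h3, mul_neg, mul_one]
  have hi : (3 : F)⁻¹ * 3 = 1 := inv_mul_cancel₀ h3
  have ω2 : ω ^ 2 = -1 - ω := by linear_combination hω
  have F1 : ∀ a b c : F, (d₀ + a • d₁ + b • d₂) * (d₀ + c • d₁ + (-1 - c) • d₂) =
      (-1 - a * c + b * (1 + c)) • (1 : A) + (b * c + a * (1 + c)) • d₀ + (-1 - c - b) • d₁ + (a - c) • d₂ := by
    intro a b c
    simp only [add_mul, mul_add, smul_mul_assoc, mul_smul_comm, h00, h11, h22, h21, h02, h10, h01, h20, h12]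
    module
  obtain ⟨f₁, hf1⟩ : ∃ f₁, f₁ = (3⁻¹ * s : F) • (d₀ + ω • d₁ + (-1 - ω) • d₂) := ⟨_, rfl⟩
  obtain ⟨f₂, hf2⟩ : ∃ f₂, f₂ = (3⁻¹ * s : F) • (d₀ + (-1 - ω) • d₁ + (-1 - (-1 - ω)) • d₂) := ⟨_, rfl⟩
  have hs' : s = 2 * ω + 1 := by rw [hs]; linear_combination -hω
  have e3 : (3⁻¹ * s : F) * (3⁻¹ * s) = -3⁻¹ := by rw [← h33]; ring
  have e21 : f₂ * f₁ = 1 + (3⁻¹ * s : F) • (d₀ + d₁ + d₂) := by
    rw [hf1, hf2, smul_mul_smul_comm, F1, e3, hs']
    match_scalars <;> (clear * - hω h3; grobner)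
  have e11 : f₁ * f₁ = 0 := by
    rw [hf1, smul_mul_smul_comm, F1, e3]
    match_scalars <;> (clear * - hω; grobner)
  have e22 : f₂ * f₂ = 0 := by
    rw [hf2, smul_mul_smul_comm, F1, e3]
    match_scalars <;> (clear * - hω; grobner)
  have e12 : f₁ * f₂ = 1 - (3⁻¹ * s : F) • (d₀ + d₁ + d₂) := by
    rw [hf1, hf2, smul_mul_smul_comm, F1, e3, hs']
    match_scalars <;> (clear * - hω h3; grobner)
  refine ⟨f₁, f₂, e11, e22, ?_, ?_, ?_, ?_⟩
  · rw [e21, e12]
    module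
  · rw [e21, hf1, hf2]
    match_scalars <;> (clear * - hω h3 hs; grobner)
  · rw [e21, hf1, hf2]
    match_scalars <;> (clear * - hω h3 hs; grobner)
  · rw [e21, hf1, hf2]
    match_scalars <;> (clear * - hω h3 hs; grobner)

end quat

section theta

variable {F W : Type*} [Field F] [AddCommGroup W] [Module F W] {ω s : F}

theorem finrank_of_blk {M : Type*} [AddCommGroup M] [Module F M] [FiniteDimensional F W] [FiniteDimensional F M]
    (hW : Module.finrank F W = 4) (θ : Module.End F W ≃ₐ[F] Matrix (Fin 2) (Fin 2) (Module.End F M)) :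
    Module.finrank F M = 2 := by
  have h1 := θ.toLinearEquiv.finrank_eq
  have h2 : Module.finrank F (Module.End F W) = Module.finrank F W * Module.finrank F W := Module.finrank_linearMap F F W W
  have h3 : Module.finrank F (Module.End F M) = Module.finrank F M * Module.finrank F M := Module.finrank_linearMap F F M M
  rw [Module.finrank_matrix, h2, h3, hW, Fintype.card_fin] at h1
  have h4 : Module.finrank F M * Module.finrank F M = 2 * 2 := by omega
  exact Nat.mul_self_inj.1 h4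

/-- `End W` as `M₂(M₂(F))` -/
theorem exists_theta [FiniteDimensional F W] (hW : Module.finrank F W = 4) (hω : ω ^ 2 + ω + 1 = 0) (h2 : (2 : F) ≠ 0)
    (h3 : (3 : F) ≠ 0) (hs : s = ω - ω ^ 2) {d₀ d₁ d₂ : Module.End F W} (h00 : d₀ * d₀ = -1)
    (h11 : d₁ * d₁ = -1) (h22 : d₂ * d₂ = -1) (h21 : d₂ * d₁ = d₀) (h02 : d₀ * d₂ = d₁) (h10 : d₁ * d₀ = d₂) :
    ∃ θ : Module.End F W ≃ₐ[F] Matrix (Fin 2) (Fin 2) (Matrix (Fin 2) (Fin 2) F),
      s • θ d₀ = SD (1 : F) 1 ∧ s • θ d₁ = SD ω (ω ^ 2) ∧ s • θ d₂ = SD (ω ^ 2) ω := by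
  obtain ⟨f₁, f₂, k1, k2, k3, k4, k5, k6⟩ := quat_units hω h3 hs h00 h11 h22 h21 h02 h10
  obtain ⟨M, θ₁, t1, t2⟩ := exists_two h2 k1 k2 k3
  have hM := finrank_of_blk hW θ₁
  let b : Module.Basis (Fin 2) F M := Module.finBasisOfFinrankEq F M hM
  obtain ⟨φ, -⟩ : ∃ φ : Module.End F M ≃ₐ[F] Matrix (Fin 2) (Fin 2) F, True := ⟨LinearMap.toMatrixAlgEquiv b, trivial⟩
  refine ⟨θ₁.trans φ.mapMatrix, ?_⟩
  have hmk : ∀ a b c d : Module.End F M, φ.mapMatrix (!![a, b; c, d] : Matrix (Fin 2) (Fin 2) (Module.End F M)) =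
      !![φ a, φ b; φ c, φ d] := by
    intro a b c d
    apply ext2 <;> rfl
  have u1 : (θ₁.trans φ.mapMatrix) f₁ = !![0, 0; (2 : F) • 1, 0] := by
    rw [AlgEquiv.trans_apply, t1, hmk, map_smul, map_one, map_zero]
  have u2 : (θ₁.trans φ.mapMatrix) f₂ = !![0, 1; 0, 0] := by
    rw [AlgEquiv.trans_apply, t2, hmk, map_one, map_zero]
  have h1 : (1 : Matrix (Fin 2) (Fin 2) (Matrix (Fin 2) (Fin 2) F)) = !![1, 0; 0, 1] := by
    apply ext2 <;> simp
  have e : ∀ (a b c d a' b' c' d' : Matrix (Fin 2) (Fin 2) F), a = a' → b = b' → c = c' → d = d' →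
      (!![a, b; c, d] : Matrix (Fin 2) (Fin 2) _) = !![a', b'; c', d'] := by
    rintro a b c d a' b' c' d' rfl rfl rfl rfl; rfl
  refine ⟨?_, ?_, ?_⟩
  · rw [← map_smul, k4, map_add, map_add, map_sub, map_mul, map_one, u1, u2, SD, mk_mul, h1, sub_eq_add_neg, mk_neg,
      mk_add, mk_add, mk_add]
    apply e <;> simp only [mul_zero, zero_mul, zero_add, add_zero, one_mul, mul_smul_comm, mul_one, neg_zero] <;> module
  · rw [← map_smul, k5, map_add, map_add, map_sub, map_mul, map_one, map_smul, map_smul, u1, u2, SD, mk_mul, h1,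
      sub_eq_add_neg, mk_neg, mk_smul, mk_smul, mk_add, mk_add, mk_add]
    apply e <;> simp only [mul_zero, zero_mul, zero_add, add_zero, one_mul, mul_smul_comm, mul_one, neg_zero,
      smul_zero] <;> module
  · rw [← map_smul, k6, map_add, map_add, map_sub, map_mul, map_one, map_smul, map_smul, u1, u2, SD, mk_mul, h1,
      sub_eq_add_neg, mk_neg, mk_smul, mk_smul, mk_add, mk_add, mk_add]
    apply e <;> simp only [mul_zero, zero_mul, zero_add, add_zero, one_mul, mul_smul_comm, mul_one, neg_zero,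
      smul_zero] <;> module

theorem Dat.main [FiniteDimensional F W] {L : F} {x d₀ d₁ d₂ t : Module.End F W} (D : Dat ω L x d₀ d₁ d₂ t)
    (hW : Module.finrank F W = 4) : ∃ (θ : Module.End F W ≃ₐ[F] Matrix (Fin 2) (Fin 2) (Matrix (Fin 2) (Fin 2) F))
      (X Z N p₀ p₁ p₂ q₀ q₁ q₂ : Matrix (Fin 2) (Fin 2) F), Blk ω (ω - ω ^ 2) (θ x) (θ t) (θ d₀) (θ d₁) (θ d₂) ∧
        Shape (F := F) (θ x) (θ t) X Z N ∧ Eqs ω L X Z N p₀ p₁ p₂ q₀ q₁ q₂ ∧ Irr X Z N := by
  obtain ⟨θ, s0, s1, s2⟩ := exists_theta hW D.hω D.h2 D.h3 rfl D.h00 D.h11 D.h22 D.h21 D.h02 D.h10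
  have B : Blk ω (ω - ω ^ 2) (θ x) (θ t) (θ d₀) (θ d₁) (θ d₂) := by
    refine ⟨D.hω, D.h2, D.h3, rfl, ?_, ?_, ?_, ?_, ?_, ?_, ?_, ?_, s0, s1, s2⟩
    · rw [D.ht, map_smul, map_mul]
    · rw [← map_mul, D.tt, map_neg, map_one]
    · rw [← map_mul, D.t0, map_neg, map_mul]
    · rw [← map_mul, D.t2, map_neg, map_mul]
    · rw [← map_mul, D.t1, map_neg, map_mul]
    · rw [← map_mul, D.h00, map_neg, map_one]
    · rw [← map_mul, D.h11, map_neg, map_one]
    · rw [← map_mul, D.h22, map_neg, map_one]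
  obtain ⟨X, Z, N, p₀, p₁, h88⟩ := B.eqs D.L2 (by
    have h1 := congrArg (θ.mapMatrix (m := Fin 3)) D.r6
    rw [map_smul, map_pow, map_mul, map_mul, map_mul, map_mul, map_mul, map_dg', map_gm'] at h1
    exact h1)
  revert h88; rintro ⟨p₂, q₀, q₁, q₂, S, E⟩
  have hs := theta_ne' D.hω D.h3
  obtain ⟨s, hs'⟩ : ∃ s, s = ω - ω ^ 2 := ⟨_, rfl⟩
  rw [← hs'] at hs s0 s1 s2
  have m0 : θ d₀ = s⁻¹ • SD (1 : F) 1 := by rw [← s0, smul_smul, inv_mul_cancel₀ hs, one_smul]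
  have m1 : θ d₁ = s⁻¹ • SD ω (ω ^ 2) := by rw [← s1, smul_smul, inv_mul_cancel₀ hs, one_smul]
  have m2 : θ d₂ = s⁻¹ • SD (ω ^ 2) ω := by rw [← s2, smul_smul, inv_mul_cancel₀ hs, one_smul]
  refine ⟨θ, X, Z, N, p₀, p₁, p₂, q₀, q₁, q₂, B, S, E, ?_, ?_⟩
  · intro Y hX hZ hN
    obtain ⟨Y', hY'⟩ := θ.surjective !![Y, 0; 0, Y]
    have hsd : ∀ u v : F, (!![Y, 0; 0, Y] : Matrix (Fin 2) (Fin 2) (Matrix (Fin 2) (Fin 2) F)) * (s⁻¹ • SD u v) =
        (s⁻¹ • SD u v) * !![Y, 0; 0, Y] := by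
      intro u v
      rw [SD, mk_smul, mk_mul, mk_mul]
      simp only [zero_mul, mul_zero, add_zero, zero_add, mul_smul_comm, smul_mul_assoc, mul_one, one_mul, mul_neg,
        neg_mul, smul_zero, neg_zero]
    have hx : (!![Y, 0; 0, Y] : Matrix (Fin 2) (Fin 2) (Matrix (Fin 2) (Fin 2) F)) * θ x = θ x * !![Y, 0; 0, Y] := by
      have a1 : Y * (Z * N) = Z * N * Y := by rw [← mul_assoc, hZ, mul_assoc, hN, mul_assoc]
      have a2 : Y * (N * Z) = N * Z * Y := by rw [← mul_assoc, hN, mul_assoc, hZ, mul_assoc]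
      have a3 : Y * (N * X * N) = N * X * N * Y := by
        rw [← mul_assoc, ← mul_assoc, hN, mul_assoc N Y, hX, mul_assoc N, mul_assoc X, hN]
        simp only [mul_assoc]
      rw [S.x_eq, mk_mul, mk_mul]
      simp only [zero_mul, mul_zero, add_zero, zero_add, mul_smul_comm, smul_mul_assoc, mul_neg, neg_mul, a1, a2, a3, hX,
        smul_zero, neg_zero]
    obtain ⟨c, hc⟩ := D.comm Y' (θ.injective (by rw [map_mul, map_mul, hY', hx]))
      (θ.injective (by rw [map_mul, map_mul, hY', m0, hsd])) (θ.injective (by rw [map_mul, map_mul, hY', m1, hsd]))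
      (θ.injective (by rw [map_mul, map_mul, hY', m2, hsd]))
    refine ⟨c, ?_⟩
    rw [hc, map_smul, map_one] at hY'
    have h1 := congrFun (congrFun hY' 0) 0
    rw [Matrix.smul_apply, Matrix.one_apply_eq] at h1
    exact h1.symm
  · rintro v hv ⟨a, ha⟩ ⟨b, hb⟩ ⟨c, hc⟩
    obtain ⟨G, hG⟩ : ∃ G : Matrix (Fin 2) (Fin 2) F, ∀ i j, G i j = if j = 0 then v i else 0 :=
      ⟨Matrix.of fun i j => if j = 0 then v i else 0, fun i j => rfl⟩
    have key : ∀ (Y : Matrix (Fin 2) (Fin 2) F) (c : F), Y *ᵥ v = c • v → Y * G = c • G := by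
      intro Y c hY
      ext i j
      rw [Matrix.smul_apply, hG, Matrix.mul_apply]
      by_cases hj : j = 0
      · have h1 := congrFun hY i
        rw [if_pos hj, ← Pi.smul_apply, ← h1, Matrix.mulVec, dotProduct]
        apply Finset.sum_congr rfl
        intro l _
        rw [hG, if_pos hj]
      · rw [if_neg hj, smul_zero]
        apply Finset.sum_eq_zero
        intro l _
        rw [hG, if_neg hj, mul_zero]
    have kX := key X a ha
    have kZ := key Z b hb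
    have kN := key N c hc
    obtain ⟨y, hy⟩ := θ.surjective !![G, 0; 0, G]
    -- invariance
    have inv : ∀ (T : Module.End F W) (A B C E : Matrix (Fin 2) (Fin 2) F) (a' b' c' d' : F), θ T = !![A, B; C, E] →
        A * G = a' • G → B * G = b' • G → C * G = c' • G → E * G = d' • G →
        ∀ u ∈ LinearMap.range y, T u ∈ LinearMap.range y := by
      intro T A B C E a' b' c' d' hT hA hB hC hE
      obtain ⟨T', hT'⟩ := θ.surjective !![a' • 1, b' • 1; c' • 1, d' • 1]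
      have h1 : T * y = y * T' := by
        apply θ.injective
        rw [map_mul, map_mul, hT, hy, hT', mk_mul, mk_mul]
        simp only [zero_mul, mul_zero, add_zero, zero_add, hA, hB, hC, hE, mul_smul_comm, mul_one, smul_zero]
      rintro _ ⟨w, rfl⟩
      exact ⟨T' w, (congrArg (fun S : Module.End F W => S w) h1).symm⟩
    have invd : ∀ (T : Module.End F W) (u v : F), θ T = s⁻¹ • SD u v → ∀ w ∈ LinearMap.range y, T w ∈ LinearMap.range y := by
      intro T u v hT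
      refine inv T _ _ _ _ s⁻¹ (s⁻¹ * u) (s⁻¹ * (2 * v)) (-s⁻¹) (by rw [hT, SD, mk_smul]) ?_ ?_ ?_ ?_
      · rw [smul_mul_assoc, one_mul]
      · rw [smul_smul, smul_mul_assoc, one_mul]
      · rw [smul_smul, smul_mul_assoc, one_mul]
      · rw [smul_mul_assoc, neg_mul, one_mul, smul_neg, neg_smul]
    have h1 := D.irr (LinearMap.range y) (inv x _ _ _ _ a (b * c) (-(2 * (c * b))) (2 * (c * a * c)) S.x_eq kX
      (by rw [mul_assoc, kN, mul_smul_comm, kZ, smul_smul, mul_comm c b])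
      (by rw [neg_mul, smul_mul_assoc, mul_assoc, kZ, mul_smul_comm, kN, smul_smul, smul_smul, neg_smul]; congr 2; ring)
      (by rw [smul_mul_assoc, mul_assoc, kN, mul_smul_comm, mul_assoc, kX, mul_smul_comm, kN, smul_smul, smul_smul, smul_smul]
          congr 1; ring)) (invd _ _ _ m0) (invd _ _ _ m1) (invd _ _ _ m2)
    rcases h1 with h1 | h1
    · rw [LinearMap.range_eq_bot] at h1
      rw [h1, map_zero] at hy
      apply hv
      funext i
      have h2 := congrFun (congrFun (congrFun (congrFun hy 0) 0) i) 0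
      have h3 : G i 0 = 0 := h2.symm
      rw [hG, if_pos rfl] at h3
      exact h3
    · have h2 : Function.Injective y := by
        rw [LinearMap.injective_iff_surjective]
        exact LinearMap.range_eq_top.1 h1
      obtain ⟨z, hz⟩ := θ.surjective !![!![0, 0; 1, 0], 0; 0, !![0, 0; 1, 0]]
      have h3 : y * z = 0 := by
        apply θ.injective
        have h4 : G * (!![0, 0; 1, 0] : Matrix (Fin 2) (Fin 2) F) = 0 := by
          ext i j
          rw [Matrix.mul_apply, Fin.sum_univ_two, hG, hG, if_pos rfl, if_neg (by decide)]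
          (revert j; simp only [_root_.Fin.forall_fin_succ, Fin.isValue, _root_.Matrix.of_apply, _root_.Matrix.cons_val', _root_.Matrix.cons_val_fin_one, _root_.Matrix.cons_val_zero, _root_.Matrix.cons_val_one, _root_.MulZeroClass.zero_mul, _root_.add_zero, _root_.Matrix.zero_apply, _root_.mul_eq_zero, _root_.or_true, _root_.Matrix.cons_val_succ, _root_.implies_true, _root_.and_self])
        rw [map_mul, hy, hz, map_zero, mk_mul, h4]
        apply ext2 <;> simp [h4]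
      have h5 : z = 0 := by
        apply LinearMap.ext
        intro w
        apply h2
        rw [LinearMap.zero_apply, map_zero]
        exact congrArg (fun S : Module.End F W => S w) h3
      rw [h5, map_zero] at hz
      have h6 := congrFun (congrFun (congrFun (congrFun hz 0) 0) 1) 0
      exact zero_ne_one (α := F) h6

end theta

end Cfsg.Agent.H825.A7x
end

-- part: H825/A7x/Blk3
section
/-!
# Block form for `a b = ω b a` on any space (after helper637; helper825)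

`V` a space with endomorphisms `A³ = B³ = 1`, `A B = ω B A`.  With `W = ker (A - 1)` every endomorphism of `V` becomes a
`3 × 3` matrix over `End W`: `rho T i j = π B^(-i) T B^j`.
-/

set_option autoImplicit false
set_option linter.unusedSectionVars false

namespace Cfsg.Agent.H825.A7x.Blk3

open Cfsg.Agent.H890.A7 (a3 b3 dg gm rm fin3 ext3 omega_cube omega_ne)

variable {F V : Type*} [Field F] [AddCommGroup V] [Module F V]

/-- the data -/
structure Sys (A B : Module.End F V) (ω : F) : Prop where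
  hA : A * (A * A) = 1
  hB : B * (B * B) = 1
  hAB : A * B = ω • (B * A)
  hω : ω ^ 2 + ω + 1 = 0
  h3 : (3 : F) ≠ 0

/-- the fixed space of `A` -/
def W (A : Module.End F V) : Submodule F V := LinearMap.ker (A - 1)

theorem mem_W {A : Module.End F V} {v : V} : v ∈ W A ↔ A v = v := by
  rw [W, LinearMap.mem_ker, LinearMap.sub_apply, Module.End.one_apply, sub_eq_zero]

variable {A B : Module.End F V} {ω : F}

namespace Sys

variable (h : Sys A B ω)
include h

theorem AAA (v : V) : A (A (A v)) = v := by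
  have := congrArg (fun T : Module.End F V => T v) h.hA
  exact this

theorem BBB (v : V) : B (B (B v)) = v := by
  have := congrArg (fun T : Module.End F V => T v) h.hB
  exact this

theorem AB (v : V) : A (B v) = ω • B (A v) := by
  have := congrArg (fun T : Module.End F V => T v) h.hAB
  exact this

theorem ω3 : ω ^ 3 = 1 := omega_cube h.hω

theorem pr_mem (v : V) : (3 : F)⁻¹ • (v + A v + A (A v)) ∈ W A := by
  rw [mem_W, map_smul, map_add, map_add, h.AAA]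
  congr 1
  abel

end Sys

/-- the projection onto `W` -/
noncomputable def pr (h : Sys A B ω) : V →ₗ[F] W A where
  toFun v := ⟨(3 : F)⁻¹ • (v + A v + A (A v)), h.pr_mem v⟩
  map_add' u v := by
    apply Subtype.ext
    simp only [map_add, Submodule.coe_add]
    rw [← smul_add]
    congr 1
    abel
  map_smul' c v := by
    apply Subtype.ext
    simp only [map_smul, Submodule.coe_smul, RingHom.id_apply]
    rw [← smul_add, ← smul_add, smul_comm]

theorem pr_coe (h : Sys A B ω) (v : V) : ((pr h v : W A) : V) = (3 : F)⁻¹ • (v + A v + A (A v)) := rfl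

/-- `v ↦ B^j v` -/
noncomputable def em (B : Module.End F V) (A : Module.End F V) (j : Fin 3) : W A →ₗ[F] V :=
  (B ^ (j : ℕ)) ∘ₗ (W A).subtype

/-- `v ↦ π (B^(-i) v)` -/
noncomputable def pj (h : Sys A B ω) (i : Fin 3) : V →ₗ[F] W A :=
  (pr h) ∘ₗ (B ^ (2 * (i : ℕ)))

section
variable (h : Sys A B ω)

theorem em_zero (w : W A) : em B A 0 w = w := rfl
theorem em_one (w : W A) : em B A 1 w = B w := by
  show (B ^ 1) (w : V) = _
  rw [pow_one]
theorem em_two (w : W A) : em B A 2 w = B (B w) := by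
  show (B ^ 2) (w : V) = _
  rw [sq]; rfl

theorem pj_zero (v : V) : pj h 0 v = pr h v := rfl
theorem pj_one (v : V) : pj h 1 v = pr h (B (B v)) := by
  show pr h ((B ^ 2) v) = _
  rw [sq]; rfl
theorem pj_two (v : V) : pj h 2 v = pr h (B v) := by
  show pr h ((B ^ 4) v) = _
  have : (B ^ 4) v = B (B (B (B v))) := rfl
  rw [this, h.BBB]

include h in
theorem A_em (j : Fin 3) (w : W A) : A (em B A j w) = ω ^ (j : ℕ) • em B A j w := by
  have hw : A (w : V) = w := mem_W.1 w.2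
  rcases fin3 j with rfl | rfl | rfl
  · rw [em_zero, hw]; simp
  · rw [em_one, h.AB, hw]; simp
  · rw [em_two, h.AB, h.AB, hw, map_smul, smul_smul]
    show _ = ω ^ 2 • _
    rw [sq]

include h in
theorem B_em (j : Fin 3) (w : W A) : B (em B A j w) = em B A (j + 1) w := by
  rcases fin3 j with rfl | rfl | rfl
  · rw [em_zero]; show _ = em B A 1 w; rw [em_one]
  · rw [em_one]; show _ = em B A 2 w; rw [em_two]
  · rw [em_two, h.BBB]; show _ = em B A 0 w; rw [em_zero]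

theorem pr_em (j : Fin 3) (w : W A) : pr h (em B A j w) = if j = 0 then w else 0 := by
  apply Subtype.ext
  rw [pr_coe, A_em h, map_smul, A_em h, smul_smul]
  have hω := h.hω
  have h3 := h.h3
  rcases fin3 j with rfl | rfl | rfl
  · rw [if_pos rfl, em_zero]
    show (3 : F)⁻¹ • ((w : V) + ω ^ 0 • (w : V) + (ω ^ 0 * ω ^ 0) • (w : V)) = w
    rw [pow_zero, one_smul, mul_one, one_smul]
    have : (w : V) + w + w = (3 : F) • (w : V) := by
      rw [show (3 : F) = 1 + 1 + 1 by norm_num, add_smul, add_smul, one_smul]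
    rw [this, smul_smul, inv_mul_cancel₀ h3, one_smul]
  · rw [if_neg (by decide)]
    show (3 : F)⁻¹ • (em B A 1 w + ω ^ 1 • em B A 1 w + (ω ^ 1 * ω ^ 1) • em B A 1 w) = 0
    have : em B A 1 w + ω ^ 1 • em B A 1 w + (ω ^ 1 * ω ^ 1) • em B A 1 w = (ω ^ 2 + ω + 1) • em B A 1 w := by module
    rw [this, hω, zero_smul, smul_zero]
  · rw [if_neg (by decide)]
    show (3 : F)⁻¹ • (em B A 2 w + ω ^ 2 • em B A 2 w + (ω ^ 2 * ω ^ 2) • em B A 2 w) = 0
    have : em B A 2 w + ω ^ 2 • em B A 2 w + (ω ^ 2 * ω ^ 2) • em B A 2 w =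
        ((ω ^ 2 - ω + 1) * (ω ^ 2 + ω + 1)) • em B A 2 w := by module
    rw [this, hω, mul_zero, zero_smul, smul_zero]

theorem pj_em (i j : Fin 3) (w : W A) : pj h i (em B A j w) = if i = j then w else 0 := by
  rcases fin3 i with rfl | rfl | rfl
  · rw [pj_zero, pr_em]
    exact if_congr eq_comm rfl rfl
  · rw [pj_one, B_em h, B_em h, pr_em]
    refine if_congr ?_ rfl rfl
    rcases fin3 j with rfl | rfl | rfl <;> decide
  · rw [pj_two, B_em h, pr_em]
    refine if_congr ?_ rfl rfl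
    rcases fin3 j with rfl | rfl | rfl <;> decide

theorem sum_em_pj (v : V) : ∑ i, em B A i (pj h i v) = v := by
  rw [Fin.sum_univ_three, em_zero, em_one, em_two, pj_zero, pj_one, pj_two, pr_coe, pr_coe, pr_coe]
  have hω := h.hω
  have h3 := h.h3
  have e1 : ∀ u, B (A (B (B u))) = ω ^ 2 • A u := by
    intro u
    -- A B² = ω² B² A
    have : A (B (B u)) = ω ^ 2 • B (B (A u)) := by rw [h.AB, h.AB, map_smul, smul_smul, sq]
    rw [this, map_smul, h.BBB]
  have e2 : ∀ u, B (B (A (B u))) = ω • A u := by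
    intro u
    rw [h.AB, map_smul, map_smul, h.BBB]
  have e3 : B (A (A (B (B v)))) = ω • A (A v) := by
    have : A (A (B (B v))) = ω ^ 4 • B (B (A (A v))) := by
      have e : ∀ u, A (B (B u)) = ω ^ 2 • B (B (A u)) := by
        intro u
        rw [h.AB, h.AB, map_smul, smul_smul, sq]
      rw [e, map_smul, e, smul_smul]
      congr 1
      ring
    rw [this, map_smul, h.BBB]
    congr 1
    linear_combination ω * h.ω3
  have e4 : B (B (A (A (B v)))) = ω ^ 2 • A (A v) := by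
    rw [h.AB, map_smul, h.AB, smul_smul, map_smul, map_smul, h.BBB, sq]
  simp only [map_smul, map_smul, map_smul, map_add, map_add, map_add, map_add, map_add, map_add, h.BBB, e1, e3, e2, e4,
    ← smul_add, ← smul_add]
  have : v + A v + A (A v) + (v + ω ^ 2 • A v + ω • A (A v)) + (v + ω • A v + ω ^ 2 • A (A v)) =
      (3 : F) • v + (ω ^ 2 + ω + 1) • (A v + A (A v)) := by module
  rw [this, hω, zero_smul, add_zero, smul_smul, inv_mul_cancel₀ h3, one_smul]

/-- the block matrix of an endomorphism -/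
noncomputable def rho (h : Sys A B ω) (T : Module.End F V) : Matrix (Fin 3) (Fin 3) (Module.End F (W A)) :=
  Matrix.of fun i j => (pj h i) ∘ₗ T ∘ₗ (em B A j)

theorem rho_apply (T : Module.End F V) (i j : Fin 3) (w : W A) : rho h T i j w = pj h i (T (em B A j w)) := rfl

theorem rho_A : rho h A = a3 ω := by
  ext i j w : 3
  rw [rho_apply, A_em h, map_smul, pj_em, H890.A7.a3_apply]
  by_cases hij : i = j
  · rw [if_pos hij, if_pos hij]; rfl
  · rw [if_neg hij, if_neg hij, smul_zero]; rfl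

theorem rho_B : rho h B = b3 := by
  ext i j w : 3
  rw [rho_apply, B_em h, pj_em, H890.A7.b3_apply]
  by_cases hij : i = j + 1
  · rw [if_pos hij, if_pos hij]; rfl
  · rw [if_neg hij, if_neg hij]; rfl

/-- the induced subspace of `V` -/
noncomputable def up (U : Submodule F (W A)) : Submodule F V where
  carrier := {v | ∀ i, pj h i v ∈ U}
  add_mem' {u v} hu hv i := by rw [map_add]; exact add_mem (hu i) (hv i)
  zero_mem' i := by rw [map_zero]; exact zero_mem U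
  smul_mem' c v hv i := by rw [map_smul]; exact U.smul_mem c (hv i)

theorem up_invt {U : Submodule F (W A)} {T : Module.End F V} (hT : ∀ i j, ∀ u ∈ U, rho h T i j u ∈ U) {v : V}
    (hv : v ∈ up h U) : T v ∈ up h U := by
  intro i
  rw [← sum_em_pj h v, map_sum, map_sum]
  exact sum_mem fun j _ => hT i j _ (hv j)

theorem up_eq_bot {U : Submodule F (W A)} (hU : up h U = ⊥) : U = ⊥ := by
  rw [eq_bot_iff]
  intro u hu
  have h1 : em B A 0 u ∈ up h U := by
    intro i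
    rw [pj_em]
    split_ifs
    · exact hu
    · exact zero_mem U
  rw [hU, Submodule.mem_bot, em_zero] at h1
  rw [Submodule.mem_bot]
  exact Subtype.ext h1

theorem up_eq_top {U : Submodule F (W A)} (hU : up h U = ⊤) : U = ⊤ := by
  rw [eq_top_iff]
  intro u _
  have h1 : em B A 0 u ∈ up h U := by rw [hU]; exact Submodule.mem_top
  have h2 := h1 0
  rwa [pj_em, if_pos rfl] at h2

/-- the coordinates -/
noncomputable def coords (h : Sys A B ω) : V ≃ₗ[F] (Fin 3 → W A) where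
  toFun v i := pj h i v
  invFun w := ∑ i, em B A i (w i)
  map_add' u v := by funext i; exact map_add _ _ _
  map_smul' c v := by funext i; exact map_smul _ _ _
  left_inv v := sum_em_pj h v
  right_inv w := by
    funext i
    simp only [map_sum, pj_em]
    rw [Finset.sum_ite_eq Finset.univ i, if_pos (Finset.mem_univ i)]

/-- the algebra isomorphism -/
noncomputable def rhoE : Module.End F V ≃ₐ[F] Matrix (Fin 3) (Fin 3) (Module.End F (W A)) :=
  blkE (em B A) (pj h) (fun i j w => pj_em h i j w) (sum_em_pj h)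

include h in
theorem finrank_eq [FiniteDimensional F V] : Module.finrank F V = 3 * Module.finrank F (W A) := by
  rw [(coords h).finrank_eq, Module.finrank_pi_fintype, Finset.sum_const, Finset.card_univ, Fintype.card_fin,
    smul_eq_mul]

end

end Cfsg.Agent.H825.A7x.Blk3
end

-- part: H825/A7x/Neg
section
/-!
# `6.A₇` : involutions do not lift to involutions (helper825)

`neg_of` : if `-1 ∈ P` and `k₀` is a lift of `(3 4)(5 6)` with `k₀² = e`, `e² = 1`, then `e = -1` (transfer to a Sylow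
`2`-subgroup).
-/

set_option autoImplicit false
set_option linter.unusedSectionVars false

namespace Cfsg.Agent.H825.A7x

open Cfsg Cfsg.Geo Matrix Cfsg.Agent.H913.N6 Cfsg.Agent.H890.A7
open Equiv Equiv.Perm
open Cfsg.Agent.H890.Y3 (r3 r3' g4)
open Cfsg.Agent.H915.LD (Core Soc toSoc tr)

/-- an involution inverting `g4` -/
def s4 : alternatingGroup (Fin 7) := ⟨c[3, 4] * c[2, 5], mem_alternatingGroup.2 (by decide)⟩

theorem s4_g4 : s4 * g4 * s4⁻¹ = g4⁻¹ := by decide +kernel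

/-- a Sylow `2`-subgroup -/
def f8 : DihedralGroup 4 →* alternatingGroup (Fin 7) :=
  MonoidHom.mk' (fun x => match x with
    | .r i => g4 ^ i.val
    | .sr i => s4 * g4 ^ i.val) (by decide +kernel)

theorem f8_r (i : ZMod 4) : f8 (.r i) = g4 ^ i.val := rfl
theorem f8_sr (i : ZMod 4) : f8 (.sr i) = s4 * g4 ^ i.val := rfl

theorem f8_injective : Function.Injective f8 := by
  rw [injective_iff_map_eq_one]
  decide +kernel

theorem index_f8 : f8.range.index = 315 := by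
  have h1 : Nat.card f8.range = 8 := by
    rw [← Nat.card_congr (MonoidHom.ofInjective f8_injective).toEquiv, DihedralGroup.nat_card]
  have h2 := f8.range.card_mul_index
  rw [h1, nat_card_alternatingGroup, Nat.card_eq_fintype_card, Fintype.card_fin] at h2
  have h3 : Nat.factorial 7 / 2 = 8 * 315 := by decide
  rw [h3] at h2
  exact Nat.eq_of_mul_eq_mul_left (by norm_num) h2

/-- transfer: a central element of a perfect group: its power by the index of `T` lies in `E ≥ [T, T]` (after helper930) -/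
theorem pow_index_mem' {X : Type*} [Group X] [Finite X] (hX : commutator X = ⊤) {T E : Subgroup X}
    (hcom : ∀ x ∈ T, ∀ y ∈ T, x * y * x⁻¹ * y⁻¹ ∈ E) {c : X} (hc : ∀ x, c * x = x * c) : c ^ T.index ∈ E := by
  have key : ∀ (k : ℕ) (g₀ : X), g₀⁻¹ * c ^ k * g₀ ∈ T → g₀⁻¹ * c ^ k * g₀ = c ^ k := by
    intro k g₀ _
    have h2 : Commute c g₀ := hc g₀
    rw [mul_assoc, (h2.pow_left k).eq]; group
  have h3 := MonoidHom.transfer_eq_pow (Abelianization.of (G := T)) c key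
  have h4 : MonoidHom.transfer (Abelianization.of (G := T)) c = 1 :=
    (Abelianization.commutator_subset_ker _) (by rw [hX]; exact Subgroup.mem_top _)
  rw [h4] at h3
  have h5 : (⟨c ^ T.index, MonoidHom.transfer_eq_pow_aux c key⟩ : T) ∈ commutator T := by
    rw [← Abelianization.ker_of, MonoidHom.mem_ker]; exact h3.symm
  have h6 : commutator T ≤ E.subgroupOf T := by
    rw [commutator_def, Subgroup.commutator_le]
    intro x _ y _
    rw [Subgroup.mem_subgroupOf, commutatorElement_def]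
    exact hcom x x.2 y y.2
  exact Subgroup.mem_subgroupOf.mp (h6 h5)

section grp

variable {G : Type*} [Group G] {g y w : G}

theorem pow_comm_aux (hg : w * g = g * w) (hy : w * y = y * w) (h : g * y = w * (y * g)) (i j : ℕ) :
    g ^ i * y ^ j = w ^ (i * j) * (y ^ j * g ^ i) := by
  have h1 : ∀ j, g * y ^ j = w ^ j * (y ^ j * g) := by
    intro j
    induction j with
    | zero => simp
    | succ j ih =>
      have cw : Commute (w ^ j) (y) := Commute.pow_left hy j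
      have cw' : Commute w (y ^ j) := Commute.pow_right hy j
      calc g * y ^ (j + 1) = (g * y ^ j) * y := by rw [pow_succ, mul_assoc]
        _ = w ^ j * (y ^ j * (g * y)) := by rw [ih]; simp only [mul_assoc]
        _ = w ^ j * ((y ^ j * w) * (y * g)) := by rw [h]; simp only [mul_assoc]
        _ = w ^ j * ((w * y ^ j) * (y * g)) := by rw [cw'.eq]
        _ = w ^ (j + 1) * (y ^ (j + 1) * g) := by rw [pow_succ, pow_succ]; simp only [mul_assoc]
  induction i with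
  | zero => simp
  | succ i ih =>
    have cw : Commute g (w ^ (i * j)) := (Commute.pow_left hg _).symm
    calc g ^ (i + 1) * y ^ j = g * (g ^ i * y ^ j) := by rw [pow_succ', mul_assoc]
      _ = (g * w ^ (i * j)) * (y ^ j * g ^ i) := by rw [ih]; simp only [mul_assoc]
      _ = w ^ (i * j) * ((g * y ^ j) * g ^ i) := by rw [cw.eq]; simp only [mul_assoc]
      _ = w ^ (i * j) * (w ^ j * (y ^ j * g) * g ^ i) := by rw [h1]
      _ = w ^ ((i + 1) * j) * (y ^ j * g ^ (i + 1)) := by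
        rw [add_mul, one_mul, pow_add, pow_succ']; simp only [mul_assoc]

theorem comm_aux (hg : w * g = g * w) (hy : w * y = y * w) (h : g * y = w * (y * g)) (i j i' j' : ℕ) :
    (y ^ j * g ^ i) * (y ^ j' * g ^ i') * (y ^ j * g ^ i)⁻¹ * (y ^ j' * g ^ i')⁻¹ ∈ Subgroup.zpowers w := by
  have e : ∀ i j i' j' : ℕ, (y ^ j * g ^ i) * (y ^ j' * g ^ i') = w ^ (i * j') * (y ^ (j + j') * g ^ (i + i')) := by
    intro i j i' j'
    have cw : Commute (y ^ j) (w ^ (i * j')) := ((Commute.pow_left hy _).pow_right _).symm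
    calc (y ^ j * g ^ i) * (y ^ j' * g ^ i') = y ^ j * (g ^ i * y ^ j') * g ^ i' := by simp only [mul_assoc]
      _ = (y ^ j * w ^ (i * j')) * (y ^ j' * g ^ i) * g ^ i' := by
        rw [pow_comm_aux hg hy h]; simp only [mul_assoc]
      _ = _ := by rw [cw.eq, pow_add, pow_add]; simp only [mul_assoc]
  have e2 : (y ^ j * g ^ i) * (y ^ j' * g ^ i') * (y ^ j * g ^ i)⁻¹ * (y ^ j' * g ^ i')⁻¹ =
      ((y ^ j * g ^ i) * (y ^ j' * g ^ i')) * ((y ^ j' * g ^ i') * (y ^ j * g ^ i))⁻¹ := by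
    rw [_root_.mul_inv_rev ((y ^ j' * g ^ i'))]; simp only [mul_assoc]
  rw [e2, e, e, add_comm j' j, add_comm i' i]
  have e3 : w ^ (i * j') * (y ^ (j + j') * g ^ (i + i')) * (w ^ (i' * j) * (y ^ (j + j') * g ^ (i + i')))⁻¹ =
      w ^ (i * j') * (w ^ (i' * j))⁻¹ := by group
  rw [e3]
  exact mul_mem (pow_mem (Subgroup.mem_zpowers w) _) (inv_mem (pow_mem (Subgroup.mem_zpowers w) _))

theorem central_comm {z z' : G} (hz : ∀ x, z * x = x * z) (hz' : ∀ x, z' * x = x * z') (u v : G) :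
    z * u * (z' * v) * (z * u)⁻¹ * (z' * v)⁻¹ = u * v * u⁻¹ * v⁻¹ := by
  calc z * u * (z' * v) * (z * u)⁻¹ * (z' * v)⁻¹ = z * (u * (z' * v) * u⁻¹) * z⁻¹ * (v⁻¹ * z'⁻¹) := by group
    _ = u * z' * (v * u⁻¹ * v⁻¹) * z'⁻¹ := by rw [hz, mul_inv_cancel_right]; simp only [mul_assoc]
    _ = z' * (u * v * u⁻¹ * v⁻¹) * z'⁻¹ := by rw [← hz' u]; simp only [mul_assoc]
    _ = _ := by rw [hz', mul_inv_cancel_right]

end grp

section neg

variable {ι : Type} [Fintype ι] [DecidableEq ι] [Nonempty ι] {F : Type*} [Field F] {P : Subgroup (GL ι F)}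
  {C : Cov P (alternatingGroup (Fin 7))}

theorem neg_of [Finite F] (hC : Core P) (hZ : Z6 P) (h2 : (2 : F) ≠ 0) (hneg : (sc (-1 : Fˣ) : GL ι F) ∈ P)
    {k₀ : GL ι F} {e : Fˣ} (hk₀ : C.L k₀ kk) (he : e ^ 2 = 1) (hk2 : k₀ ^ 2 = sc e) : e = -1 := by
  by_contra hne
  have h1 : e = 1 := by
    have h3 : (e : F) ^ 2 = 1 := by rw [← Units.val_pow_eq_pow_val, he, Units.val_one]
    have h4 : ((e : F) - 1) * ((e : F) + 1) = 0 := by linear_combination h3
    rcases mul_eq_zero.1 h4 with h | h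
    · exact Units.ext (sub_eq_zero.1 h)
    · exact absurd (Units.ext (by rw [eq_neg_of_add_eq_zero_left h, Units.val_neg, Units.val_one])) hne
  rw [h1] at he hk2
  obtain ⟨ω, a, b, k, g, hrel, La, Lb, Lk, Lg, hωP⟩ := exists_rel hZ he hk₀ hk2
  have hg4 : g ^ 4 = 1 := by rw [hrel.g4, sc_one]
  obtain ⟨y, Ly⟩ := C.exists_lift s4
  obtain ⟨c, hcP, hc⟩ := (L_congr (Lg.conj Ly) s4_g4).exists_sc Lg.inv
  have hc4 : c ^ 4 = 1 := by
    have h3 : (y * g * y⁻¹) ^ 4 = 1 := by rw [conj_pow, hg4, mul_one, mul_inv_cancel]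
    rw [hc, (sc_commute _ _).mul_pow, inv_pow, hg4, inv_one, mul_one, ← sc_pow, ← sc_one] at h3
    exact sc_inj h3
  have hc2 : c ^ 2 = 1 := by
    have h3 : c ^ 6 = c ^ 4 * c ^ 2 := by rw [← pow_add]
    rw [hZ c hcP, hc4, one_mul] at h3
    exact h3.symm
  -- the commutator
  obtain ⟨w, hw⟩ : ∃ w, w = sc c * g ^ 2 := ⟨_, rfl⟩
  have hwg : w * g = g * w := by
    rw [hw, mul_assoc, ← pow_succ, ← mul_assoc g, ← sc_comm c g, mul_assoc, ← pow_succ']
  have hyg : y * g = sc c * (g⁻¹ * y) := by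
    rw [← mul_assoc, ← hc]; group
  have hgi : g⁻¹ = g ^ 2 * g := by
    rw [← pow_succ, inv_eq_iff_mul_eq_one, ← pow_succ']; exact hg4
  have hcc : (sc c : GL ι F) * sc c = 1 := by rw [← sc_mul, ← sq, hc2, sc_one]
  have hgy : g * y = sc c * (y * g⁻¹) := by
    have h3 : y = sc c * (g⁻¹ * y * g⁻¹) := by
      calc y = (y * g) * g⁻¹ := by group
        _ = _ := by rw [hyg]; simp only [mul_assoc]
    calc g * y = g * (sc c * (g⁻¹ * y * g⁻¹)) := by rw [← h3]
      _ = sc c * (y * g⁻¹) := by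
        rw [← mul_assoc g, ← sc_comm c g]; group
  have hy2 : y * g ^ 2 * y⁻¹ = g ^ 2 := by
    have h3 : (y * g * y⁻¹) ^ 2 = g ^ 2 := by
      rw [hc, (sc_commute _ _).mul_pow, ← sc_pow, hc2, sc_one, one_mul, inv_pow, inv_eq_iff_mul_eq_one, ← pow_add]
      exact hg4
    rw [conj_pow] at h3
    exact h3
  have hwy : w * y = y * w := by
    rw [hw, ← mul_assoc y, ← sc_comm c y, mul_assoc, mul_assoc]
    congr 1
    rw [← eq_mul_inv_iff_mul_eq.1 hy2.symm]
  have hrel2 : g * y = w * (y * g) := by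
    rw [hgy, hgi, ← mul_assoc w, hwy, hw, ← mul_assoc y (sc c), ← sc_comm c y]
    simp only [mul_assoc]
  -- transfer
  have form : ∀ x : P, x ∈ f8.range.comap C.π → ∃ (d : Fˣ) (i j : ℕ), (x : GL ι F) = sc d * (y ^ j * g ^ i) := by
    intro x hx
    obtain ⟨m, hm⟩ := hx
    have h1 : C.L (x : GL ι F) (f8 m) := ⟨x.2, hm.symm⟩
    cases m with
    | r i =>
      rw [f8_r] at h1
      obtain ⟨d, -, hd⟩ := h1.exists_sc (Lg.pow i.val)
      exact ⟨d, i.val, 0, by rw [hd, pow_zero, one_mul]⟩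
    | sr i =>
      rw [f8_sr] at h1
      obtain ⟨d, -, hd⟩ := h1.exists_sc (Ly.mul (Lg.pow i.val))
      exact ⟨d, i.val, 1, by rw [hd, pow_one]⟩
  have hwP : w ∈ P := by rw [hw]; exact mul_mem hcP (pow_mem Lg.mem 2)
  have h3 := pow_index_mem' hC.commutator_top (T := f8.range.comap C.π)
    (E := (Subgroup.zpowers w).subgroupOf P) (c := ⟨sc (-1), hneg⟩) (by
      intro x hx x' hx'
      obtain ⟨d, i, j, h1⟩ := form x hx
      obtain ⟨d', i', j', h1'⟩ := form x' hx'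
      rw [Subgroup.mem_subgroupOf]
      simp only [Subgroup.coe_mul, Subgroup.coe_inv]
      rw [h1, h1']
      rw [central_comm (sc_comm d) (sc_comm d')]
      exact comm_aux hwg hwy hrel2 i j i' j') (fun x => Subtype.ext (sc_comm _ (x : GL ι F)))
  rw [Subgroup.index_comap_of_surjective _ C.surj, index_f8, Subgroup.mem_subgroupOf] at h3
  obtain ⟨n, hn⟩ := h3
  have hww : w * w = 1 := by
    rw [hw, ← sq, (sc_commute _ _).mul_pow, ← sc_pow, hc2, sc_one, one_mul, ← pow_mul]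
    exact hg4
  have hn' : w ^ n = sc (-1) := by
    have h4 : ((⟨sc (-1), hneg⟩ : P) ^ 315 : P) = (⟨sc (-1), hneg⟩ : P) := by
      apply Subtype.ext
      show (sc (-1) : GL ι F) ^ 315 = sc (-1)
      rw [← sc_pow]
      congr 1
      rw [show 315 = 2 * 157 + 1 from rfl, pow_succ, pow_mul]
      simp only [_root_.even_two, _root_.Even.neg_pow, _root_.one_pow, _root_.mul_neg, _root_.mul_one]
    rw [h4] at hn
    exact hn
  have h11 : (-1 : Fˣ) ≠ 1 := by
    intro h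
    apply h2
    have h5 : ((-1 : Fˣ) : F) = 1 := by rw [h, Units.val_one]
    rw [Units.val_neg, Units.val_one] at h5
    linear_combination -h5
  have hw2 : w ^ (2 : ℤ) = 1 := by
    have : w ^ (2 : ℤ) = w * w := by rw [show (2 : ℤ) = ((2 : ℕ) : ℤ) from rfl, zpow_natCast, sq]
    rw [this, hww]
  rcases Int.even_or_odd' n with ⟨m, hm | hm⟩
  · rw [hm, _root_.zpow_mul, hw2, _root_.one_zpow, ← sc_one] at hn'
    exact h11 (sc_inj hn').symm
  · rw [hm, _root_.zpow_add, _root_.zpow_mul, hw2, _root_.one_zpow, one_mul, _root_.zpow_one, hw] at hn'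
    -- `g²` is a scalar
    have h5 : C.L (g ^ 2) 1 := by
      rw [Cov.L.one_iff]
      refine ⟨pow_mem Lg.mem 2, c * (-1), ?_⟩
      rw [sc_mul, ← hn', ← mul_assoc, hcc, one_mul]
    have h6 := (Lg.pow 2).unique h5
    revert h6
    decide +kernel

end neg

end Cfsg.Agent.H825.A7x
end

-- part: H930/A7s/LSign
section
/-!
# `6.A₇`: the scalar in the relation `(k g k g⁻¹)³ = l g²` is `-1` (helper930)
-/

set_option autoImplicit false
set_option linter.unusedSectionVars false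

namespace Cfsg.Agent.H930.A7s

open Cfsg Cfsg.Geo Matrix Cfsg.Agent.H913.N6
open Equiv Equiv.Perm
open Cfsg.Agent.H890.Y3 (r3 r3' g4)
open Cfsg.Agent.H890.A7 (Rel Z6 kk sq_conj eq_one_of L_congr)

theorem conj_kg : ∃ γ : alternatingGroup (Fin 7), γ * kk * γ⁻¹ = (kk * g4) ^ 3 :=
  ⟨⟨c[0, 2, 6, 3] * c[1, 5], mem_alternatingGroup.2 (by decide)⟩, by decide +kernel⟩

variable {ι : Type} [Fintype ι] [DecidableEq ι] [Nonempty ι] {F : Type*} [Field F] {P : Subgroup (GL ι F)}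
  {C : Cov P (alternatingGroup (Fin 7))}

theorem rel_l (hZ : Z6 P) {ω : Fˣ} {a b k g : GL ι F} (h : _root_.Cfsg.Agent.H890.A7.Rel (-1) ω a b k g) (Lk : C.L k kk) (Lg : C.L g g4)
    {l : Fˣ} (hl : (k * (g * k * g⁻¹)) ^ 3 = sc l * g ^ 2) : l = -1 := by
  have hc : ∀ (c : Fˣ) (x : GL ι F), Commute (sc c) x := fun c x => sc_comm c x
  obtain ⟨K, hK⟩ : ∃ K, K = g * k * g⁻¹ := ⟨_, rfl⟩
  have hKK : K ^ 2 = sc (-1) := by
    rw [hK, conj_pow, h.k2, ← sc_comm, mul_inv_cancel_right]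
  rw [← hK] at hl
  obtain ⟨y, hy⟩ : ∃ y, y = k * K := ⟨_, rfl⟩
  rw [← hy] at hl
  have h11 : (sc (-1) : GL ι F) * sc (-1) = 1 := by rw [← sc_mul]; simp
  have hki : k⁻¹ = sc (-1) * k := by
    rw [inv_eq_iff_mul_eq_one, ← mul_assoc, ← sc_comm, mul_assoc, ← sq, h.k2, h11]
  have hKi : K⁻¹ = sc (-1) * K := by
    rw [inv_eq_iff_mul_eq_one, ← mul_assoc, ← sc_comm, mul_assoc, ← sq, hKK, h11]
  have hs2 : (g ^ 2) ^ 2 = sc (-1) := by rw [← pow_mul]; exact h.g4
  have hsi : (g ^ 2)⁻¹ = sc (-1) * g ^ 2 := by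
    rw [inv_eq_iff_mul_eq_one, ← mul_assoc, ← sc_comm, mul_assoc, ← sq, hs2, h11]
  -- `k y k⁻¹ = y⁻¹`
  have e1 : k * y * k⁻¹ = y⁻¹ := by
    rw [hy, _root_.mul_inv_rev, hki, hKi]
    calc k * (k * K) * (sc (-1) * k) = k ^ 2 * K * (sc (-1) * k) := by rw [sq]; group
      _ = sc (-1) * K * (sc (-1) * k) := by rw [h.k2]
  have e2 : sc l * (k * g ^ 2 * k⁻¹) = sc l⁻¹ * (g ^ 2)⁻¹ := by
    have h1 : (k * y * k⁻¹) ^ 3 = (y⁻¹) ^ 3 := by rw [e1]
    rw [conj_pow, inv_pow, hl, _root_.mul_inv_rev, ← sc_inv, ← sc_comm l⁻¹] at h1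
    rw [← h1, ← mul_assoc, ← mul_assoc, ← mul_assoc, sc_comm l k]
  have e3 : k * g ^ 2 * k⁻¹ = sc (-1) * g ^ 2 := by
    have h1 := h.sk
    have h2 : k * g ^ 2 = sc (-1) * (g ^ 2 * k) := by rw [h1, ← mul_assoc, h11, one_mul]
    rw [h2, mul_assoc, mul_assoc, mul_inv_cancel, mul_one]
  have hl2 : l ^ 2 = 1 := by
    rw [e3, hsi, ← mul_assoc, ← mul_assoc, ← sc_mul, ← sc_mul] at e2
    have h1 := sc_inj (mul_right_cancel e2)
    have h2 := mul_right_cancel h1
    rw [sq]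
    nth_rewrite 2 [h2]
    exact mul_inv_cancel l
  -- `(k g)⁶ = l`
  have e4 : (k * g) ^ 2 = y * g ^ 2 := by
    rw [hy, hK, sq, sq]
    group
  have hcomm : Commute y (g ^ 2) := by
    have h1 : g ^ 2 = sc l⁻¹ * y ^ 3 := by rw [hl, ← mul_assoc, ← sc_mul, inv_mul_cancel, sc_one, one_mul]
    rw [h1]
    exact (hc _ _).symm.mul_right ((Commute.refl y).pow_right 3)
  have e5 : ((k * g) ^ 3) ^ 2 = sc l := by
    have h1 : ((k * g) ^ 3) ^ 2 = ((k * g) ^ 2) ^ 3 := by rw [← pow_mul, ← pow_mul]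
    rw [h1, e4, hcomm.mul_pow, hl, mul_assoc, ← pow_succ', pow_mul' (g ^ 2) 2 2, hs2, ← sc_pow]
    simp only [_root_.even_two, _root_.Even.neg_pow, _root_.one_pow, _root_.Cfsg.Agent.H913.N6.sc_one, _root_.mul_one]
  obtain ⟨c, -, hc3, hc'⟩ := sq_conj hZ Lk h.k2 conj_kg ((Lk.mul Lg).pow 3)
  rw [e5] at hc'
  have h6 := sc_inj hc'
  have h7 : c ^ 2 = 1 := by
    have : c = -1 * l := by rw [h6, ← mul_assoc]; simp
    rw [this, mul_pow, hl2]
    simp only [_root_.even_two, _root_.Even.neg_pow, _root_.one_pow, _root_.mul_one]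
  rw [h6, eq_one_of hc3 h7, mul_one]

/-- helper825's `L` is `1` -/
theorem rel_L (hZ : Z6 P) {ω : Fˣ} {a b k g : GL ι F} (h : _root_.Cfsg.Agent.H890.A7.Rel (-1) ω a b k g) (Lk : C.L k kk) (Lg : C.L g g4)
    {L : F} (hL : ((k : Matrix ι ι F) * (g * k * (g * (g * g)))) ^ 3 = L • ((g : Matrix ι ι F) * g)) : L = 1 := by
  obtain ⟨l, hl⟩ := h.r6
  have h1 := rel_l hZ h Lk Lg hl
  subst h1
  have hg3 : g⁻¹ = sc (-1) * (g * (g * g)) := by
    have h4 : g * (g * (g * g)) = sc (-1) := by rw [← h.g4, pow_succ, pow_succ, sq]; group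
    rw [inv_eq_iff_mul_eq_one, ← mul_assoc, ← sc_comm, mul_assoc, h4, ← sc_mul]
    simp
  have h2 : (k * (g * k * (g * (g * g)))) ^ 3 = g * g := by
    have e1 : k * (g * k * g⁻¹) = sc (-1) * (k * (g * k * (g * (g * g)))) := by
      rw [hg3, ← mul_assoc (g * k), ← sc_comm (-1) (g * k), mul_assoc (sc (-1)), ← mul_assoc k, ← sc_comm (-1) k, mul_assoc]
    rw [e1, (show Commute (sc (-1)) (k * (g * k * (g * (g * g)))) from sc_comm _ _).mul_pow, ← sc_pow, sq] at hl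
    have e2 : ((-1 : Fˣ)) ^ 3 = -1 := by rw [pow_succ, sq]; simp
    rw [e2] at hl
    exact mul_left_cancel hl
  have h3 := congrArg (fun z : GL ι F => (z : Matrix ι ι F)) h2
  simp only [Units.val_pow_eq_pow_val, Units.val_mul] at h3
  rw [hL] at h3
  have h4 : (L - 1) • ((g : Matrix ι ι F) * g) = 0 := by rw [sub_smul, h3, one_smul, sub_self]
  rcases smul_eq_zero.1 h4 with h5 | h5
  · exact sub_eq_zero.1 h5
  · exfalso
    have h6 : (g : Matrix ι ι F) * g * (((g * g : GL ι F)⁻¹ : GL ι F) : Matrix ι ι F) = 1 := by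
      rw [← Units.val_mul, ← Units.val_mul, mul_inv_cancel, Units.val_one]
    rw [h5, zero_mul] at h6
    obtain ⟨i⟩ := ‹Nonempty ι›
    have := congrFun (congrFun h6 i) i
    simp at this

end Cfsg.Agent.H930.A7s
end

-- part: H825/A7x/Frame
section
/-!
# `6.A₇` in dimension twelve: the normal form (helper825)

* `exists_frame` : the lifts of `r3, r3', kk, g4` in terms of `2 × 2` matrices `X, Z, N` satisfying `Eqs`;
* `twelve_six` : if `P` contains scalars of order three and `-1`, then `p = 5`.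
-/

set_option autoImplicit false
set_option linter.unusedSectionVars false

namespace Cfsg.Agent.H825.A7x

open Cfsg Cfsg.Geo Matrix Cfsg.Agent.H913.N6 Cfsg.Agent.H890.A7
open Equiv Equiv.Perm
open Cfsg.Agent.H890.Y3 (r3 r3' g4)
open Cfsg.Agent.H915.LD (Core Soc toSoc tr)

section gen

variable {F : Type*} [Field F] {R : Type*} [Ring R] [Algebra F R]

theorem dg_a3' (ω : F) (Z : R) : dg Z Z Z * a3 ω = a3 ω * dg Z Z Z := by
  obtain ⟨X00, X01, X02, X10, X11, X12, X20, X21, X22⟩ := dg_entries Z Z Z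
  ext1 i j
  rw [mul_a3, a3_mul]
  rcases fin3 i with rfl | rfl | rfl <;> rcases fin3 j with rfl | rfl | rfl <;>
    simp only [X00, X01, X02, X10, X11, X12, X20, X21, X22, smul_zero]

theorem dg_b3' (Z : R) : dg Z Z Z * b3 = b3 * dg Z Z Z := by
  ext1 i j
  rw [mul_b3]
  have e2 := b3_mul (dg Z Z Z) (i + 2) j
  rw [show i + 2 + 1 = i by rcases fin3 i with rfl | rfl | rfl <;> rfl] at e2
  rw [e2]
  rcases fin3 i with rfl | rfl | rfl <;> rcases fin3 j with rfl | rfl | rfl <;> rfl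

theorem dg_dg' {Z d₀ d₁ d₂ : R} (h0 : Z * d₀ = d₀ * Z) (h1 : Z * d₁ = d₁ * Z) (h2 : Z * d₂ = d₂ * Z) :
    dg Z Z Z * dg d₀ d₁ d₂ = dg d₀ d₁ d₂ * dg Z Z Z := by
  rw [dg_mul', dg_mul', h0, h1, h2]

theorem dg_gm' {ω : F} (hω : ω ^ 2 + ω + 1 = 0) {Z x : R} (hx : Z * x = x * Z) :
    dg Z Z Z * gm ω x = gm ω x * dg Z Z Z := by
  obtain ⟨X00, X01, X02, X10, X11, X12, X20, X21, X22⟩ := dg_entries Z Z Z
  obtain ⟨a00, a01, a02, a10, a11, a12, a20, a21, a22⟩ := gm_entries hω x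
  apply ext3 <;> simp only [mul3, a00, a01, a02, a10, a11, a12, a20, a21, a22, X00, X01, X02, X10, X11, X12, X20,
    X21, X22, hx, mul_zero, zero_mul, add_zero, zero_add, mul_smul_comm, smul_mul_assoc, smul_zero]

end gen

section core

variable {ι : Type} [Fintype ι] [DecidableEq ι] {F : Type*} [Field F] {P : Subgroup (GL ι F)}

local notation "MI" => Matrix ι ι F

/-- lifts of generators and the scalars of `P` generate `P` -/
theorem le_of_gens' {T : Type*} [Group T] (C : Cov P T) {S : Set T} (hS : Subgroup.closure S = ⊤)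
    {Y : Subgroup (GL ι F)} (hY : ∀ s ∈ S, ∃ y ∈ Y, C.L y s) (hsc : ∀ c, sc c ∈ P → sc c ∈ Y) : P ≤ Y := by
  have key : ∀ σ : T, ∃ y ∈ Y, C.L y σ := by
    intro σ
    have h1 : σ ∈ Subgroup.closure S := by rw [hS]; exact Subgroup.mem_top _
    induction h1 using Subgroup.closure_induction with
    | mem x hx => exact hY x hx
    | one => exact ⟨1, one_mem Y, Cov.L.one⟩
    | mul x y _ _ h h' =>
      obtain ⟨u, hu, hu'⟩ := h
      obtain ⟨v, hv, hv'⟩ := h'
      exact ⟨u * v, mul_mem hu hv, hu'.mul hv'⟩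
    | inv x _ h =>
      obtain ⟨u, hu, hu'⟩ := h
      exact ⟨u⁻¹, inv_mem hu, hu'.inv⟩
  intro x hx
  obtain ⟨σ, hσ⟩ := Cov.L.of_mem C hx
  obtain ⟨y, hy, hy'⟩ := key σ
  obtain ⟨c, hc, rfl⟩ := hσ.exists_sc hy'
  exact mul_mem (hsc c hc) hy

/-- the lifts of the two `3`-cycles do not commute -/
theorem nc_of [Nonempty ι] [Finite F] (hC : Core P) {C : Cov P (alternatingGroup (Fin 7))}
    (hz : ∃ c : Fˣ, c ≠ 1 ∧ c ^ 3 = 1 ∧ sc c ∈ P) {a b : GL ι F} (La : C.L a r3) (Lb : C.L b r3') : a * b ≠ b * a := by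
  intro hab
  obtain ⟨c, hc1, hc3, hc⟩ := hz
  have hcomm : Commute a b := hab
  let S : Subgroup P := f9.range.comap C.π
  have hS : ∀ x ∈ S, ∀ y ∈ S, x * y = y * x := by
    have form : ∀ x ∈ S, ∃ (d : Fˣ) (i j : ℕ), (x : GL ι F) = sc d * (a ^ i * b ^ j) := by
      intro x hx
      obtain ⟨m, hm⟩ := hx
      have h1 : C.L (x : GL ι F) (r3 ^ (m.toAdd.1).val * r3' ^ (m.toAdd.2).val) := ⟨x.2, hm.symm⟩
      have h2 := (La.pow (m.toAdd.1).val).mul (Lb.pow (m.toAdd.2).val)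
      obtain ⟨d, -, hd⟩ := h1.exists_sc h2
      exact ⟨d, _, _, hd⟩
    intro x hx y hy
    obtain ⟨d, i, j, h1⟩ := form x hx
    obtain ⟨d', i', j', h2⟩ := form y hy
    apply Subtype.ext
    rw [Subgroup.coe_mul, Subgroup.coe_mul, h1, h2]
    have e1 : Commute (a ^ i * b ^ j) (a ^ i' * b ^ j') := by
      apply Commute.mul_left
      · exact Commute.mul_right (Commute.pow_pow (Commute.refl a) _ _) (hcomm.pow_pow _ _)
      · exact Commute.mul_right (hcomm.symm.pow_pow _ _) (Commute.pow_pow (Commute.refl b) _ _)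
    have e2 : ∀ (e : Fˣ) (z : GL ι F), Commute (sc e) z := fun e z => sc_comm e z
    exact ((e2 d _).mul_left ((e2 d' _).symm.mul_right e1)).eq
  have hzS : (⟨sc c, hc⟩ : P) ∈ S := by
    show C.π _ ∈ f9.range
    rw [(C.ker ⟨sc c, hc⟩).2 (sc_mem_scalars c)]
    exact one_mem _
  have h1 := pow_index_mem hC.commutator_top S hS hzS (fun x => Subtype.ext (sc_comm c (x : GL ι F)))
  have h2 : S.index = 280 := by
    rw [← index_f9]
    exact Subgroup.index_comap_of_surjective _ C.surj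
  rw [h2] at h1
  have h3 : sc (c ^ 280) = (1 : GL ι F) := by
    rw [sc_pow]
    exact congrArg Subtype.val h1
  rw [← sc_one] at h3
  have h4 := sc_inj h3
  apply hc1
  have h6 : c ^ 280 = (c ^ 3) ^ 93 * c := by rw [← pow_mul, ← pow_succ]
  rw [h6, hc3, one_pow, one_mul] at h4
  exact h4

/-- `l² = 1` -/
theorem l_sq [Nonempty ι] {e ω l : Fˣ} {a b k g : GL ι F} (h : _root_.Cfsg.Agent.H890.A7.Rel e ω a b k g) (he : e ^ 2 = 1)
    (hl : (k * (g * k * g⁻¹)) ^ 3 = sc l * g ^ 2) : l ^ 2 = 1 := by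
  obtain ⟨K, hK⟩ : ∃ K, K = g * k * g⁻¹ := ⟨_, rfl⟩
  rw [← hK] at hl
  have kk : k * k = sc e := by rw [← sq]; exact h.k2
  have KK : K * K = sc e := by
    rw [← sq, hK, conj_pow, h.k2, ← sc_comm, mul_inv_cancel_right]
  have ee : (sc e : GL ι F) * sc e = 1 := by rw [← sc_mul, ← sq, he, sc_one]
  have h1 : k * K * (K * k) = 1 := by
    calc k * K * (K * k) = k * (K * K) * k := by simp only [mul_assoc]
      _ = sc e * (k * k) := by rw [KK, ← sc_comm, mul_assoc]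
      _ = 1 := by rw [kk, ee]
  have h2 : k * (k * K) * k⁻¹ = (k * K)⁻¹ := by
    rw [mul_eq_one_iff_inv_eq.1 h1, mul_inv_eq_iff_eq_mul]
    calc k * (k * K) = (k * k) * K := by rw [mul_assoc]
      _ = K * sc e := by rw [kk, sc_comm]
      _ = K * k * k := by rw [← kk, mul_assoc]
  have h3 : k * (sc l * g ^ 2) * k⁻¹ = (sc l * g ^ 2)⁻¹ := by
    rw [← hl, ← conj_pow, h2, inv_pow]
  -- `k g² k⁻¹ = e g²`
  have h4 : k * g ^ 2 = sc e * (g ^ 2 * k) := by
    rw [h.sk, ← mul_assoc, ee, one_mul]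
  have h5 : k * (sc l * g ^ 2) * k⁻¹ = sc (e * l) * g ^ 2 := by
    rw [← mul_assoc k, ← sc_comm l k, mul_assoc (sc l), h4, sc_mul, sc_comm e (sc l)]
    group
  have h6 : sc (e * l * l * e) = (1 : GL ι F) := by
    have h7 : sc (e * l) * g ^ 2 * (sc l * g ^ 2) = 1 := by rw [← h5, h3, inv_mul_cancel]
    have h8 : sc (e * l) * g ^ 2 * (sc l * g ^ 2) = sc (e * l * l * e) := by
      calc sc (e * l) * g ^ 2 * (sc l * g ^ 2) = sc (e * l) * (g ^ 2 * sc l) * g ^ 2 := by simp only [mul_assoc]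
        _ = sc (e * l) * sc l * (g ^ 2 * g ^ 2) := by rw [← sc_comm l]; simp only [mul_assoc]
        _ = _ := by rw [← pow_add, h.g4, ← sc_mul, ← sc_mul]
    rw [← h8, h7]
  rw [← sc_one] at h6
  have h7 := sc_inj h6
  have h8 : e * l * l * e = e ^ 2 * l ^ 2 := by simp only [sq]; ac_rfl
  rw [h8, he, one_mul] at h7
  exact h7

/-- the relations as matrices -/
theorem rel_mat' [Nonempty ι] {e ω : Fˣ} {a b k g : GL ι F} (h : _root_.Cfsg.Agent.H890.A7.Rel e ω a b k g) (he : e ^ 2 = 1) :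
    (g : MI) * a = b * g ∧ (a : MI) * (g * b) = g ∧ (k : MI) * k = (e : F) • 1 ∧
      ((g : MI) * g) * (g * g) = (e : F) • 1 ∧
      (k : MI) * a = a * k ∧ ((g : MI) * g) * k = (e : F) • (k * (g * g)) ∧ (k : MI) * b * k * b = b * (b * k) ∧
      ∃ L : F, L ^ 2 = 1 ∧ ((k : MI) * (g * k * (g * (g * g)))) ^ 3 = L • (g * g) := by
  refine ⟨congrArg (fun g : GL ι F => (g : MI)) h.ga, ?_, ?_, ?_,
    congrArg (fun g : GL ι F => (g : MI)) h.ka, ?_, ?_, ?_⟩
  · have h1 : a * (g * b) = g := by rw [h.gb, mul_inv_cancel_left]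
    exact congrArg (fun g : GL ι F => (g : MI)) h1
  · have h1 : k * k = sc e := by rw [← sq, h.k2]
    have h2 := congrArg (fun g : GL ι F => (g : MI)) h1
    simp only [Units.val_mul, coe_sc] at h2
    exact h2
  · have h1 : (g * g) * (g * g) = sc e := by rw [← sq, ← sq, ← pow_mul, h.g4]
    have h2 := congrArg (fun g : GL ι F => (g : MI)) h1
    simp only [Units.val_mul, coe_sc] at h2
    exact h2
  · have h1 : (g * g) * k = sc e * (k * (g * g)) := by rw [← sq, h.sk]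
    have h2 := congrArg (fun g : GL ι F => (g : MI)) h1
    simp only [Units.val_mul, coe_sc, Matrix.smul_mul, Matrix.one_mul] at h2
    exact h2
  · have h1 : k * b * k * b = b * (b * k) := by
      have h2 := congrArg (fun z => z * b ^ 2) h.v4
      simp only [inv_mul_cancel_right] at h2
      calc k * b * k * b = k * (b * k * b⁻¹) * b ^ 2 := by group
        _ = b ^ 2 * k := h2
        _ = b * (b * k) := by rw [sq, mul_assoc]
    exact congrArg (fun g : GL ι F => (g : MI)) h1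
  · obtain ⟨l, hl⟩ := h.r6
    have hl2 := l_sq h he hl
    have h1 : (k * (g * k * (g * (g * g)))) ^ 3 = sc (e ^ 3 * l) * (g * g) := by
      have h2 : g * (g * g) = sc e * g⁻¹ := by
        rw [← h.g4, pow_succ, pow_succ, sq, mul_assoc g g g, mul_inv_cancel_right]
      rw [h2]
      have h3 : k * (g * k * (sc e * g⁻¹)) = sc e * (k * (g * k * g⁻¹)) := by
        rw [← mul_assoc (g * k), ← sc_comm e (g * k), mul_assoc (sc e), ← mul_assoc k (sc e), ← sc_comm e k]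
        simp only [mul_assoc]
      rw [h3, (sc_commute _ _).mul_pow, hl, ← sc_pow, sc_mul, sq g, mul_assoc]
    refine ⟨((e ^ 3 * l : Fˣ) : F), ?_, ?_⟩
    · rw [← Units.val_pow_eq_pow_val, mul_pow, hl2, mul_one, ← pow_mul, mul_comm 3 2, pow_mul, he, one_pow,
        Units.val_one]
    · have h2 := congrArg (fun g : GL ι F => (g : MI)) h1
      simp only [Units.val_pow_eq_pow_val, Units.val_mul, coe_sc, Matrix.smul_mul, Matrix.one_mul] at h2
      simp only [Units.val_pow_eq_pow_val, Units.val_mul]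
      exact h2

/-- the scalars of `P` have order dividing six and `n` -/
theorem z6_of' [Nonempty ι] [Finite F] (hC : Core P) (e : Soc P ≃* alternatingGroup (Fin 7)) : Z6 P := by
  intro c hc
  have h1 := hC.card_scalars_dvd e (S2116.result 7 (Or.inr rfl))
  rw [show Nat.card (Multiplicative (ZMod 6)) = 6 from Nat.card_zmod 6] at h1
  have hz : (⟨sc c, hc⟩ : P) ∈ (scalars ι F).subgroupOf P := sc_mem_scalars c
  have h2 : (⟨sc c, hc⟩ : P) ^ 6 = 1 := by
    have h4 : (⟨⟨sc c, hc⟩, hz⟩ : (scalars ι F).subgroupOf P) ^ Nat.card ((scalars ι F).subgroupOf P) = 1 :=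
      pow_card_eq_one'
    have h5 : (⟨sc c, hc⟩ : P) ^ Nat.card ((scalars ι F).subgroupOf P) = 1 := congrArg Subtype.val h4
    obtain ⟨m, hm⟩ := h1
    rw [hm, pow_mul, h5, one_pow]
  have h2' : (sc (c ^ 6) : GL ι F) = sc 1 := by rw [sc_one, sc_pow]; exact congrArg Subtype.val h2
  exact sc_inj h2'

set_option maxHeartbeats 1600000 in
/-- **The data on the multiplicity space of `3^{1+2}`.** -/
theorem exists_dat [Nonempty ι] [Finite F] (hC : Core P) (C : Cov P (alternatingGroup (Fin 7))) (hZ : Z6 P)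
    (hz : ∃ c : Fˣ, c ≠ 1 ∧ c ^ 3 = 1 ∧ sc c ∈ P) (h2 : (2 : F) ≠ 0) (hneg : (sc (-1 : Fˣ) : GL ι F) ∈ P) :
    ∃ (ω : Fˣ) (a b k g : GL ι F) (L : F) (W : Submodule F (ι → F)) 
      (ψ : Matrix ι ι F ≃ₐ[F] Matrix (Fin 3) (Fin 3) (Module.End F W)) (x d₀ d₁ d₂ t : Module.End F W),
      C.L a r3 ∧ C.L b r3' ∧ C.L k kk ∧ C.L g g4 ∧ ψ a = a3 (ω : F) ∧ ψ b = b3 ∧ ψ k = dg d₀ d₁ d₂ ∧ ψ g = gm (ω : F) x ∧
      Dat (ω : F) L x d₀ d₁ d₂ t ∧ Fintype.card ι = 3 * Module.finrank F W ∧ L = 1 := by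
  classical
  obtain ⟨k₀, e, hk₀, he, hk2, -⟩ := exists_k (C := C) hZ
  have hen := neg_of hC hZ h2 hneg hk₀ he hk2
  rw [hen] at he hk2
  obtain ⟨ω, a, b, k, g, hrel, La, Lb, Lk, Lg, hωP⟩ := exists_rel (C := C) hZ he hk₀ hk2
  have hω1 : ω ≠ 1 := by
    rintro rfl
    apply nc_of hC hz La Lb
    rw [hrel.ab, sc_one, one_mul]
  have hω3' : (ω : F) ^ 3 = 1 := by rw [← Units.val_pow_eq_pow_val, hrel.ω3, Units.val_one]
  have hω1' : (ω : F) ≠ 1 := fun h => hω1 (Units.ext h)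
  have hω := omega_sum hω3' hω1'
  have h3 := three_ne hω3' hω1'
  obtain ⟨ga, gb, kk2, g4', ka, sk, v4, L, hL2, r6⟩ := rel_mat' hrel he
  have hL1 : L = 1 := H930.A7s.rel_L hZ hrel Lk Lg r6
  have neg1 : ∀ Y : MI, (((-1 : Fˣ) : F)) • Y = -Y := fun Y => by
    rw [Units.val_neg, Units.val_one, neg_smul, one_smul]
  rw [neg1] at kk2 g4' sk
  obtain ⟨Λ, hΛ⟩ : ∃ Λ : Matrix ι ι F ≃ₐ[F] ((ι → F) →ₗ[F] (ι → F)), Λ = Matrix.toLinAlgEquiv' := ⟨_, rfl⟩
  have h : Blk3.Sys (Λ (a : MI)) (Λ (b : MI)) (ω : F) := by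
    refine ⟨?_, ?_, ?_, hω, h3⟩
    · have h1 : a * (a * a) = 1 := by rw [← sq, ← pow_succ', hrel.a3]
      have h2 : (a : MI) * (a * a) = 1 := congrArg (fun g : GL ι F => (g : MI)) h1
      rw [← map_mul, ← map_mul, h2, map_one]
    · have h1 : b * (b * b) = 1 := by rw [← sq, ← pow_succ', hrel.b3]
      have h2 : (b : MI) * (b * b) = 1 := congrArg (fun g : GL ι F => (g : MI)) h1
      rw [← map_mul, ← map_mul, h2, map_one]
    · have h2 : (a : MI) * b = (ω : F) • ((b : MI) * a) := by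
        have h3 := congrArg (fun g : GL ι F => (g : MI)) hrel.ab
        simp only [Units.val_mul, coe_sc, smul_mul_assoc, one_mul] at h3
        exact h3
      rw [← map_mul, h2, map_smul, map_mul]
  obtain ⟨ψ, hψ⟩ : ∃ ψ : Matrix ι ι F ≃ₐ[F] Matrix (Fin 3) (Fin 3) (Module.End F (Blk3.W (Λ (a : MI)))),
    ψ = Λ.trans (Blk3.rhoE h) := ⟨_, rfl⟩
  have hψ' : ∀ Y : MI, ψ Y = Blk3.rho h (Λ Y) := fun Y => by rw [hψ]; rfl
  have hA : ψ (a : MI) = a3 (ω : F) := by rw [hψ']; exact Blk3.rho_A h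
  have hB : ψ (b : MI) = b3 := by rw [hψ']; exact Blk3.rho_B h
  obtain ⟨k', hk'⟩ : ∃ k', k' = ψ (k : MI) := ⟨_, rfl⟩
  obtain ⟨g', hg'⟩ : ∃ g', g' = ψ (g : MI) := ⟨_, rfl⟩
  have ga' : g' * a3 (ω : F) = b3 * g' := by simp only [hg', ← hA, ← hB, ← map_mul, ← map_mul, ga]
  have gb' : a3 (ω : F) * (g' * b3) = g' := by simp only [hg', ← hA, ← hB, ← map_mul, ← map_mul, gb]
  have kk2' : k' * k' = -1 := by simp only [hk', ← map_mul, kk2, map_neg, map_one]
  have g4'' : (g' * g') * (g' * g') = -1 := by simp only [hg', ← map_mul, ← map_mul, g4', map_neg, map_one]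
  have ka' : k' * a3 (ω : F) = a3 (ω : F) * k' := by simp only [hk', ← hA, ← map_mul, ← map_mul, ka]
  have sk' : (g' * g') * k' = -(k' * (g' * g')) := by
    simp only [hg', hk', ← map_mul, ← map_mul, ← map_mul, sk, map_neg]
  have v4' : k' * b3 * k' * b3 = b3 * (b3 * k') := by
    simp only [hk', ← hB, ← map_mul, ← map_mul, ← map_mul, ← map_mul, ← map_mul, v4]
  have r6' : (k' * (g' * k' * (g' * (g' * g')))) ^ 3 = L • (g' * g') := by
    simp only [hk', hg', ← map_mul, ← map_mul, ← map_mul, ← map_mul, ← map_mul, ← map_pow, r6, map_smul]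
  obtain ⟨x, d₀, d₁, d₂, t, hk, hg, ht, hgg, htt, ht0, ht2, ht1, h00, h11, h22, h21, h02, h10⟩ :=
    stage_one_neg hω h3 ka' ga' gb' kk2' g4'' sk' v4'
  have hcard : Fintype.card ι = 3 * Module.finrank F (Blk3.W (Λ (a : MI))) := by
    rw [← Blk3.finrank_eq h, Module.finrank_fintype_fun_eq_card]
  refine ⟨ω, a, b, k, g, L, Blk3.W (Λ (a : MI)), ψ, x, d₀, d₁, d₂, t, La, Lb, Lk, Lg, hA, hB, by rw [← hk', hk],
    by rw [← hg', hg], ?_, hcard, hL1⟩
  obtain ⟨a00, a01, a02, a10, a11, a12, a20, a21, a22⟩ := gm_entries hω x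
  obtain ⟨k00, k01, k02, k10, k11, k12, k20, k21, k22⟩ := dg_entries d₀ d₁ d₂
  refine ⟨hω, h2, h3, hL2, ht, htt, ht0, ht2, ht1, h00, h11, h22, h21, h02, h10, ?_, ?_, ?_⟩
  · rw [hk, hg] at r6'
    exact r6'
  · -- irreducibility
    intro U hx h0 h1 h2
    have hU : ∀ y ∈ P, ∀ v ∈ Blk3.up h U, Λ (y : MI) v ∈ Blk3.up h U := by
      let Y : Subgroup (GL ι F) :=
        { carrier := {y | (∀ v ∈ Blk3.up h U, Λ (y : MI) v ∈ Blk3.up h U)}
          mul_mem' := fun {y z} hy hz => by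
            intro v hv
            rw [Units.val_mul, map_mul]
            exact hy _ (hz _ hv)
          one_mem' := by
            intro v hv
            rw [Units.val_one, map_one]; exact hv
          inv_mem' := fun {y} hy => by
            intro v hv
            have h5 : (Blk3.up h U).map (Λ (y : MI)) ≤ Blk3.up h U := by
              rintro _ ⟨u, hu, rfl⟩
              exact hy u hu
            have hinj : Function.Injective (Λ (y : MI)) := by
              have h6 : Λ ((y⁻¹ : GL ι F) : MI) * Λ (y : MI) = 1 := by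
                rw [← map_mul, ← Units.val_mul, inv_mul_cancel, Units.val_one, map_one]
              intro u w huw
              have h7 := congrArg (Λ ((y⁻¹ : GL ι F) : MI)) huw
              have h8 : ∀ u, Λ ((y⁻¹ : GL ι F) : MI) (Λ (y : MI) u) = u := fun u =>
                congrArg (fun T : Module.End F (ι → F) => T u) h6
              rwa [h8, h8] at h7
            have h6 : (Blk3.up h U).map (Λ (y : MI)) = Blk3.up h U := by
              apply Submodule.eq_of_le_of_finrank_eq h5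
              exact (Submodule.equivMapOfInjective _ hinj _).finrank_eq.symm
            rw [← h6] at hv
            obtain ⟨u, hu, rfl⟩ := hv
            have h7 : Λ ((y⁻¹ : GL ι F) : MI) * Λ (y : MI) = 1 := by
              rw [← map_mul, ← Units.val_mul, inv_mul_cancel, Units.val_one, map_one]
            have h8 : Λ ((y⁻¹ : GL ι F) : MI) (Λ (y : MI) u) = u :=
                congrArg (fun T : Module.End F (ι → F) => T u) h7
            rw [h8]
            exact hu }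
      have hY : ∀ y : GL ι F, y ∈ Y ↔ (∀ v ∈ Blk3.up h U, Λ (y : MI) v ∈ Blk3.up h U) := fun _ => Iff.rfl
      have hPY : P ≤ Y := by
        refine le_of_gens' C gen7 ?_ ?_
        · intro s hs
          simp only [Set.mem_insert_iff, Set.mem_singleton_iff] at hs
          rcases hs with rfl | rfl | rfl | rfl
          · refine ⟨a, fun v hv => Blk3.up_invt h ?_ hv, La⟩
            rw [← hψ', hA]
            intro i j u hu
            rw [a3_apply]
            split_ifs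
            · exact U.smul_mem _ hu
            · exact zero_mem U
          · refine ⟨b, fun v hv => Blk3.up_invt h ?_ hv, Lb⟩
            rw [← hψ', hB]
            intro i j u hu
            rw [b3_apply]
            split_ifs
            · exact hu
            · exact zero_mem U
          · refine ⟨k, fun v hv => Blk3.up_invt h ?_ hv, Lk⟩
            rw [← hψ', ← hk', hk]
            intro i j u hu
            rcases fin3 i with rfl | rfl | rfl <;> rcases fin3 j with rfl | rfl | rfl <;>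
              simp only [k00, k01, k02, k10, k11, k12, k20, k21, k22]
            all_goals first
              | exact zero_mem U
              | exact h0 u hu
              | exact h1 u hu
              | exact h2 u hu
          · refine ⟨g, fun v hv => Blk3.up_invt h ?_ hv, Lg⟩
            rw [← hψ', ← hg', hg]
            intro i j u hu
            exact U.smul_mem _ (hx u hu)
        · intro c _
          refine (hY _).2 fun v hv => ?_
          rw [coe_sc, map_smul, map_one]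
          exact (Blk3.up h U).smul_mem _ hv
      intro y hy
      exact hPY hy
    have h4 := hC.absIrred.1 (Blk3.up h U) (by
      rintro _ ⟨y, hy, rfl⟩
      rintro _ ⟨v, hv, rfl⟩
      have key : Matrix.toLinAlgEquiv' (y : MI) v = Λ (y : MI) v := by rw [hΛ]
      show Matrix.toLinAlgEquiv' (y : MI) v ∈ Blk3.up h U
      rw [key]
      exact hU y hy v hv)
    rcases h4 with h4 | h4
    · exact Or.inl (Blk3.up_eq_bot h h4)
    · exact Or.inr (Blk3.up_eq_top h h4)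
  · -- commutant
    intro Z hx h0 h1 h2
    obtain ⟨X, hX⟩ : ∃ X : MI, ψ X = dg Z Z Z := ψ.surjective _
    obtain ⟨X00, X01, X02, X10, X11, X12, X20, X21, X22⟩ := dg_entries Z Z Z
    have key : ∀ y : GL ι F, dg Z Z Z * ψ (y : MI) = ψ (y : MI) * dg Z Z Z → X * (y : MI) = (y : MI) * X := by
      intro y hy
      apply ψ.injective
      simp only [map_mul, map_mul, hX]
      exact hy
    let Y : Subgroup (GL ι F) :=
      { carrier := {x | X * (x : MI) = (x : MI) * X}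
        mul_mem' := fun {x y} hx hy => by
          change X * ((x * y : GL ι F) : MI) = ((x * y : GL ι F) : MI) * X
          rw [Units.val_mul, ← mul_assoc, show X * (x : MI) = (x : MI) * X from hx, mul_assoc,
            show X * (y : MI) = (y : MI) * X from hy, mul_assoc]
        one_mem' := by
          change X * ((1 : GL ι F) : MI) = ((1 : GL ι F) : MI) * X
          rw [Units.val_one, mul_one, one_mul]
        inv_mem' := fun {x} hx => by
          change X * ((x⁻¹ : GL ι F) : MI) = ((x⁻¹ : GL ι F) : MI) * X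
          have h1 : ((x⁻¹ : GL ι F) : MI) * (X * (x : MI)) * ((x⁻¹ : GL ι F) : MI) =
            ((x⁻¹ : GL ι F) : MI) * ((x : MI) * X) * ((x⁻¹ : GL ι F) : MI) := by
              rw [show X * (x : MI) = (x : MI) * X from hx]
          have h2 : (x : MI) * ((x⁻¹ : GL ι F) : MI) = 1 := by rw [← Units.val_mul, mul_inv_cancel, Units.val_one]
          have h4 : ((x⁻¹ : GL ι F) : MI) * (x : MI) = 1 := by rw [← Units.val_mul, inv_mul_cancel, Units.val_one]
          rw [mul_assoc, mul_assoc, h2, mul_one, ← mul_assoc (((x⁻¹ : GL ι F) : MI)) (x : MI), h4, one_mul] at h1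
          exact h1.symm }
    have hPY : P ≤ Y := by
      refine le_of_gens' C gen7 ?_ ?_
      · intro s hs
        simp only [Set.mem_insert_iff, Set.mem_singleton_iff] at hs
        rcases hs with rfl | rfl | rfl | rfl
        · exact ⟨a, key a (by rw [hA]; exact dg_a3' _ Z), La⟩
        · exact ⟨b, key b (by rw [hB]; exact dg_b3' Z), Lb⟩
        · exact ⟨k, key k (by rw [← hk', hk]; exact dg_dg' h0 h1 h2), Lk⟩
        · exact ⟨g, key g (by rw [← hg', hg]; exact dg_gm' hω hx), Lg⟩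
      · intro c _
        change X * ((sc c : GL ι F) : MI) = ((sc c : GL ι F) : MI) * X
        rw [coe_sc, mul_smul_comm, smul_mul_assoc, mul_one, one_mul]
    obtain ⟨c, hc⟩ := hC.absIrred.2 X (by
      rintro _ ⟨x, hx, rfl⟩
      exact hPY hx)
    refine ⟨c, ?_⟩
    simp only [hc, map_smul, map_one] at hX
    have h6 := congrFun (congrFun hX 0) 0
    rw [X00, Matrix.smul_apply, Matrix.one_apply_eq] at h6
    exact h6.symm

/-- **The normal form in dimension twelve.** -/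
theorem exists_frame [Nonempty ι] [Finite F] (hC : Core P) (C : Cov P (alternatingGroup (Fin 7))) (hZ : Z6 P)
    (hn : Fintype.card ι = 12)
    (hz : ∃ c : Fˣ, c ≠ 1 ∧ c ^ 3 = 1 ∧ sc c ∈ P) (h2 : (2 : F) ≠ 0) (hneg : (sc (-1 : Fˣ) : GL ι F) ∈ P) :
    ∃ (ω : Fˣ) (L : F) (a b k g : GL ι F)
      (ψ : Matrix ι ι F ≃ₐ[F] Matrix (Fin 3) (Fin 3) (Matrix (Fin 2) (Fin 2) (Matrix (Fin 2) (Fin 2) F)))
      (x d₀ d₁ d₂ t : Matrix (Fin 2) (Fin 2) (Matrix (Fin 2) (Fin 2) F))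
      (X Z N p₀ p₁ p₂ q₀ q₁ q₂ : Matrix (Fin 2) (Fin 2) F),
      C.L a r3 ∧ C.L b r3' ∧ C.L k kk ∧ C.L g g4 ∧ ψ a = a3 (ω : F) ∧ ψ b = b3 ∧ ψ k = dg d₀ d₁ d₂ ∧ ψ g = gm (ω : F) x ∧
      Blk (ω : F) (ω - ω ^ 2) x t d₀ d₁ d₂ ∧ Shape (F := F) x t X Z N ∧ Eqs (ω : F) L X Z N p₀ p₁ p₂ q₀ q₁ q₂ ∧
      Irr X Z N ∧ L = 1 := by
  obtain ⟨ω, a, b, k, g, h88⟩ :=
    exists_dat hC C hZ hz h2 hneg
  revert h88; rintro ⟨L, W, ψ, x, d₀, h88⟩
  revert h88; rintro ⟨d₁, d₂, t, La, Lb, h88⟩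
  revert h88; rintro ⟨Lk, Lg, hA, hB, hK, h88⟩
  revert h88; rintro ⟨hG, D, hW, hL1⟩
  rw [hn] at hW
  obtain ⟨θ, X, Z, N, p₀, h88⟩ := D.main (by omega)
  revert h88; rintro ⟨p₁, p₂, q₀, q₁, q₂, h88⟩
  revert h88; rintro ⟨hB', S, E, I⟩
  refine ⟨ω, L, a, b, k, g, ψ.trans θ.mapMatrix, θ x, θ d₀, θ d₁, θ d₂, θ t, X, Z, N, p₀, p₁, p₂, q₀, q₁, q₂, La, Lb, Lk,
    Lg, ?_, ?_, ?_, ?_, hB', S, E, I, hL1⟩
  · rw [AlgEquiv.trans_apply, hA]; exact map_a3' (R := Module.End F W) (S := Matrix (Fin 2) (Fin 2) (Matrix (Fin 2) (Fin 2) F)) (θ :)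
  · rw [AlgEquiv.trans_apply, hB]; exact map_b3' (R := Module.End F W) (S := Matrix (Fin 2) (Fin 2) (Matrix (Fin 2) (Fin 2) F)) θ
  · rw [AlgEquiv.trans_apply, hK]; exact map_dg' (R := Module.End F W) (S := Matrix (Fin 2) (Fin 2) (Matrix (Fin 2) (Fin 2) F)) θ _ _ _
  · rw [AlgEquiv.trans_apply, hG]; exact map_gm' (R := Module.End F W) (S := Matrix (Fin 2) (Fin 2) (Matrix (Fin 2) (Fin 2) F)) θ x

/-- **`6.A₇` in dimension twelve: `p = 5`.** -/
theorem twelve_six [Finite F] (hC : Core P) (e : Soc P ≃* alternatingGroup (Fin 7)) (hn : Fintype.card ι = 12)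
    (hz : ∃ c : Fˣ, c ≠ 1 ∧ c ^ 3 = 1 ∧ sc c ∈ P) (h2 : (2 : F) ≠ 0) (hneg : (sc (-1 : Fˣ) : GL ι F) ∈ P) :
    (5 : F) = 0 := by
  have hι : Nonempty ι := hC.nonempty
  by_contra h5
  obtain ⟨ω, L, a, b, k, h88⟩ :=
    exists_frame hC (Cov.of e) (z6_of' hC e) hn hz h2 hneg
  revert h88; rintro ⟨g, ψ, x, d₀, d₁, h88⟩
  revert h88; rintro ⟨d₂, t, X, Z, N, h88⟩
  revert h88; rintro ⟨p₀, p₁, p₂, q₀, q₁, h88⟩
  revert h88; rintro ⟨q₂, -, -, -, -, h88⟩
  revert h88; rintro ⟨-, -, -, -, -, h88⟩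
  revert h88; rintro ⟨-, E, I, -⟩
  exact E.false_of I h5

end core

end Cfsg.Agent.H825.A7x
end

private theorem dce_1211c943284b : _root_.True := by
  try have : _root_.True := by simp only [_root_.Cfsg.Agent.H825.A7x.EE.eq_1]
  try have : _root_.True := by simp only [_root_.Cfsg.Agent.H825.A7x.Blk3.pj.congr_simp]
  try have : _root_.True := by simp only [_root_.Cfsg.Agent.H825.A7x.SD.eq_1]
  try have : _root_.True := by simp only [_root_.Cfsg.Agent.H825.A7x.Blk3.W.eq_1]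
  try have : _root_.True := by simp only [_root_.Cfsg.Agent.H825.A7x.Blk3.rho.congr_simp]
  exact _root_.True.intro
end

-- part: H108/TK/Five
section
prune_inst 0x10000400100020000000000000000000000008000000000000000400000400000000000200000000000000000040000000000000000000000000000000000000000000080080000020008000000000000000000000000000000000000000000000000000
set_option linter.all false
open scoped Cfsg.Agent.FastGrp

-- part: H108/TK/FiveMat
section
/-!
# `6.A₇` in dimension twelve, characteristic five: the explicit matrices (helper108)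

Over `Ra = F₅[w]`, `w² + w + 1 = 0`: `V_s G = G (A_s ⊗ B_s)` for the four generators.
-/

set_option autoImplicit false
set_option linter.unusedSectionVars false
set_option maxRecDepth 100000

namespace Cfsg.Agent.H108.TK.Five

open Matrix
open scoped Kronecker

/-- `F₅[w]`, `w² = -1 - w` -/
abbrev Ra : Type := QuadraticAlgebra (ZMod 5) (-1) (-1)

def w : Ra := ⟨0, 1⟩

def Aa : Matrix (Fin 3) (Fin 3) Ra := !![1, 0, 0; 0, w, 0; 0, 0, w ^ 2]
def Ab : Matrix (Fin 3) (Fin 3) Ra := !![0, 0, 1; 1, 0, 0; 0, 1, 0]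
def Ak : Matrix (Fin 3) (Fin 3) Ra := !![1, 0, 0; 0, -1, 0; 0, 0, -1]
def Ag : Matrix (Fin 3) (Fin 3) Ra := !![⟨3, 1⟩, ⟨3, 1⟩, ⟨3, 1⟩;
    ⟨3, 1⟩, ⟨3, 2⟩, ⟨4, 2⟩;
    ⟨3, 1⟩, ⟨4, 2⟩, ⟨3, 2⟩]
def Ba : Matrix (Fin 4) (Fin 4) Ra := !![⟨0, 1⟩, ⟨0, 0⟩, ⟨0, 0⟩, ⟨0, 0⟩;
    ⟨0, 0⟩, ⟨4, 4⟩, ⟨0, 0⟩, ⟨0, 0⟩;
    ⟨0, 0⟩, ⟨0, 0⟩, ⟨4, 4⟩, ⟨0, 0⟩;
    ⟨0, 0⟩, ⟨0, 0⟩, ⟨0, 0⟩, ⟨0, 1⟩]
def Bb : Matrix (Fin 4) (Fin 4) Ra := !![⟨0, 1⟩, ⟨0, 0⟩, ⟨0, 0⟩, ⟨0, 0⟩;
    ⟨0, 0⟩, ⟨0, 1⟩, ⟨0, 0⟩, ⟨0, 0⟩;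
    ⟨0, 0⟩, ⟨0, 0⟩, ⟨4, 4⟩, ⟨0, 0⟩;
    ⟨0, 0⟩, ⟨0, 0⟩, ⟨0, 0⟩, ⟨4, 4⟩]
def Bk : Matrix (Fin 4) (Fin 4) Ra := !![⟨3, 1⟩, ⟨0, 0⟩, ⟨0, 0⟩, ⟨0, 2⟩;
    ⟨0, 0⟩, ⟨3, 1⟩, ⟨2, 2⟩, ⟨0, 0⟩;
    ⟨0, 0⟩, ⟨0, 2⟩, ⟨2, 4⟩, ⟨0, 0⟩;
    ⟨2, 2⟩, ⟨0, 0⟩, ⟨0, 0⟩, ⟨2, 4⟩]
def Bg : Matrix (Fin 4) (Fin 4) Ra := !![⟨0, 0⟩, ⟨0, 0⟩, ⟨0, 0⟩, ⟨4, 0⟩;
    ⟨1, 0⟩, ⟨0, 0⟩, ⟨0, 0⟩, ⟨0, 0⟩;
    ⟨0, 0⟩, ⟨1, 0⟩, ⟨0, 0⟩, ⟨0, 0⟩;
    ⟨0, 0⟩, ⟨0, 0⟩, ⟨1, 0⟩, ⟨0, 0⟩]
def d0 : Matrix (Fin 2) (Fin 2) Ra := !![⟨3, 1⟩, ⟨3, 1⟩;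
    ⟨1, 2⟩, ⟨2, 4⟩]
def d1 : Matrix (Fin 2) (Fin 2) Ra := !![⟨3, 1⟩, ⟨4, 2⟩;
    ⟨1, 4⟩, ⟨2, 4⟩]
def d2 : Matrix (Fin 2) (Fin 2) Ra := !![⟨3, 1⟩, ⟨3, 2⟩;
    ⟨3, 4⟩, ⟨2, 4⟩]
def x4 : Matrix (Fin 4) (Fin 4) Ra := !![⟨0, 0⟩, ⟨1, 0⟩, ⟨0, 0⟩, ⟨4, 2⟩;
    ⟨2, 0⟩, ⟨0, 0⟩, ⟨4, 1⟩, ⟨4, 2⟩;
    ⟨2, 1⟩, ⟨3, 4⟩, ⟨1, 1⟩, ⟨4, 3⟩;
    ⟨3, 2⟩, ⟨0, 0⟩, ⟨3, 0⟩, ⟨4, 4⟩]

def G12 : Matrix (Fin 12) (Fin 12) Ra := !![⟨0, 0⟩, ⟨0, 0⟩, ⟨0, 0⟩, ⟨0, 0⟩, ⟨0, 0⟩, ⟨3, 0⟩, ⟨2, 1⟩, ⟨0, 0⟩, ⟨1, 0⟩, ⟨0, 0⟩, ⟨0, 0⟩, ⟨2, 3⟩;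
    ⟨0, 0⟩, ⟨0, 0⟩, ⟨0, 0⟩, ⟨0, 0⟩, ⟨0, 0⟩, ⟨1, 2⟩, ⟨0, 1⟩, ⟨0, 0⟩, ⟨3, 2⟩, ⟨0, 0⟩, ⟨0, 0⟩, ⟨0, 2⟩;
    ⟨0, 0⟩, ⟨0, 0⟩, ⟨0, 0⟩, ⟨0, 0⟩, ⟨0, 0⟩, ⟨0, 1⟩, ⟨1, 4⟩, ⟨0, 0⟩, ⟨3, 3⟩, ⟨0, 0⟩, ⟨0, 0⟩, ⟨4, 2⟩;
    ⟨0, 0⟩, ⟨0, 0⟩, ⟨0, 0⟩, ⟨0, 0⟩, ⟨0, 0⟩, ⟨1, 3⟩, ⟨1, 1⟩, ⟨0, 0⟩, ⟨3, 4⟩, ⟨0, 0⟩, ⟨0, 0⟩, ⟨3, 0⟩;
    ⟨4, 4⟩, ⟨0, 0⟩, ⟨0, 0⟩, ⟨2, 4⟩, ⟨0, 0⟩, ⟨0, 0⟩, ⟨0, 0⟩, ⟨0, 0⟩, ⟨0, 0⟩, ⟨2, 2⟩, ⟨4, 1⟩, ⟨0, 0⟩;
    ⟨4, 2⟩, ⟨0, 0⟩, ⟨0, 0⟩, ⟨3, 3⟩, ⟨0, 0⟩, ⟨0, 0⟩, ⟨0, 0⟩, ⟨0, 0⟩, ⟨0, 0⟩, ⟨1, 4⟩, ⟨4, 4⟩, ⟨0, 0⟩;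
    ⟨0, 2⟩, ⟨0, 0⟩, ⟨0, 0⟩, ⟨3, 2⟩, ⟨0, 0⟩, ⟨0, 0⟩, ⟨0, 0⟩, ⟨0, 0⟩, ⟨0, 0⟩, ⟨1, 0⟩, ⟨1, 2⟩, ⟨0, 0⟩;
    ⟨1, 2⟩, ⟨0, 0⟩, ⟨0, 0⟩, ⟨0, 3⟩, ⟨0, 0⟩, ⟨0, 0⟩, ⟨0, 0⟩, ⟨0, 0⟩, ⟨0, 0⟩, ⟨2, 4⟩, ⟨4, 0⟩, ⟨0, 0⟩;
    ⟨0, 0⟩, ⟨0, 3⟩, ⟨4, 3⟩, ⟨0, 0⟩, ⟨0, 1⟩, ⟨0, 0⟩, ⟨0, 0⟩, ⟨1, 3⟩, ⟨0, 0⟩, ⟨0, 0⟩, ⟨0, 0⟩, ⟨0, 0⟩;
    ⟨0, 0⟩, ⟨3, 4⟩, ⟨1, 0⟩, ⟨0, 0⟩, ⟨3, 1⟩, ⟨0, 0⟩, ⟨0, 0⟩, ⟨2, 0⟩, ⟨0, 0⟩, ⟨0, 0⟩, ⟨0, 0⟩, ⟨0, 0⟩;
    ⟨0, 0⟩, ⟨4, 4⟩, ⟨3, 4⟩, ⟨0, 0⟩, ⟨2, 0⟩, ⟨0, 0⟩, ⟨0, 0⟩, ⟨3, 1⟩, ⟨0, 0⟩, ⟨0, 0⟩, ⟨0, 0⟩, ⟨0, 0⟩;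
    ⟨0, 0⟩, ⟨2, 3⟩, ⟨0, 4⟩, ⟨0, 0⟩, ⟨1, 4⟩, ⟨0, 0⟩, ⟨0, 0⟩, ⟨2, 2⟩, ⟨0, 0⟩, ⟨0, 0⟩, ⟨0, 0⟩, ⟨0, 0⟩]
def Gi12 : Matrix (Fin 12) (Fin 12) Ra := !![⟨0, 0⟩, ⟨0, 0⟩, ⟨0, 0⟩, ⟨0, 0⟩, ⟨3, 0⟩, ⟨3, 1⟩, ⟨0, 3⟩, ⟨4, 2⟩, ⟨0, 0⟩, ⟨0, 0⟩, ⟨0, 0⟩, ⟨0, 0⟩;
    ⟨0, 0⟩, ⟨0, 0⟩, ⟨0, 0⟩, ⟨0, 0⟩, ⟨0, 0⟩, ⟨0, 0⟩, ⟨0, 0⟩, ⟨0, 0⟩, ⟨1, 0⟩, ⟨2, 1⟩, ⟨4, 4⟩, ⟨4, 3⟩;
    ⟨0, 0⟩, ⟨0, 0⟩, ⟨0, 0⟩, ⟨0, 0⟩, ⟨0, 0⟩, ⟨0, 0⟩, ⟨0, 0⟩, ⟨0, 0⟩, ⟨1, 3⟩, ⟨4, 4⟩, ⟨4, 3⟩, ⟨0, 2⟩;
    ⟨0, 0⟩, ⟨0, 0⟩, ⟨0, 0⟩, ⟨0, 0⟩, ⟨4, 1⟩, ⟨2, 2⟩, ⟨3, 1⟩, ⟨1, 0⟩, ⟨0, 0⟩, ⟨0, 0⟩, ⟨0, 0⟩, ⟨0, 0⟩;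
    ⟨0, 0⟩, ⟨0, 0⟩, ⟨0, 0⟩, ⟨0, 0⟩, ⟨0, 0⟩, ⟨0, 0⟩, ⟨0, 0⟩, ⟨0, 0⟩, ⟨0, 3⟩, ⟨4, 2⟩, ⟨2, 2⟩, ⟨3, 2⟩;
    ⟨0, 1⟩, ⟨4, 1⟩, ⟨1, 0⟩, ⟨2, 1⟩, ⟨0, 0⟩, ⟨0, 0⟩, ⟨0, 0⟩, ⟨0, 0⟩, ⟨0, 0⟩, ⟨0, 0⟩, ⟨0, 0⟩, ⟨0, 0⟩;
    ⟨2, 4⟩, ⟨0, 1⟩, ⟨4, 1⟩, ⟨2, 0⟩, ⟨0, 0⟩, ⟨0, 0⟩, ⟨0, 0⟩, ⟨0, 0⟩, ⟨0, 0⟩, ⟨0, 0⟩, ⟨0, 0⟩, ⟨0, 0⟩;
    ⟨0, 0⟩, ⟨0, 0⟩, ⟨0, 0⟩, ⟨0, 0⟩, ⟨0, 0⟩, ⟨0, 0⟩, ⟨0, 0⟩, ⟨0, 0⟩, ⟨2, 1⟩, ⟨0, 3⟩, ⟨3, 2⟩, ⟨4, 4⟩;
    ⟨2, 2⟩, ⟨3, 2⟩, ⟨3, 0⟩, ⟨3, 1⟩, ⟨0, 0⟩, ⟨0, 0⟩, ⟨0, 0⟩, ⟨0, 0⟩, ⟨0, 0⟩, ⟨0, 0⟩, ⟨0, 0⟩, ⟨0, 0⟩;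
    ⟨0, 0⟩, ⟨0, 0⟩, ⟨0, 0⟩, ⟨0, 0⟩, ⟨4, 4⟩, ⟨4, 3⟩, ⟨0, 1⟩, ⟨4, 1⟩, ⟨0, 0⟩, ⟨0, 0⟩, ⟨0, 0⟩, ⟨0, 0⟩;
    ⟨0, 0⟩, ⟨0, 0⟩, ⟨0, 0⟩, ⟨0, 0⟩, ⟨2, 3⟩, ⟨1, 0⟩, ⟨2, 1⟩, ⟨3, 3⟩, ⟨0, 0⟩, ⟨0, 0⟩, ⟨0, 0⟩, ⟨0, 0⟩;
    ⟨4, 3⟩, ⟨3, 0⟩, ⟨4, 2⟩, ⟨0, 1⟩, ⟨0, 0⟩, ⟨0, 0⟩, ⟨0, 0⟩, ⟨0, 0⟩, ⟨0, 0⟩, ⟨0, 0⟩, ⟨0, 0⟩, ⟨0, 0⟩]

abbrev N12 : Type := Fin 3 × Fin 4

/-- the index -/
def ix (p : N12) : Fin 12 := ⟨4 * (p.1 : ℕ) + p.2, by have := p.1.2; have := p.2.2; omega⟩

def G : Matrix N12 N12 Ra := Matrix.of fun p q => G12 (ix p) (ix q)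
def Gi : Matrix N12 N12 Ra := Matrix.of fun p q => Gi12 (ix p) (ix q)

def hi (p : Fin 4) : Fin 2 := ⟨(p : ℕ) / 2, by have := p.2; omega⟩
def lo (p : Fin 4) : Fin 2 := ⟨(p : ℕ) % 2, by omega⟩

def Va : Matrix N12 N12 Ra := Matrix.of fun p q => if p = q then w ^ (p.1 : ℕ) else 0
def Vb : Matrix N12 N12 Ra := Matrix.of fun p q => if p.1 = q.1 + 1 ∧ p.2 = q.2 then 1 else 0
def dd (i : Fin 3) : Matrix (Fin 2) (Fin 2) Ra := if i = 0 then d0 else if i = 1 then d1 else d2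
def Vk : Matrix N12 N12 Ra := Matrix.of fun p q =>
  if p.1 = q.1 ∧ lo p.2 = lo q.2 then dd p.1 (hi p.2) (hi q.2) else 0
def Vg : Matrix N12 N12 Ra := Matrix.of fun p q => w ^ (2 * (p.1 : ℕ) * (q.1 : ℕ)) * x4 p.2 q.2

theorem G_mul_Gi : G * Gi = 1 := by (set_option synthInstance.maxSize 20000 in open scoped Cfsg.Agent.Lib.MatDec Cfsg.Agent.Lib.MatRng in decide +kernel)
theorem Gi_mul_G : Gi * G = 1 := by (set_option synthInstance.maxSize 20000 in open scoped Cfsg.Agent.Lib.MatDec Cfsg.Agent.Lib.MatRng in decide +kernel)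
theorem ea : Va * G = G * (Aa ⊗ₖ Ba) := by (set_option synthInstance.maxSize 20000 in open scoped Cfsg.Agent.Lib.MatDec Cfsg.Agent.Lib.MatRng in decide +kernel)
theorem eb : Vb * G = G * (Ab ⊗ₖ Bb) := by (set_option synthInstance.maxSize 20000 in open scoped Cfsg.Agent.Lib.MatDec Cfsg.Agent.Lib.MatRng in decide +kernel)
theorem ek : Vk * G = G * (Ak ⊗ₖ Bk) := by (set_option synthInstance.maxSize 20000 in open scoped Cfsg.Agent.Lib.MatDec Cfsg.Agent.Lib.MatRng in decide +kernel)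
theorem eg : Vg * G = G * (Ag ⊗ₖ Bg) := by (set_option synthInstance.maxSize 20000 in open scoped Cfsg.Agent.Lib.MatDec Cfsg.Agent.Lib.MatRng in decide +kernel)

/-- conjugation `w ↦ w²` -/
def cj (x : Ra) : Ra := ⟨x.re - x.im, -x.im⟩

theorem uAa : Aaᵀ * Aa.map cj = 1 := by decide +kernel
theorem uAb : Abᵀ * Ab.map cj = 1 := by decide +kernel
theorem uAk : Akᵀ * Ak.map cj = 1 := by decide +kernel
theorem uAg : Agᵀ * Ag.map cj = 1 := by decide +kernel
theorem uBa : Baᵀ * Ba.map cj = 1 := by decide +kernel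
theorem uBb : Bbᵀ * Bb.map cj = 1 := by decide +kernel
theorem uBk : Bkᵀ * Bk.map cj = 1 := by decide +kernel
theorem uBg : Bgᵀ * Bg.map cj = 1 := by decide +kernel

end Cfsg.Agent.H108.TK.Five
end

-- part: H108/TK/Sko
section
/-!
# Algebra isomorphisms of matrix algebras are inner (helper108)
-/

set_option autoImplicit false
set_option linter.unusedSectionVars false

namespace Cfsg.Agent.H108.TK

open Matrix

/-- Skolem–Noether, in coordinates. -/
theorem exists_conj_alg {ι ν : Type*} [Fintype ι] [DecidableEq ι] [Fintype ν] [DecidableEq ν] {F : Type*} [Field F]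
    (Ψ : Matrix ι ι F ≃ₐ[F] Matrix ν ν F) : ∃ (e : ν ≃ ι) (u : GL ι F), ∀ A : Matrix ι ι F,
      A = (u : Matrix ι ι F) * Matrix.reindex e e (Ψ A) * ((u⁻¹ : GL ι F) : Matrix ι ι F) := by
  let f : Module.End F (ι → F) ≃ₐ[F] Module.End F (ν → F) :=
    (Matrix.toLinAlgEquiv' (R := F) (n := ι)).symm.trans (Ψ.trans (Matrix.toLinAlgEquiv' (R := F) (n := ν)))
  obtain ⟨T, hT⟩ := AlgEquiv.eq_linearEquivConjAlgEquiv f
  have hcard : Fintype.card ν = Fintype.card ι := by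
    have h := T.finrank_eq
    rw [Module.finrank_fintype_fun_eq_card, Module.finrank_fintype_fun_eq_card] at h
    exact h.symm
  obtain ⟨e⟩ : Nonempty (ν ≃ ι) := Fintype.card_eq.1 hcard
  let M : Matrix ν ι F := LinearMap.toMatrix' (T : (ι → F) →ₗ[F] (ν → F))
  let N : Matrix ι ν F := LinearMap.toMatrix' (T.symm : (ν → F) →ₗ[F] (ι → F))
  have hNM : N * M = 1 := by
    rw [← LinearMap.toMatrix'_comp, LinearEquiv.symm_comp, LinearMap.toMatrix'_id]
  have hMN : M * N = 1 := by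
    rw [← LinearMap.toMatrix'_comp, LinearEquiv.comp_symm, LinearMap.toMatrix'_id]
  have key : ∀ A : Matrix ι ι F, A = N * Ψ A * M := by
    intro A
    have h1 : Ψ A = M * A * N := by
      have h2 := DFunLike.congr_fun hT (Matrix.toLinAlgEquiv' A)
      have h3 : f (Matrix.toLinAlgEquiv' A) = Matrix.toLinAlgEquiv' (Ψ A) := by
        change Matrix.toLinAlgEquiv' (Ψ ((Matrix.toLinAlgEquiv').symm (Matrix.toLinAlgEquiv' A))) = _
        rw [AlgEquiv.symm_apply_apply]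
      rw [h3] at h2
      have h4 : Ψ A = LinearMap.toMatrix' (Matrix.toLinAlgEquiv' (Ψ A)) := by
        exact (LinearMap.toMatrix'_toLin' (Ψ A)).symm
      rw [h4, h2]
      have h5 : T.conjAlgEquiv F (Matrix.toLinAlgEquiv' A) =
          (T : (ι → F) →ₗ[F] (ν → F)) ∘ₗ (Matrix.toLin' A) ∘ₗ (T.symm : (ν → F) →ₗ[F] (ι → F)) := rfl
      rw [h5, LinearMap.toMatrix'_comp, LinearMap.toMatrix'_comp, LinearMap.toMatrix'_toLin', Matrix.mul_assoc]
    rw [h1]
    calc A = (N * M) * A * (N * M) := by rw [hNM, Matrix.one_mul, Matrix.mul_one]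
      _ = _ := by simp only [Matrix.mul_assoc]
  refine ⟨e, ⟨N.submatrix id e.symm, M.submatrix e.symm id, ?_, ?_⟩, fun A => ?_⟩
  · rw [Matrix.submatrix_mul_equiv, hNM]
    exact Matrix.submatrix_id_id _
  · have h1 : M.submatrix e.symm id * N.submatrix id e.symm = (M * N).submatrix e.symm e.symm :=
      (Matrix.submatrix_mul _ _ _ _ _ Function.bijective_id).symm
    rw [h1, hMN]
    exact Matrix.submatrix_one_equiv _
  · change A = N.submatrix id e.symm * (Ψ A).submatrix e.symm e.symm * M.submatrix e.symm id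
    rw [Matrix.submatrix_mul_equiv, Matrix.submatrix_mul_equiv, ← key A]
    exact (Matrix.submatrix_id_id _).symm

end Cfsg.Agent.H108.TK
end

-- part: H930/A7s/Two
section
/-!
# `6.A₇` in dimension twelve, characteristic five: the two-dimensional multiplicity space (helper930)

`V = F³ ⊗ F² ⊗ M`, `dim M = 2`; three operators `X, Z, N` on `M`.
-/

set_option autoImplicit false
set_option linter.unusedSectionVars false

namespace Cfsg.Agent.H930.A7s

open Matrix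
open Cfsg.Agent.H890.A7 (ch2 ch2' IsSc coeff_zero exists_uv)

variable {F : Type*} [Field F]

local notation "R2" => Matrix (Fin 2) (Fin 2) F

/-- the data on `M` (characteristic five, `l = -1`), `s = 2ω + 1`, `s² = 2` -/
structure MD {R : Type*} [Ring R] [Algebra F R] (ω s : F) (X Z N : R) : Prop where
  h5 : (5 : F) = 0
  hω : ω ^ 2 + ω + 1 = 0
  hs : s = 2 * ω + 1
  nn : N * N = 1
  xx : X * X = Z * Z
  xz : X * Z + Z * X = (-2 : F) • 1
  /-- `T₀² + s T₀ + 3 = 0` -/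
  e0 : ∀ T₀ : R, T₀ = (-2 : F) • (s • (X * X) + X * N * Z - Z * N * X) → T₀ * T₀ + s • T₀ + (3 : F) • 1 = 0
  e0' : ∀ T₀ P₀ : R, T₀ = (-2 : F) • (s • (X * X) + X * N * Z - Z * N * X) →
    P₀ = s • (Z * X - X * Z) + (2 : F) • (X * N * X) + (2 : F) • (Z * N * Z) → P₀ * P₀ + T₀ * T₀ = -1
  e1 : ∀ T₀ P₀ P₁ : R, T₀ = (-2 : F) • (s • (X * X) + X * N * Z - Z * N * X) →
    P₀ = s • (Z * X - X * Z) + (2 : F) • (X * N * X) + (2 : F) • (Z * N * Z) →
    P₁ = s • (Z * X - X * Z) + (2 * ω ^ 2) • (X * N * X) + (2 * ω) • (Z * N * Z) →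
    N * P₁ * N = s • (P₀ * T₀) + (3 : F) • P₀
  e3 : ∀ P₁ T₁ T₂ : R, P₁ = s • (Z * X - X * Z) + (2 * ω ^ 2) • (X * N * X) + (2 * ω) • (Z * N * Z) →
    T₁ = (-2 : F) • (s • (X * X) + ω • (X * N * Z) - ω ^ 2 • (Z * N * X)) →
    T₂ = (-2 : F) • (s • (X * X) + ω ^ 2 • (X * N * Z) - ω • (Z * N * X)) →
    P₁ * P₁ + T₂ * T₁ = -1
  e5 : ∀ P₂ : R, P₂ = s • (Z * X - X * Z) + (2 * ω) • (X * N * X) + (2 * ω ^ 2) • (Z * N * Z) →
    (2 : F) • (P₂ * P₂) + 1 = N * P₂ + P₂ * N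

/-- transport along an algebra homomorphism -/
theorem MD.map {R R' : Type*} [Ring R] [Algebra F R] [Ring R'] [Algebra F R'] (φ : R →ₐ[F] R') {ω s : F} {X Z N : R}
    (h : MD ω s X Z N) : MD ω s (φ X) (φ Z) (φ N) := by
  refine ⟨h.h5, h.hω, h.hs, ?_, ?_, ?_, ?_, ?_, ?_, ?_, ?_⟩
  · rw [← map_mul, h.nn, map_one]
  · rw [← map_mul, h.xx, map_mul]
  · rw [← map_mul, ← map_mul, ← map_add, h.xz, map_smul, map_one]
  · rintro _ rfl
    have := congrArg φ (h.e0 _ rfl)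
    simpa only [map_mul, map_add, map_sub, map_smul, map_one, map_zero, map_neg] using this
  · rintro _ _ rfl rfl
    have := congrArg φ (h.e0' _ _ rfl rfl)
    simpa only [map_mul, map_add, map_sub, map_smul, map_one, map_zero, map_neg] using this
  · rintro _ _ _ rfl rfl rfl
    have := congrArg φ (h.e1 _ _ _ rfl rfl rfl)
    simpa only [map_mul, map_add, map_sub, map_smul, map_one, map_zero, map_neg] using this
  · rintro _ _ _ rfl rfl rfl
    have := congrArg φ (h.e3 _ _ _ rfl rfl rfl)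
    simpa only [map_mul, map_add, map_sub, map_smul, map_one, map_zero, map_neg] using this
  · rintro _ rfl
    have := congrArg φ (h.e5 _ rfl)
    simpa only [map_mul, map_add, map_sub, map_smul, map_one, map_zero, map_neg] using this

variable {ω s : F} {X Z N : Matrix (Fin 2) (Fin 2) F}

theorem MD.s2 (h : MD ω s X Z N) : s * s = 2 := by
  rw [h.hs]
  linear_combination 4 * h.hω - h.h5

theorem MD.sne (h : MD ω s X Z N) : s ≠ 0 := by
  intro h0
  have h1 := h.s2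
  rw [h0, zero_mul] at h1
  have : (1 : F) = 0 := by linear_combination h.h5 + 2 * h1
  exact one_ne_zero this

theorem MD.ne (h : MD ω s X Z N) : (2 : F) ≠ 0 := by
  intro h0
  have : (1 : F) = 0 := by linear_combination h.h5 - 2 * h0
  exact one_ne_zero this

theorem MD.ne3 (h : MD ω s X Z N) : (3 : F) ≠ 0 := by
  intro h0
  have : (1 : F) = 0 := by linear_combination 2 * h0 - h.h5
  exact one_ne_zero this

/-- a common eigenvector -/
def Cev (X Z N : R2) : Prop := ∃ v : Fin 2 → F, v ≠ 0 ∧ (∃ a : F, X *ᵥ v = a • v) ∧ (∃ a : F, Z *ᵥ v = a • v) ∧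
  ∃ a : F, N *ᵥ v = a • v

theorem eq_zero_of_mulVec {A : R2} (h : ∀ v, A *ᵥ v = 0) : A = 0 := by
  ext i j
  have := congrFun (h (Pi.single j 1)) i
  rwa [Matrix.mulVec_single_one] at this

/-- an eigenvector from a split quadratic equation -/
theorem exists_ev {A : R2} {α β : F} (h : (A - α • 1) * (A - β • 1) = 0) :
    ∃ v : Fin 2 → F, v ≠ 0 ∧ ∃ c : F, A *ᵥ v = c • v := by
  by_cases hA : A - β • 1 = 0
  · refine ⟨Pi.single 0 1, ?_, β, ?_⟩
    · intro h0
      have := congrFun h0 0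
      simp at this
    · have : A = β • 1 := sub_eq_zero.1 hA
      rw [this, Matrix.smul_mulVec, Matrix.one_mulVec]
  · obtain ⟨w, hw⟩ : ∃ w, (A - β • 1) *ᵥ w ≠ 0 := by
      by_contra hcon
      push Not at hcon
      exact hA (eq_zero_of_mulVec hcon)
    refine ⟨_, hw, α, ?_⟩
    have h1 : (A - α • 1) *ᵥ ((A - β • 1) *ᵥ w) = 0 := by
      rw [Matrix.mulVec_mulVec, h, Matrix.zero_mulVec]
    rw [Matrix.sub_mulVec, Matrix.smul_mulVec, Matrix.one_mulVec] at h1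
    exact sub_eq_zero.1 h1

/-- commuting matrices with eigenvectors have a common eigenvector -/
theorem common_ev {A B : R2} (hAB : B * A = A * B) (hA : ∃ v : Fin 2 → F, v ≠ 0 ∧ ∃ c : F, A *ᵥ v = c • v)
    (hB : ∃ v : Fin 2 → F, v ≠ 0 ∧ ∃ c : F, B *ᵥ v = c • v) :
    ∃ v : Fin 2 → F, v ≠ 0 ∧ (∃ c : F, A *ᵥ v = c • v) ∧ ∃ c : F, B *ᵥ v = c • v := by
  by_cases hs : IsSc A
  · obtain ⟨c, rfl⟩ := hs
    obtain ⟨v, hv, d, hd⟩ := hB
    exact ⟨v, hv, ⟨c, by rw [Matrix.smul_mulVec, Matrix.one_mulVec]⟩, d, hd⟩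
  · obtain ⟨u, w, huw⟩ := exists_uv hs hAB
    obtain ⟨v, hv, c, hc⟩ := hA
    refine ⟨v, hv, ⟨c, hc⟩, u + w * c, ?_⟩
    rw [huw, Matrix.add_mulVec, Matrix.smul_mulVec, Matrix.smul_mulVec, Matrix.one_mulVec, hc]
    module

/-- a square-zero nonzero matrix: what anticommutes with it preserves the kernel -/
theorem ker_line {K : R2} (hK : K * K = 0) (hK0 : K ≠ 0) : ∃ v : Fin 2 → F, v ≠ 0 ∧
    ∀ A : R2, A * K = -(K * A) → ∃ c : F, A *ᵥ v = c • v := by
  obtain ⟨w, hw⟩ : ∃ w, K *ᵥ w ≠ 0 := by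
    by_contra hcon
    push Not at hcon
    exact hK0 (eq_zero_of_mulVec hcon)
  obtain ⟨v, hv⟩ : ∃ v, v = K *ᵥ w := ⟨_, rfl⟩
  rw [← hv] at hw
  have hKv : K *ᵥ v = 0 := by rw [hv, Matrix.mulVec_mulVec, hK, Matrix.zero_mulVec]
  refine ⟨v, hw, fun A hA => ?_⟩
  have h1 : K *ᵥ (A *ᵥ v) = 0 := by
    rw [Matrix.mulVec_mulVec]
    have : K * A = -(A * K) := by rw [hA, neg_neg]
    rw [this, Matrix.neg_mulVec, ← Matrix.mulVec_mulVec, hKv, Matrix.mulVec_zero, neg_zero]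
  -- the kernel is a line
  by_contra hcon
  push Not at hcon
  apply hK0
  have hli : LinearIndependent F ![v, A *ᵥ v] := by
    rw [LinearIndependent.pair_iff]
    intro a b hab
    by_cases hb : b = 0
    · rw [hb, zero_smul, add_zero] at hab
      exact ⟨(smul_eq_zero.1 hab).resolve_right hw, hb⟩
    · exfalso
      apply hcon (-(b⁻¹ * a))
      have : b⁻¹ • (a • v + b • A *ᵥ v) = 0 := by rw [hab, smul_zero]
      rw [smul_add, smul_smul, smul_smul, inv_mul_cancel₀ hb, one_smul] at this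
      rw [neg_smul]
      exact eq_neg_of_add_eq_zero_right this
  let b := basisOfLinearIndependentOfCardEqFinrank hli (by simp)
  have hb0 : b 0 = v := by simp only [b, _root_.Nat.succ_eq_add_one, _root_.Nat.reduceAdd, _root_.Matrix.mulVec_fin_two, _root_.Fin.isValue, _root_.coe_basisOfLinearIndependentOfCardEqFinrank, _root_.Matrix.cons_val_zero]
  have hb1 : b 1 = A *ᵥ v := by simp only [b, _root_.Nat.succ_eq_add_one, _root_.Nat.reduceAdd, _root_.Matrix.mulVec_fin_two, _root_.Fin.isValue, _root_.coe_basisOfLinearIndependentOfCardEqFinrank, _root_.Matrix.cons_val_one, _root_.Matrix.cons_val_fin_one]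
  have h2 : K.mulVecLin = 0 := by
    apply b.ext
    intro i
    fin_cases i
    · show K *ᵥ (b 0) = 0
      rw [hb0, hKv]
    · show K *ᵥ (b 1) = 0
      rw [hb1, h1]
  apply eq_zero_of_mulVec
  intro v
  have := congrArg (fun f => f v) h2
  exact this

theorem tr_sq_zero {A : R2} (h : A * A = 0) : A.trace = 0 := by
  have h1 := ch2 A
  rw [h] at h1
  by_cases hs : IsSc A
  · obtain ⟨c, rfl⟩ := hs
    have h2 := congrFun (congrFun h 0) 0
    simp at h2
    rw [h2]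
    simp
  · have h3 : A.trace • A + (-A.det) • (1 : R2) = 0 := by rw [h1]; module
    exact (coeff_zero hs h3).1

/-- **Case `X Z = Z X`.** -/
theorem MD.cev_of_comm (h : MD ω s X Z N) (hc : Z * X = X * Z) : Cev X Z N := by
  have h5 := h.h5
  have s2 := h.s2
  have h2 := h.ne
  have hX : X * Z = (-1 : F) • 1 := by
    have h1 := h.xz
    rw [hc] at h1
    have h3 : (2 : F) • (X * Z) = (2 : F) • ((-1 : F) • (1 : R2)) := by
      rw [two_smul, h1, smul_smul]
      congr 1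
      ring
    exact smul_right_injective _ h2 h3
  have hZX : Z * X = (-1 : F) • 1 := by rw [hc, hX]
  obtain ⟨Y, hY⟩ : ∃ Y, Y = X * X := ⟨_, rfl⟩
  have hYY : Y * Y = 1 := by
    have : Y * Y = (X * Z) * (X * Z) := by
      calc Y * Y = X * (X * (X * X)) := by rw [hY]; simp only [mul_assoc]
        _ = X * (X * (Z * Z)) := by rw [h.xx]
        _ = X * ((X * Z) * Z) := by simp only [mul_assoc]
        _ = X * ((Z * X) * Z) := by rw [hc]
        _ = (X * Z) * (X * Z) := by simp only [mul_assoc]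
    rw [this, hX, smul_mul_smul_comm, mul_one]
    norm_num
  -- the trace of `Y`
  have hT := h.e0 _ rfl
  obtain ⟨T₀, hT₀⟩ : ∃ T₀, T₀ = (-2 : F) • (s • (X * X) + X * N * Z - Z * N * X) := ⟨_, rfl⟩
  rw [← hT₀] at hT
  have htr : (T₀ + (3 * s) • 1).trace = 0 := by
    apply tr_sq_zero
    have : (T₀ + (3 * s) • (1 : R2)) * (T₀ + (3 * s) • 1) = (T₀ * T₀ + s • T₀ + (3 : F) • 1) + (5 * s) • T₀ +
        (9 * (s * s) - 3) • (1 : R2) := by
      simp only [add_mul, mul_add, smul_mul_assoc, mul_smul_comm, one_mul, mul_one]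
      module
    rw [this, hT, s2, h5]
    rw [show (9 * 2 - 3 : F) = 5 * 3 by norm_num, h5]
    simp
  have htrY : Y.trace = 3 := by
    rw [hT₀, Matrix.trace_add, Matrix.trace_smul, Matrix.trace_smul, Matrix.trace_sub, Matrix.trace_add,
      Matrix.trace_smul, Matrix.trace_one, Fintype.card_fin] at htr
    have e1 : (X * N * Z).trace = -N.trace := by
      rw [Matrix.trace_mul_cycle, hZX, smul_mul_assoc, one_mul, Matrix.trace_smul]
      simp
    have e2 : (Z * N * X).trace = -N.trace := by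
      rw [Matrix.trace_mul_cycle, hX, smul_mul_assoc, one_mul, Matrix.trace_smul]
      simp
    rw [e1, e2, ← hY] at htr
    simp only [smul_eq_mul] at htr
    have h3 : s * (Y.trace - 3) = 0 := by
      push_cast at htr
      linear_combination 2 * htr + (s * Y.trace - 3 * s) * h5
    exact sub_eq_zero.1 ((mul_eq_zero.1 h3).resolve_left h.sne)
  have hYs : Y = (-1 : F) • 1 := by
    have h3 := ch2 Y
    rw [hYY, htrY] at h3
    obtain ⟨d, hd⟩ : ∃ d, d = Y.det := ⟨_, rfl⟩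
    rw [← hd] at h3
    have h4 : Y = (2 * (1 + d)) • 1 := by
      have h5' : (2 : F) • ((3 : F) • Y) = (2 * (1 + d)) • (1 : R2) := by
        have : (3 : F) • Y = (1 + d) • (1 : R2) := by
          rw [add_smul, one_smul, ← sub_eq_iff_eq_add]
          exact h3.symm
        rw [this, smul_smul]
      have h6 : (2 : F) • ((3 : F) • Y) = Y + (5 : F) • Y := by module
      rw [h6, h5, zero_smul, add_zero] at h5'
      exact h5'
    have h5'' : 2 * (2 * (1 + d)) = 3 := by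
      rw [h4, Matrix.trace_smul, Matrix.trace_one, Fintype.card_fin, smul_eq_mul] at htrY
      push_cast at htrY
      linear_combination htrY
    rw [h4]
    congr 1
    linear_combination 3 * h5'' - 2 * (1 + d) * h5 + 2 * h5
  rw [hY] at hYs
  have hZ : Z = X := by
    have h3 : X * (X * Z) = X * (X * X) := by rw [hX, hYs]
    rw [← mul_assoc, ← mul_assoc, hYs, smul_mul_assoc, smul_mul_assoc, one_mul, one_mul] at h3
    exact smul_right_injective _ (by norm_num : (-1 : F) ≠ 0) h3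
  subst hZ
  obtain ⟨J, hJ⟩ : ∃ J, J = Z * N * Z := ⟨_, rfl⟩
  have hJJ : J * J = 1 := by
    calc J * J = Z * N * (Z * Z) * N * Z := by rw [hJ]; simp only [mul_assoc]
      _ = (-1 : F) • (Z * (N * N) * Z) := by
        rw [hYs, mul_smul_comm, mul_one, smul_mul_assoc, smul_mul_assoc]
        simp only [mul_assoc]
      _ = 1 := by
        rw [h.nn, mul_one, hYs, smul_smul]
        norm_num
  have hT2 : T₀ = (2 * s) • 1 := by
    rw [hT₀, add_sub_cancel_right, hYs, smul_smul, smul_smul]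
    congr 1
    ring
  have hω := h.hω
  have e1 := h.e1 T₀ ((4 : F) • J) ((-2 : F) • J) hT₀ (by rw [sub_self, smul_zero, zero_add, ← hJ]; module)
    (by
      rw [sub_self, smul_zero, zero_add, ← hJ, ← add_smul]
      congr 1
      linear_combination -2 * hω)
  have e5 := h.e5 ((-2 : F) • J) (by
      rw [sub_self, smul_zero, zero_add, ← hJ, ← add_smul]
      congr 1
      linear_combination -2 * hω)
  -- `N J N = J`
  have hNJ : N * J = J * N := by
    have h3 : N * J * N = J := by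
      rw [hT2] at e1
      have h4 : (-2 : F) • (N * J * N) = (-2 : F) • J := by
        calc (-2 : F) • (N * J * N) = N * ((-2 : F) • J) * N := by
              rw [mul_smul_comm, smul_mul_assoc]
          _ = s • ((4 : F) • J * (2 * s) • 1) + (3 : F) • (4 : F) • J := e1
          _ = (8 * (s * s) + 12) • J := by
              rw [smul_mul_smul_comm, mul_one]
              module
          _ = (-2 : F) • J := by
              rw [s2]
              congr 1
              linear_combination 6 * h5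
      exact smul_right_injective _ (neg_ne_zero.2 h2) h4
    calc N * J = N * J * (N * N) := by rw [h.nn, mul_one]
      _ = N * J * N * N := by simp only [mul_assoc]
      _ = J * N := by rw [h3]
  have hNJ1 : N * J = (-1 : F) • 1 := by
    rw [smul_mul_smul_comm, hJJ, mul_smul_comm, smul_mul_assoc, ← hNJ] at e5
    have h3 : (2 : F) • ((-2 * -2 : F) • (1 : R2)) + 1 = (9 : F) • 1 := by module
    rw [h3] at e5
    have h4 : (9 : F) • (1 : R2) = (-4 : F) • (N * J) := by rw [e5]; module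
    have h6 : N * J = (9 : F) • (1 : R2) + (5 : F) • (N * J) := by
      rw [h4]
      module
    rw [h6, h5, zero_smul, add_zero]
    congr 1
    linear_combination 2 * h5
  have hJN : J = -N := by
    calc J = N * N * J := by rw [h.nn, one_mul]
      _ = N * (N * J) := mul_assoc _ _ _
      _ = -N := by rw [hNJ1, mul_smul_comm, mul_one]; simp
  have hcomm : N * Z = Z * N := by
    rw [hJ] at hJN
    have h3 : Z * (Z * N * Z) = Z * (-N) := by rw [hJN]
    have h4 : Z * (Z * N * Z) = -(N * Z) := by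
      rw [← mul_assoc, ← mul_assoc, hYs, smul_mul_assoc, smul_mul_assoc, one_mul]
      simp
    rw [h4, mul_neg, neg_inj] at h3
    exact h3
  obtain ⟨v, hv, ⟨c, hc⟩, d, hd⟩ := common_ev hcomm
    (exists_ev (A := Z) (α := 2) (β := -2) (by
      have : (Z - (2 : F) • (1 : R2)) * (Z - (-2 : F) • 1) = Z * Z - (4 : F) • 1 := by
        simp only [sub_mul, mul_sub, smul_mul_assoc, mul_smul_comm, one_mul, mul_one]
        module
      rw [this, hYs, ← sub_smul, show (-1 - 4 : F) = 0 by linear_combination -h5, zero_smul]))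
    (exists_ev (A := N) (α := 1) (β := -1) (by
      have : (N - (1 : F) • (1 : R2)) * (N - (-1 : F) • 1) = N * N - 1 := by
        simp only [sub_mul, mul_sub, smul_mul_assoc, mul_smul_comm, one_mul, mul_one]
        module
      rw [this, h.nn, sub_self]))
  exact ⟨v, hv, ⟨c, hc⟩, ⟨c, hc⟩, d, hd⟩

/-- `ABC - CBA = tr(ABC)` for traceless matrices -/
theorem anti3 {A B C : R2} (hA : A.trace = 0) (hB : B.trace = 0) (hC : C.trace = 0) :
    A * B * C - C * B * A = (A * B * C).trace • 1 := by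
  rw [Matrix.trace_fin_two] at hA hB hC
  rw [Matrix.trace_fin_two]
  have eA : A 1 1 = -A 0 0 := eq_neg_of_add_eq_zero_right hA
  have eB : B 1 1 = -B 0 0 := eq_neg_of_add_eq_zero_right hB
  have eC : C 1 1 = -C 0 0 := eq_neg_of_add_eq_zero_right hC
  ext i j
  (revert i j; simp only [Matrix.mul_apply, Fin.sum_univ_two, eA, eB, eC, _root_.Fin.forall_fin_succ, _root_.Matrix.sub_apply, Fin.isValue, _root_.mul_neg, _root_.neg_mul, _root_.neg_neg, _root_.Matrix.smul_apply, _root_.smul_eq_mul, _root_.Fin.succ_zero_eq_one, _root_.IsEmpty.forall_iff, _root_.and_true, _root_.Matrix.one_apply_eq, _root_.mul_one, Nat.reduceAdd, _root_.ne_eq, _root_.zero_ne_one, _root_.not_false_eq_true, _root_.Matrix.one_apply_ne, _root_.MulZeroClass.mul_zero, _root_.Fin.succ_ne_zero]) <;> (repeat' with_reducible apply And.intro) <;> ring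

theorem traceless {A : R2} (hs : ¬ IsSc A) {c : F} (h : A * A = c • 1) : A.trace = 0 ∧ A.det = -c := by
  have h1 := ch2 A
  rw [h] at h1
  have h3 : A.trace • A + (-A.det - c) • (1 : R2) = 0 := by
    have : A.trace • A + (-A.det - c) • (1 : R2) = (A.trace • A - A.det • 1) - c • 1 := by module
    rw [this, h1, sub_self]
  obtain ⟨h4, h5⟩ := coeff_zero hs h3
  exact ⟨h4, by linear_combination -h5⟩

/-- The situation `X Z ≠ Z X`. -/
structure NC (ω s : F) (X Z N : R2) (c : F) : Prop where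
  md : MD ω s X Z N
  hX : ¬ IsSc X
  hZ : ¬ IsSc Z
  xc : X * X = c • 1
  zc : Z * Z = c • 1
  tx : X.trace = 0
  tz : Z.trace = 0
  dx : X.det = -c
  dz : Z.det = -c
  hK : Z * X - X * Z ≠ 0

theorem MD.nc (h : MD ω s X Z N) (hK : Z * X ≠ X * Z) : ∃ c, NC ω s X Z N c := by
  have hX : ¬ IsSc X := fun h0 => hK (h0.comm Z).symm
  have hZ : ¬ IsSc Z := fun h0 => hK (h0.comm X)
  have hY : IsSc (X * X) := by
    by_contra hY
    obtain ⟨u, v, h1⟩ := exists_uv hY (x := X) (by rw [mul_assoc])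
    obtain ⟨u', v', h2⟩ := exists_uv hY (x := Z) (by rw [h.xx, mul_assoc])
    apply hK
    generalize X * X = Y at h1 h2
    rw [h1, h2]
    simp only [add_mul, mul_add, smul_mul_assoc, mul_smul_comm, one_mul, mul_one]
    module
  obtain ⟨c, hc⟩ := hY
  have hc' : Z * Z = c • 1 := by rw [← h.xx, hc]
  obtain ⟨h1, h2⟩ := traceless hX hc
  obtain ⟨h3, h4⟩ := traceless hZ hc'
  exact ⟨c, h, hX, hZ, hc, hc', h1, h3, h2, h4, sub_ne_zero.2 hK⟩

namespace NC

variable {c : F} (h : NC ω s X Z N c)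
include h

theorem zx : Z * X = (-2 : F) • 1 - X * Z := by
  rw [← h.md.xz]
  abel

theorem K_eq : Z * X - X * Z = (-2 : F) • (1 + X * Z) := by
  rw [h.zx]
  module

theorem KK : (Z * X - X * Z) * (Z * X - X * Z) = (4 * (1 - c * c)) • 1 := by
  have h1 : (X * Z) * (X * Z) = (-2 : F) • (X * Z) - (c * c) • 1 := by
    calc (X * Z) * (X * Z) = X * (Z * X) * Z := by simp only [mul_assoc]
      _ = (-2 : F) • (X * Z) - (X * X) * (Z * Z) := by
        rw [h.zx, mul_sub, sub_mul, mul_smul_comm, mul_one, smul_mul_assoc]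
        simp only [mul_assoc]
      _ = (-2 : F) • (X * Z) - (c * c) • 1 := by rw [h.xc, h.zc, smul_mul_smul_comm, one_mul]
  rw [h.K_eq, smul_mul_smul_comm, add_mul, one_mul, mul_add, mul_one, h1]
  module

theorem XK : X * (Z * X - X * Z) = -((Z * X - X * Z) * X) := by
  have e1 : X * (X * Z) = c • Z := by rw [← mul_assoc, h.xc, smul_mul_assoc, one_mul]
  have e2 : Z * X * X = c • Z := by rw [mul_assoc, h.xc, mul_smul_comm, mul_one]
  rw [mul_sub, sub_mul, e1, e2, mul_assoc]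
  abel

theorem ZK : Z * (Z * X - X * Z) = -((Z * X - X * Z) * Z) := by
  have e1 : Z * (Z * X) = c • X := by rw [← mul_assoc, h.zc, smul_mul_assoc, one_mul]
  have e2 : X * Z * Z = c • X := by rw [mul_assoc, h.zc, mul_smul_comm, mul_one]
  rw [mul_sub, sub_mul, e1, e2, mul_assoc]
  abel

theorem trK : (Z * X - X * Z).trace = 0 := by
  rw [Matrix.trace_sub, Matrix.trace_mul_comm, sub_self]

theorem K_not_sc : ¬ IsSc (Z * X - X * Z) := by
  rintro ⟨k, hk⟩
  have h1 := h.trK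
  rw [hk, Matrix.trace_smul, Matrix.trace_one, Fintype.card_fin, smul_eq_mul] at h1
  have h2 : k * 2 = 0 := by exact_mod_cast h1
  have h3 := (mul_eq_zero.1 h2).resolve_right h.md.ne
  apply h.hK
  rw [hk, h3, zero_smul]

/-- `N` scalar -/
theorem cev_of_sc (hN : IsSc N) : Cev X Z N := by
  obtain ⟨ν, hν⟩ := hN
  have hνν : ν * ν = 1 := by
    have h1 := h.md.nn
    rw [hν, smul_mul_smul_comm, one_mul] at h1
    simpa only [_root_.Fin.isValue, _root_.Matrix.smul_apply, _root_.Matrix.one_apply_eq, _root_.smul_eq_mul, _root_.mul_one] using congrFun (congrFun h1 0) 0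
  have e0 := h.md.e0 _ rfl
  obtain ⟨K, hK⟩ : ∃ K, K = Z * X - X * Z := ⟨_, rfl⟩
  have hT : (-2 : F) • (s • (X * X) + X * N * Z - Z * N * X) = (-2 * s * c) • 1 + (2 * ν) • K := by
    rw [hν, h.xc, hK]
    simp only [mul_smul_comm, smul_mul_assoc, mul_one]
    module
  have hKK := h.KK
  rw [← hK] at hKK
  rw [hT] at e0
  have h1 : (2 * s * ν * (1 - 4 * c)) • K + (4 * (s * s) * (c * c) + 16 * (ν * ν) * (1 - c * c) -
      2 * (s * s) * c + 3) • (1 : R2) = 0 := by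
    rw [← e0]
    simp only [add_mul, mul_add, smul_mul_assoc, mul_smul_comm, one_mul, mul_one, hKK]
    module
  obtain ⟨h2, -⟩ := coeff_zero (hK ▸ h.K_not_sc) h1
  have hν0 : ν ≠ 0 := by
    rintro rfl
    simp at hνν
  have h3 : 1 - 4 * c = 0 := by
    rcases mul_eq_zero.1 h2 with h4 | h4
    · exact absurd h4 (mul_ne_zero (mul_ne_zero h.md.ne h.md.sne) hν0)
    · exact h4
  have hc1 : c = -1 := by linear_combination h3 + c * h.md.h5
  have hK0 : K * K = 0 := by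
    rw [hKK, hc1, show (4 * (1 - -1 * -1) : F) = 0 by ring, zero_smul]
  obtain ⟨v, hv, hv'⟩ := ker_line hK0 (hK ▸ h.hK)
  refine ⟨v, hv, hv' X (hK ▸ h.XK), hv' Z (hK ▸ h.ZK), ν, ?_⟩
  rw [hν, Matrix.smul_mulVec, Matrix.one_mulVec]

theorem trN (hN : ¬ IsSc N) : N.trace = 0 ∧ N.det = -1 :=
  traceless hN (c := 1) (by rw [h.md.nn, one_smul])

/-- `τ = tr(X N Z) = -s (1 + c)`, `T₀ = 2 s` -/
theorem tau (hN : ¬ IsSc N) : X * N * Z - Z * N * X = (-s * (1 + c)) • 1 ∧ (X * N * Z).trace = -s * (1 + c) := by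
  have h1 := anti3 h.tx (h.trN hN).1 h.tz
  obtain ⟨τ, hτ⟩ : ∃ τ, τ = (X * N * Z).trace := ⟨_, rfl⟩
  rw [← hτ] at h1
  have e0 := h.md.e0 _ rfl
  have hT : (-2 : F) • (s • (X * X) + X * N * Z - Z * N * X) = (-2 * (s * c + τ)) • 1 := by
    rw [add_sub_assoc, h1, h.xc]
    module
  rw [hT] at e0
  have h2 : ((-2 * (s * c + τ)) * (-2 * (s * c + τ)) + s * (-2 * (s * c + τ)) + 3) • (1 : R2) = 0 := by
    rw [← e0, smul_mul_smul_comm, one_mul]
    module
  have h3 : (-2 * (s * c + τ)) * (-2 * (s * c + τ)) + s * (-2 * (s * c + τ)) + 3 = 0 := by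
    simpa only [_root_.neg_mul, _root_.mul_neg, _root_.neg_neg, _root_.Fin.isValue, _root_.Matrix.smul_apply, _root_.Matrix.one_apply_eq, _root_.smul_eq_mul, _root_.mul_one, _root_.Matrix.zero_apply] using congrFun (congrFun h2 0) 0
  have s2 := h.md.s2
  have h5 := h.md.h5
  have h4 : (τ + s * (1 + c)) ^ 2 = 0 := by
    linear_combination (-1 : F) * h3 + (τ ^ 2 + 2 * c * s * τ + c ^ 2 * s ^ 2) * h5 + s2 + h5
  have h6 : τ = -s * (1 + c) := by
    have := pow_eq_zero_iff two_ne_zero |>.1 h4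
    linear_combination this
  exact ⟨by rw [h1, h6], by rw [← hτ, h6]⟩

theorem T0 (hN : ¬ IsSc N) : (2 * s) • (1 : R2) = (-2 : F) • (s • (X * X) + X * N * Z - Z * N * X) := by
  rw [add_sub_assoc, (h.tau hN).1, h.xc]
  have h5 := h.md.h5
  have : (-2 : F) • (s • c • (1 : R2) + (-s * (1 + c)) • 1) = (-2 * (s * c - s * (1 + c))) • 1 := by module
  rw [this]
  congr 1
  ring

theorem T2T1 (hN : ¬ IsSc N) : ∀ T₁ T₂ : R2,
    T₁ = (-2 : F) • (s • (X * X) + ω • (X * N * Z) - ω ^ 2 • (Z * N * X)) →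
    T₂ = (-2 : F) • (s • (X * X) + ω ^ 2 • (X * N * Z) - ω • (Z * N * X)) → T₂ * T₁ = 0 := by
  intro T₁ T₂ h1 h2
  have s2 := h.md.s2
  have h5 := h.md.h5
  have hT := h.T0 hN
  have e0 := h.md.e0' _ _ hT rfl
  have e1 := h.md.e1 _ _ _ hT rfl rfl
  have e3 := h.md.e3 _ _ _ rfl h1 h2
  obtain ⟨P₀, hP₀⟩ : ∃ P₀, P₀ = s • (Z * X - X * Z) + (2 : F) • (X * N * X) + (2 : F) • (Z * N * Z) := ⟨_, rfl⟩
  obtain ⟨P₁, hP₁⟩ : ∃ P₁, P₁ = s • (Z * X - X * Z) + (2 * ω ^ 2) • (X * N * X) + (2 * ω) • (Z * N * Z) := ⟨_, rfl⟩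
  rw [← hP₀] at e0 e1
  rw [← hP₁] at e1 e3
  have h6 : N * P₁ * N = (2 : F) • P₀ := by
    rw [e1, mul_smul_comm, mul_one, smul_smul, show s * (2 * s) = 4 by linear_combination 2 * s2, ← add_smul]
    congr 1
    linear_combination h5
  have h7 : P₁ = (2 : F) • (N * P₀ * N) := by
    calc P₁ = (N * N) * P₁ * (N * N) := by rw [h.md.nn, one_mul, mul_one]
      _ = N * (N * P₁ * N) * N := by simp only [mul_assoc]
      _ = (2 : F) • (N * P₀ * N) := by rw [h6, mul_smul_comm, smul_mul_assoc]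
  have h8 : P₀ * P₀ = 1 := by
    rw [smul_mul_smul_comm, one_mul, show (2 * s) * (2 * s) = 8 by linear_combination 4 * s2] at e0
    have : P₀ * P₀ = (P₀ * P₀ + (8 : F) • (1 : R2)) - (8 : F) • 1 := by abel
    rw [this, e0]
    have h9 : (-1 : R2) - (8 : F) • 1 = 1 - (5 : F) • 1 - (5 : F) • 1 := by module
    rw [h9, h5, zero_smul, sub_zero, sub_zero]
  have h9 : P₁ * P₁ = (4 : F) • 1 := by
    rw [h7, smul_mul_smul_comm]
    have : N * P₀ * N * (N * P₀ * N) = 1 := by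
      calc N * P₀ * N * (N * P₀ * N) = N * P₀ * (N * N) * P₀ * N := by simp only [mul_assoc]
        _ = N * (P₀ * P₀) * N := by rw [h.md.nn, mul_one]; simp only [mul_assoc]
        _ = 1 := by rw [h8, mul_one, h.md.nn]
    rw [this]
    congr 1
    norm_num
  rw [h9] at e3
  have h10 : T₂ * T₁ = ((4 : F) • (1 : R2) + T₂ * T₁) - (4 : F) • 1 := by abel
  rw [h10, e3]
  have h11 : (-1 : R2) - (4 : F) • 1 = -((5 : F) • 1) := by module
  rw [h11, h5, zero_smul, neg_zero]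

/-- `c = -1` or `c = 2` -/
theorem c_cases (hN : ¬ IsSc N) : c = -1 ∨ c = 2 := by
  have h0 := h.T2T1 hN _ _ rfl rfl
  obtain ⟨h1, h2⟩ := h.tau hN
  obtain ⟨L, hL⟩ : ∃ L, L = X * N * Z := ⟨_, rfl⟩
  obtain ⟨τ, hτ⟩ : ∃ τ, τ = -s * (1 + c) := ⟨_, rfl⟩
  have hdet : L.det = -(c * c) := by
    rw [hL, Matrix.det_mul, Matrix.det_mul, h.dx, h.dz, (h.trN hN).2]
    ring
  rw [← hL, ← hτ] at h2
  rw [← hL, ← hτ] at h1
  have h3 : Z * N * X = L - τ • 1 := by rw [← h1]; abel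
  have hLL : L * L = τ • L + (c * c) • 1 := by
    rw [ch2 L, h2, hdet]
    module
  rw [← hL, h3, h.xc] at h0
  have hs := h.md.hs
  have hω := h.md.hω
  have h4 : ((-2 : F) • (s • c • (1 : R2) + ω ^ 2 • L - ω • (L - τ • 1))) *
      ((-2 : F) • (s • c • (1 : R2) + ω • L - ω ^ 2 • (L - τ • 1))) =
      (4 * ((s * c + ω * τ) * (s * c + ω ^ 2 * τ) - (ω - ω ^ 2) * (ω - ω ^ 2) * (c * c))) • 1 +
        (4 * ((ω ^ 2 - ω) * (s * c + ω ^ 2 * τ) + (ω - ω ^ 2) * (s * c + ω * τ) -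
          (ω - ω ^ 2) * (ω - ω ^ 2) * τ)) • L := by
    have : ((-2 : F) • (s • c • (1 : R2) + ω ^ 2 • L - ω • (L - τ • 1))) *
      ((-2 : F) • (s • c • (1 : R2) + ω • L - ω ^ 2 • (L - τ • 1))) =
      (4 * (s * c + ω * τ) * (s * c + ω ^ 2 * τ)) • 1 + (4 * ((ω ^ 2 - ω) * (s * c + ω ^ 2 * τ) +
        (ω - ω ^ 2) * (s * c + ω * τ))) • L + (4 * ((ω ^ 2 - ω) * (ω - ω ^ 2))) • (L * L) := by
      simp only [add_mul, mul_add, sub_mul, mul_sub, smul_mul_assoc, mul_smul_comm, one_mul, mul_one, smul_add, smul_sub]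
      module
    rw [this, hLL]
    module
  rw [h4] at h0
  have h5 : (4 * ((ω ^ 2 - ω) * (s * c + ω ^ 2 * τ) + (ω - ω ^ 2) * (s * c + ω * τ) -
          (ω - ω ^ 2) * (ω - ω ^ 2) * τ)) = 0 := by ring
  rw [h5, zero_smul, add_zero] at h0
  have h6 : 4 * ((s * c + ω * τ) * (s * c + ω ^ 2 * τ) - (ω - ω ^ 2) * (ω - ω ^ 2) * (c * c)) = 0 := by
    simpa only [_root_.mul_eq_zero, _root_.Fin.isValue, _root_.Matrix.smul_apply, _root_.Matrix.one_apply_eq, _root_.smul_eq_mul, _root_.mul_one, _root_.Matrix.zero_apply] using congrFun (congrFun h0 0) 0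
  have h7 : s * s * ((1 + c) * (1 + 2 * c)) = 0 := by
    rw [hτ, hs] at h6
    rw [hs]
    linear_combination 4 * h6 + ((-64) * ω ^ 3 * c ^ 2 + (-128) * ω ^ 3 * c + (-64) * ω ^ 3 + 80 * ω ^ 2 * c ^ 2 +
      64 * ω ^ 2 * c + 64 * ω * c ^ 2 + 160 * ω * c + 48 * ω + (-104) * c ^ 2 + (-132) * c + (-44)) * hω +
      (18 * c ^ 2 + 27 * c + 9) * h.md.h5
  have hss : s * s ≠ 0 := mul_ne_zero h.md.sne h.md.sne
  rcases mul_eq_zero.1 ((mul_eq_zero.1 h7).resolve_left hss) with h8 | h8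
  · left
    linear_combination h8
  · right
    linear_combination 3 * h8 - (c + 1) * h.md.h5

/-- **`c = 2`** unless there is a common eigenvector -/
theorem cev_of_neg (hN : ¬ IsSc N) (hc : c = -1) : Cev X Z N := by
  obtain ⟨h1, h2⟩ := h.tau hN
  rw [hc, add_neg_cancel, mul_zero] at h1 h2
  rw [zero_smul] at h1
  obtain ⟨K, hK⟩ : ∃ K, K = Z * X - X * Z := ⟨_, rfl⟩
  have hK0 : K * K = 0 := by
    rw [hK, h.KK, hc, show (4 * (1 - -1 * -1) : F) = 0 by ring, zero_smul]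
  obtain ⟨v, hv, hv'⟩ := ker_line hK0 (hK ▸ h.hK)
  refine ⟨v, hv, hv' X (hK ▸ h.XK), hv' Z (hK ▸ h.ZK), hv' N ?_⟩
  have h3 := ch2' N K
  have h4 : (N * K).trace = 0 := by
    have e1 : (N * (Z * X)).trace = (X * N * Z).trace := by rw [← mul_assoc, Matrix.trace_mul_comm, ← mul_assoc]
    have e2 : (N * (X * Z)).trace = (Z * N * X).trace := by rw [← mul_assoc, Matrix.trace_mul_comm, ← mul_assoc]
    rw [hK, mul_sub, Matrix.trace_sub, e1, e2, ← Matrix.trace_sub, h1, Matrix.trace_zero]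
  rw [(h.trN hN).1, hK, h.trK, ← hK, h4] at h3
  simp only [zero_smul, zero_add, mul_zero, sub_zero] at h3
  exact eq_neg_of_add_eq_zero_left h3

end NC

/-- the standard operators -/
def Xo : R2 := !![0, 1; 2, 0]
def Zo (ω : F) : R2 := !![0, ω; 2 * ω ^ 2, 0]
def No (ω : F) : R2 := !![1, 2 * ω ^ 2; 0, -1]

/-- a basis of eigenvectors of `K` -/
theorem NC.exists_S {c : F} (h : NC ω s X Z N c) (hc : c = 2) : ∃ S : GL (Fin 2) F,
    X * (S : R2) = (S : R2) * Xo ∧ Z * (S : R2) = (S : R2) * Zo ω := by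
  have s2 := h.md.s2
  have h5 := h.md.h5
  have h2 := h.md.ne
  subst hc
  obtain ⟨K, hK⟩ : ∃ K, K = Z * X - X * Z := ⟨_, rfl⟩
  have hKK : K * K = (8 : F) • 1 := by
    rw [hK, h.KK]
    congr 1
    linear_combination -4 * h5
  have hXK := h.XK
  rw [← hK] at hXK
  obtain ⟨w, hw⟩ : ∃ w, (K + (2 * s) • 1) *ᵥ w ≠ 0 := by
    by_contra hcon
    push Not at hcon
    have h0 := eq_zero_of_mulVec hcon
    apply h.K_not_sc
    refine ⟨-(2 * s), ?_⟩
    rw [← hK, neg_smul]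
    exact eq_neg_of_add_eq_zero_left h0
  obtain ⟨v, hv⟩ : ∃ v, v = (K + (2 * s) • 1) *ᵥ w := ⟨_, rfl⟩
  rw [← hv] at hw
  have hKv : K *ᵥ v = (2 * s) • v := by
    rw [hv, Matrix.mulVec_mulVec, mul_add, hKK, mul_smul_comm, mul_one]
    have : (8 : F) • (1 : R2) + (2 * s) • K = (2 * s) • (K + (2 * s) • 1) := by
      rw [smul_add, smul_smul, show (2 * s) * (2 * s) = 8 by linear_combination 4 * s2]
      abel
    rw [this, Matrix.smul_mulVec]
  have hKX : K *ᵥ (X *ᵥ v) = (-(2 * s)) • (X *ᵥ v) := by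
    rw [Matrix.mulVec_mulVec]
    have : K * X = -(X * K) := by rw [hXK, neg_neg]
    rw [this, Matrix.neg_mulVec, ← Matrix.mulVec_mulVec, hKv, Matrix.mulVec_smul, neg_smul]
  have hXX : X *ᵥ (X *ᵥ v) = (2 : F) • v := by
    rw [Matrix.mulVec_mulVec, h.xc, Matrix.smul_mulVec, Matrix.one_mulVec]
  -- `Z X = 3 (K - 2)`
  have hZX : Z * X = (3 : F) • (K - (2 : F) • 1) := by
    have h1 := h.zx
    have h3 : (2 : F) • (Z * X) = K - (2 : F) • 1 := by
      rw [hK, two_smul]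
      nth_rewrite 2 [h1]
      module
    rw [← h3, smul_smul, show (3 * 2 : F) = 1 by linear_combination h5, one_smul]
  have hZXv : Z *ᵥ (X *ᵥ v) = (6 * (s - 1)) • v := by
    rw [Matrix.mulVec_mulVec, hZX, Matrix.smul_mulVec, Matrix.sub_mulVec, hKv, Matrix.smul_mulVec, Matrix.one_mulVec]
    module
  have hZv : Z *ᵥ v = (2 * (s + 1)) • (X *ᵥ v) := by
    have h1 : (2 : F) • (Z *ᵥ v) = Z *ᵥ (X *ᵥ (X *ᵥ v)) := by rw [hXX, Matrix.mulVec_smul]
    have h3 : Z *ᵥ (X *ᵥ (X *ᵥ v)) = (-(6 * (s + 1))) • (X *ᵥ v) := by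
      rw [Matrix.mulVec_mulVec (X *ᵥ v) Z X, hZX, Matrix.smul_mulVec, Matrix.sub_mulVec, hKX, Matrix.smul_mulVec,
        Matrix.one_mulVec]
      module
    rw [h3] at h1
    have h4 : (2 : F) • (Z *ᵥ v) = (2 : F) • ((2 * (s + 1)) • (X *ᵥ v)) := by
      rw [h1, smul_smul]
      congr 1
      linear_combination (-2 * (s + 1)) * h5
    exact smul_right_injective _ h2 h4
  let S₀ : R2 := Matrix.of fun i j => if j = 0 then v i else ((3 : F) • (X *ᵥ v)) i
  have c0 : ∀ i, S₀ i 0 = v i := fun i => rfl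
  have c1 : ∀ i, S₀ i 1 = ((3 : F) • (X *ᵥ v)) i := fun i => rfl
  have hXv0 : X *ᵥ v ≠ 0 := by
    intro h0
    rw [h0, Matrix.mulVec_zero] at hXX
    exact hw ((smul_eq_zero.1 hXX.symm).resolve_left h2)
  have hdet : S₀.det ≠ 0 := by
    intro hdet
    rw [← Matrix.exists_mulVec_eq_zero_iff] at hdet
    obtain ⟨y, hy, hy0⟩ := hdet
    have e1 : y 0 • v + (y 1 * 3) • (X *ᵥ v) = 0 := by
      funext i
      have := congrFun hy0 i
      rw [Matrix.mulVec, dotProduct, Fin.sum_univ_two, c0, c1, Pi.smul_apply, smul_eq_mul] at this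
      rw [Pi.add_apply, Pi.smul_apply, Pi.smul_apply, smul_eq_mul, smul_eq_mul]
      rw [Pi.zero_apply] at this ⊢
      linear_combination this
    have e2 := congrArg (fun z => K *ᵥ z) e1
    simp only [Matrix.mulVec_add, Matrix.mulVec_smul, hKv, hKX, Matrix.mulVec_zero] at e2
    have e3 : (2 * (2 * s) * y 0) • v = 0 := by
      have : (2 * (2 * s) * y 0) • v = (y 0 • (2 * s) • v + (y 1 * 3) • (-(2 * s)) • X *ᵥ v) +
        (2 * s) • (y 0 • v + (y 1 * 3) • (X *ᵥ v)) := by module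
      rw [this, e2, e1, smul_zero, add_zero]
    have e4 : y 0 = 0 := by
      have h6 := (smul_eq_zero.1 e3).resolve_right hw
      exact (mul_eq_zero.1 h6).resolve_left (mul_ne_zero h2 (mul_ne_zero h2 h.md.sne))
    rw [e4, zero_smul, zero_add] at e1
    have e5 := (smul_eq_zero.1 e1).resolve_right hXv0
    have e6 : y 1 = 0 := (mul_eq_zero.1 e5).resolve_right h.md.ne3
    apply hy
    funext i
    fin_cases i
    · exact e4
    · exact e6
  refine ⟨Matrix.GeneralLinearGroup.mkOfDetNeZero S₀ hdet, ?_, ?_⟩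
  · show X * S₀ = S₀ * Xo
    ext i j
    have key : ∀ j, (X * S₀) i j = (X *ᵥ fun i => S₀ i j) i := fun j => rfl
    rw [key, Matrix.mul_apply, Fin.sum_univ_two, c0, c1]
    fin_cases j
    · show (X *ᵥ v) i = _
      rw [Pi.smul_apply]
      generalize X *ᵥ v = z
      simp [Xo]
      linear_combination (-(z i)) * h5
    · show (X *ᵥ ((3 : F) • (X *ᵥ v))) i = _
      rw [Matrix.mulVec_smul, hXX, Pi.smul_apply, Pi.smul_apply]
      simp only [Xo, _root_.smul_eq_mul, _root_.Fin.isValue, _root_.Fin.mk_one, _root_.Matrix.of_apply, _root_.Matrix.cons_val', _root_.Matrix.cons_val_one, _root_.Matrix.cons_val_fin_one, _root_.Matrix.cons_val_zero, _root_.mul_one, _root_.Matrix.mulVec_fin_two, _root_.Nat.succ_eq_add_one, _root_.Nat.reduceAdd, _root_.Pi.smul_apply, _root_.MulZeroClass.mul_zero, _root_.add_zero]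
      linear_combination (v i) * h5
  · show Z * S₀ = S₀ * Zo ω
    ext i j
    have key : ∀ j, (Z * S₀) i j = (Z *ᵥ fun i => S₀ i j) i := fun j => rfl
    rw [key, Matrix.mul_apply, Fin.sum_univ_two, c0, c1]
    have hs := h.md.hs
    have hω := h.md.hω
    fin_cases j
    · show (Z *ᵥ v) i = _
      rw [hZv, Pi.smul_apply, Pi.smul_apply]
      generalize X *ᵥ v = z
      simp [Zo, hs]
      linear_combination (-6 * z i) * hω + (2 * (ω + 1) * z i) * h5
    · show (Z *ᵥ ((3 : F) • (X *ᵥ v))) i = _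
      rw [Matrix.mulVec_smul, hZXv, Pi.smul_apply, Pi.smul_apply]
      simp only [Zo, hs, _root_.add_sub_cancel_right, _root_.smul_eq_mul, _root_.Fin.isValue, _root_.Fin.mk_one, _root_.Matrix.of_apply, _root_.Matrix.cons_val', _root_.Matrix.cons_val_one, _root_.Matrix.cons_val_fin_one, _root_.Matrix.cons_val_zero, _root_.Matrix.mulVec_fin_two, _root_.Nat.succ_eq_add_one, _root_.Nat.reduceAdd, _root_.Pi.smul_apply, _root_.MulZeroClass.mul_zero, _root_.add_zero]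
      linear_combination (7 * ω * v i) * h5

end Cfsg.Agent.H930.A7s
end

-- part: H930/A7s/TwoB
section
/-!
# `6.A₇`, `n = 12`, `p = 5`: the normal form of `X, Z, N` (helper930)
-/

set_option autoImplicit false
set_option linter.unusedSectionVars false

namespace Cfsg.Agent.H930.A7s

open Matrix
open Cfsg.Agent.H890.A7 (ch2 ch2' IsSc coeff_zero exists_uv)

variable {F : Type*} [Field F]

local notation "R2" => Matrix (Fin 2) (Fin 2) F

/-- conjugation by `S` -/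
def cj (S : GL (Fin 2) F) : Matrix (Fin 2) (Fin 2) F →ₐ[F] Matrix (Fin 2) (Fin 2) F where
  toFun A := ((S⁻¹ : GL (Fin 2) F) : R2) * A * (S : R2)
  map_one' := by rw [mul_one, ← Units.val_mul, inv_mul_cancel, Units.val_one]
  map_mul' A B := by
    have h : (S : R2) * ((S⁻¹ : GL (Fin 2) F) : R2) = 1 := by rw [← Units.val_mul, mul_inv_cancel, Units.val_one]
    calc ((S⁻¹ : GL (Fin 2) F) : R2) * (A * B) * (S : R2) =
        ((S⁻¹ : GL (Fin 2) F) : R2) * A * 1 * B * (S : R2) := by simp only [mul_assoc, one_mul]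
      _ = _ := by rw [← h]; simp only [mul_assoc]
  map_zero' := by rw [mul_zero, zero_mul]
  map_add' A B := by rw [mul_add, add_mul]
  commutes' c := by
    rw [Algebra.algebraMap_eq_smul_one, mul_smul_comm, mul_one, smul_mul_assoc, ← Units.val_mul, inv_mul_cancel,
      Units.val_one]

theorem cj_eq {S : GL (Fin 2) F} {A B : R2} (h : A * (S : R2) = (S : R2) * B) : cj S A = B := by
  show ((S⁻¹ : GL (Fin 2) F) : R2) * A * (S : R2) = B
  rw [mul_assoc, h, ← mul_assoc, ← Units.val_mul, inv_mul_cancel, Units.val_one, one_mul]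

theorem cj_spec (S : GL (Fin 2) F) (A : R2) : A * (S : R2) = (S : R2) * cj S A := by
  show A * (S : R2) = (S : R2) * (((S⁻¹ : GL (Fin 2) F) : R2) * A * (S : R2))
  rw [← mul_assoc, ← mul_assoc, ← Units.val_mul, mul_inv_cancel, Units.val_one, one_mul]

variable {ω s : F}

attribute [-instance] instNoNatZeroDivisorsOfIsAddTorsionFree instIsCharPOfIsLeftCancelAddOfCharP in
theorem MD.final {n₁ n₂ n₃ : F} (h : MD ω s Xo (Zo ω) !![n₁, n₂; n₃, -n₁])
    (hN : ¬ IsSc (!![n₁, n₂; n₃, -n₁] : R2)) : n₁ = 1 ∧ n₃ = 0 ∧ n₂ ^ 2 = -ω := by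
  have h5 := h.h5
  have hω := h.hω
  have hs := h.hs
  have s2 := h.s2
  have hω3 : ω ^ 3 = 1 := by linear_combination (ω - 1) * hω
  have hω0 : ω ≠ 0 := by
    rintro rfl
    norm_num at hω
  obtain ⟨c, hc⟩ := h.nc (by
    intro h0
    have h1 := congrFun (congrFun h0 0) 0
    simp [Xo, Zo] at h1
    apply h.sne
    have h3 := h.ne
    have : (2 : F) * s = 0 := by
      rw [hs]
      linear_combination h1 + 2 * hω
    exact (mul_eq_zero.1 this).resolve_left h3)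
  have hc2 : c = 2 := by
    have h0 := congrFun (congrFun hc.xc 0) 0
    simp [Xo] at h0
    exact h0.symm
  subst hc2
  have htau := (hc.tau hN).1
  have hT0 := hc.T0 hN
  have e1 := h.e1 _ _ _ hT0 rfl rfl
  have nn := congrFun (congrFun h.nn 0) 0
  simp only [Matrix.mul_apply, Fin.sum_univ_two] at nn
  simp only [_root_.Fin.isValue, _root_.Matrix.of_apply, _root_.Matrix.cons_val', _root_.Matrix.cons_val_zero, _root_.Matrix.cons_val_fin_one, _root_.Matrix.cons_val_one, _root_.Matrix.one_apply_eq] at nn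
  have h1 : n₁ = 1 := by
    have h0 := congrFun (congrFun htau 0) 0
    simp [Xo, Zo] at h0
    have h6 : s * (2 * n₁ + 3) = 0 := by
      rw [hs] at h0 ⊢
      linear_combination h0 + 2 * n₁ * hω
    have h7 := (mul_eq_zero.1 h6).resolve_left h.sne
    linear_combination 3 * h7 - (n₁ + 2) * h5
  subst h1
  have q00 := congrFun (congrFun e1 0) 0
  have q01 := congrFun (congrFun e1 0) 1
  have q10 := congrFun (congrFun e1 1) 0
  simp only [Xo, Zo, _root_.Matrix.cons_mul, _root_.Nat.succ_eq_add_one, _root_.Nat.reduceAdd, _root_.Matrix.vecMul_cons, _root_.Matrix.head_cons, _root_.zero_smul, _root_.Matrix.tail_cons, _root_.Matrix.smul_cons, _root_.smul_eq_mul, _root_.MulZeroClass.mul_zero, _root_.Matrix.smul_empty, _root_.Matrix.empty_vecMul, _root_.add_zero, _root_.zero_add, _root_.mul_one, _root_.Matrix.empty_mul, _root_.Equiv.symm_apply_apply, _root_.one_smul, _root_.Matrix.of_sub_of, _root_.Matrix.sub_cons, _root_.sub_self,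 _root_.Matrix.zero_empty, _root_.Matrix.smul_of, _root_.smul_zero, _root_.neg_smul, _root_.Matrix.neg_cons, _root_.neg_zero, _root_.Matrix.neg_empty, _root_.Matrix.add_cons, _root_.Matrix.empty_add_empty, _root_.mul_neg, _root_.Matrix.of_add_of, _root_.neg_add_rev, _root_.Fin.isValue, _root_.neg_neg, _root_.Matrix.of_apply, _root_.Matrix.cons_val', _root_.Matrix.cons_val_zero, _root_.Matrix.cons_val_fin_one, _root_.Algebra.mul_smul_comm, _root_.Matrix.add_apply, _root_.Matrix.cons_val_one] at q00 q01 q10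
  have hne := h.ne
  clear hT0 htau hc hN h e1
  have hn : n₂ * n₃ = 0 := by linear_combination nn
  rcases mul_eq_zero.1 hn with h6 | h6
  · exfalso
    subst h6
    have h8 : ω * n₃ = 0 := by (clear * - h5 hω hs hω0 q00 q01; grobner)
    have h9 := (mul_eq_zero.1 h8).resolve_left hω0
    subst h9
    (clear * - h5 hω hs hω0 q00; grobner)
  · subst h6
    refine ⟨rfl, rfl, ?_⟩
    (clear * - h5 hω hs hω0 q00; grobner)

attribute [-instance] instNoNatZeroDivisorsOfIsAddTorsionFree instIsCharPOfIsLeftCancelAddOfCharP in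
/-- **The normal form.** -/
theorem MD.normal {X Z N : R2} (h : MD ω s X Z N) (hirr : ¬ Cev X Z N) : ∃ (S : GL (Fin 2) F) (ε : F), (ε = 1 ∨ ε = -1) ∧
    X * (S : R2) = (S : R2) * (ε • Xo) ∧ Z * (S : R2) = (S : R2) * (ε • Zo ω) ∧ N * (S : R2) = (S : R2) * No ω := by
  have hK : Z * X ≠ X * Z := fun h0 => hirr (h.cev_of_comm h0)
  obtain ⟨c, hc⟩ := h.nc hK
  have hN : ¬ IsSc N := fun h0 => hirr (hc.cev_of_sc h0)
  have hc2 : c = 2 := (hc.c_cases hN).resolve_left fun h0 => hirr (hc.cev_of_neg hN h0)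
  obtain ⟨S, hX, hZ⟩ := hc.exists_S hc2
  have h1 := h.map (cj S)
  rw [cj_eq hX, cj_eq hZ] at h1
  obtain ⟨N', hN'⟩ : ∃ N', N' = cj S N := ⟨_, rfl⟩
  have hNS : N * (S : R2) = (S : R2) * N' := by rw [hN']; exact cj_spec S N
  rw [← hN'] at h1
  have hN's : ¬ IsSc N' := by
    rintro ⟨d, hd⟩
    apply hN
    refine ⟨d, ?_⟩
    rw [hd, mul_smul_comm, mul_one] at hNS
    have : N = N * (S : R2) * ((S⁻¹ : GL (Fin 2) F) : R2) := by
      rw [mul_assoc, ← Units.val_mul, mul_inv_cancel, Units.val_one, mul_one]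
    rw [this, hNS, smul_mul_assoc, ← Units.val_mul, mul_inv_cancel, Units.val_one]
  have htr := (traceless hN's (c := 1) (by rw [h1.nn, one_smul])).1
  obtain ⟨n₁, n₂, n₃, hNe⟩ : ∃ n₁ n₂ n₃ : F, N' = !![n₁, n₂; n₃, -n₁] := by
    refine ⟨N' 0 0, N' 0 1, N' 1 0, ?_⟩
    rw [Matrix.trace_fin_two] at htr
    have h3 : N' 1 1 = -N' 0 0 := eq_neg_of_add_eq_zero_right htr
    ext i j
    (revert i j; simp only [h3, _root_.Fin.forall_fin_succ, Fin.isValue, _root_.Matrix.of_apply, _root_.Matrix.cons_val', _root_.Matrix.cons_val_fin_one, _root_.Matrix.cons_val_zero, _root_.Matrix.cons_val_succ, _root_.Fin.succ_zero_eq_one, _root_.IsEmpty.forall_iff, _root_.and_true, _root_.and_self])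
  rw [hNe] at h1 hN's hNS
  obtain ⟨e1, e2, e3⟩ := h1.final hN's
  subst e1
  subst e2
  have hω := h.hω
  have h5 := h.h5
  have h4 : (n₂ - 2 * ω ^ 2) * (n₂ + 2 * ω ^ 2) = 0 := by
    clear h1 hN's hNe hNS hN' htr hZ hX hc hN hK hirr h
    grobner
  rcases mul_eq_zero.1 h4 with h6 | h6
  · have h7 : n₂ = 2 * ω ^ 2 := sub_eq_zero.1 h6
    refine ⟨S, 1, Or.inl rfl, by rw [one_smul]; exact hX, by rw [one_smul]; exact hZ, ?_⟩
    rw [hNS, h7]
    rfl
  · have h7 : n₂ = -(2 * ω ^ 2) := eq_neg_of_add_eq_zero_left h6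
    obtain ⟨D, hD⟩ : ∃ D : GL (Fin 2) F, (D : R2) = !![1, 0; 0, -1] :=
      ⟨Matrix.GeneralLinearGroup.mkOfDetNeZero !![1, 0; 0, -1] (by rw [Matrix.det_fin_two_of]; norm_num), rfl⟩
    refine ⟨S * D, -1, Or.inr rfl, ?_, ?_, ?_⟩
    · rw [Units.val_mul, ← mul_assoc, hX, mul_assoc, mul_assoc, hD]
      congr 1
      ext i j
      (revert i j; simp [Xo, _root_.Fin.forall_fin_succ])
    · rw [Units.val_mul, ← mul_assoc, hZ, mul_assoc, mul_assoc, hD]
      congr 1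
      ext i j
      (revert i j; simp [Zo, _root_.Fin.forall_fin_succ])
    · rw [Units.val_mul, ← mul_assoc, hNS, mul_assoc, mul_assoc, hD, h7]
      congr 1
      ext i j
      (revert i j; simp [No, _root_.Fin.forall_fin_succ])

end Cfsg.Agent.H930.A7s
end

-- part: H930/A7s/Bridge
section
/-!
# `6.A₇`, `n = 12`, `p = 5`: the solution of helper825's equations (helper930)
-/

set_option autoImplicit false
set_option linter.unusedSectionVars false

namespace Cfsg.Agent.H930.A7s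

open Matrix
open Cfsg.Agent.H890.A7 (ch2 ch2' IsSc coeff_zero exists_uv)
open Cfsg.Agent.H825.A7x (Eqs Irr)

section gen

variable {F : Type*} [Field F] {R : Type*} [Ring R] [Algebra F R] {ω L : F} {X Z N p₀ p₁ p₂ q₀ q₁ q₂ : R}

theorem mul_nn (h5 : (5 : F) = 0) (h : (2 : F) • (N * N) = 1) : N * N = (3 : F) • 1 := by
  rw [← h, smul_smul]
  have : (3 * 2 : F) = 1 := by linear_combination h5
  rw [this, one_smul]

theorem md_of_eqs (h : Eqs ω L X Z N p₀ p₁ p₂ q₀ q₁ q₂) (h5 : (5 : F) = 0) (hL : L = 1) :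
    MD ω (2 * ω + 1) X (-Z) ((2 * ω + 1) • N) := by
  subst hL
  obtain ⟨s, hs⟩ : ∃ s, s = 2 * ω + 1 := ⟨_, rfl⟩
  rw [← hs]
  have hω := h.hω
  have s2 : s * s = 2 := by
    rw [hs]
    linear_combination 4 * hω - h5
  have hNN := mul_nn h5 h.NN
  have f : ∀ (a : F) (x : R), (5 * a) • x = 0 := fun a x => by rw [h5, zero_mul, zero_smul]
  -- `24 q₀² = 1 + 2 q₀`
  have hq0 : (24 : F) • (q₀ * q₀) = 1 + (2 : F) • q₀ := by
    have : (24 : F) • (q₀ * q₀) = ((3 : F) • (p₀ * p₀) + (12 : F) • (q₀ * q₀)) -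
      ((3 : F) • (p₀ * p₀) - (12 : F) • (q₀ * q₀)) := by module
    rw [this, h.s0, h.e00]
    module
  have hq : q₀ * q₀ = (-1 : F) • 1 - (2 : F) • q₀ := by
    have : q₀ * q₀ = (5 * 5 : F) • (q₀ * q₀) - (24 : F) • (q₀ * q₀) := by module
    rw [this, f, hq0]
    module
  have hT0 : (-2 : F) • (s • (X * X) + X * (s • N) * (-Z) - -Z * (s • N) * X) = (-2 * s) • q₀ := by
    rw [h.hq0]
    simp only [mul_smul_comm, smul_mul_assoc, mul_neg, neg_mul]
    module
  have hT1 : (-2 : F) • (s • (X * X) + ω • (X * (s • N) * (-Z)) - ω ^ 2 • (-Z * (s • N) * X)) = (-2 * s) • q₂ := by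
    rw [h.hq2]
    simp only [mul_smul_comm, smul_mul_assoc, mul_neg, neg_mul]
    module
  have hT2 : (-2 : F) • (s • (X * X) + ω ^ 2 • (X * (s • N) * (-Z)) - ω • (-Z * (s • N) * X)) = (-2 * s) • q₁ := by
    rw [h.hq1]
    simp only [mul_smul_comm, smul_mul_assoc, mul_neg, neg_mul]
    module
  have hP0 : s • (-Z * X - X * -Z) + (2 : F) • (X * (s • N) * X) + (2 : F) • (-Z * (s • N) * -Z) = (-s) • p₀ := by
    rw [h.hp0]
    simp only [mul_smul_comm, smul_mul_assoc, mul_neg, neg_mul]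
    module
  have hP1 : s • (-Z * X - X * -Z) + (2 * ω ^ 2) • (X * (s • N) * X) + (2 * ω) • (-Z * (s • N) * -Z) = (-s) • p₁ := by
    rw [h.hp1]
    simp only [mul_smul_comm, smul_mul_assoc, mul_neg, neg_mul]
    module
  have hP2 : s • (-Z * X - X * -Z) + (2 * ω) • (X * (s • N) * X) + (2 * ω ^ 2) • (-Z * (s • N) * -Z) = (-s) • p₂ := by
    rw [h.hp2]
    simp only [mul_smul_comm, smul_mul_assoc, mul_neg, neg_mul]
    module
  refine ⟨h5, hω, hs, ?_, ?_, ?_, ?_, ?_, ?_, ?_, ?_⟩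
  · rw [smul_mul_smul_comm, s2, h.NN]
  · rw [h.XX, neg_mul_neg]
  · have h1 : (-2 : F) • (1 : R) = (-2 : F) • (3 : F) • (X * Z + Z * X) := by rw [h.XZ]
    have h2 : X * -Z + -Z * X = (-1 : F) • (X * Z + Z * X) := by
      rw [mul_neg, neg_mul]
      module
    rw [h1, h2, smul_smul]
    congr 1
    linear_combination h5
  · rintro _ rfl
    rw [hT0, smul_mul_smul_comm, hq]
    have : (-2 * s * (-2 * s)) • ((-1 : F) • (1 : R) - (2 : F) • q₀) + s • (-2 * s) • q₀ + (3 : F) • 1 =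
        (3 - 4 * (s * s)) • (1 : R) - (10 * (s * s)) • q₀ := by module
    rw [this, s2, show (3 - 4 * 2 : F) = 0 by linear_combination -h5, show (10 * 2 : F) = 0 by linear_combination 4 * h5]
    simp
  · rintro _ _ rfl rfl
    rw [hT0, hP0, smul_mul_smul_comm, smul_mul_smul_comm]
    have : (-s * -s) • (p₀ * p₀) + (-2 * s * (-2 * s)) • (q₀ * q₀) =
        (s * s) • (p₀ * p₀) + (4 * (s * s)) • (q₀ * q₀) := by module
    rw [this, s2]
    have h1 := h.s0
    have : (2 : F) • (p₀ * p₀) + (4 * 2 : F) • (q₀ * q₀) = (5 * 1 : F) • (p₀ * p₀) + (5 * 4 : F) • (q₀ * q₀) -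
      ((3 : F) • (p₀ * p₀) + (12 : F) • (q₀ * q₀)) := by module
    rw [this, h1, f, f]
    simp
  · rintro _ _ _ rfl rfl rfl
    rw [hT0, hP0, hP1]
    -- `p₁ N q₀ = p₁ N + N p₀`
    have e10 : p₁ * N * q₀ = p₁ * N + N * p₀ := by
      have h1 := h.e10
      rw [one_smul] at h1
      rw [← h1]
      have : (6 : F) • (p₁ * N * q₀) = p₁ * N * q₀ + (5 * 1 : F) • (p₁ * N * q₀) := by module
      rw [this, f, add_zero]
    -- `p₁ N = N p₀ (q₀ + 3)`
    have h2 : p₁ * N = N * p₀ * (q₀ + (3 : F) • 1) := by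
      have h3 : (p₁ * N * (q₀ - 1)) * (q₀ + (3 : F) • 1) = N * p₀ * (q₀ + (3 : F) • 1) := by
        rw [mul_sub, e10, mul_one, add_sub_cancel_left]
      rw [← h3]
      have h4 : (q₀ - 1) * (q₀ + (3 : F) • 1) = 1 := by
        have : (q₀ - 1) * (q₀ + (3 : F) • 1) = q₀ * q₀ + (2 : F) • q₀ - (3 : F) • 1 := by
          simp only [sub_mul, mul_add, mul_smul_comm, mul_one, one_mul]
          module
        rw [this, hq]
        have : (-1 : F) • (1 : R) - (2 : F) • q₀ + (2 : F) • q₀ - (3 : F) • 1 = 1 - (5 * 1 : F) • 1 := by module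
        rw [this, f, sub_zero]
      rw [mul_assoc, h4, mul_one]
    have h5' : N * p₁ * N = (3 : F) • (p₀ * q₀) + (9 : F) • p₀ := by
      rw [mul_assoc, h2, ← mul_assoc, ← mul_assoc, hNN, smul_mul_assoc, one_mul, smul_mul_assoc, mul_add, mul_smul_comm,
        mul_one]
      module
    have h6 : (s • N) * ((-s) • p₁) * (s • N) = (-s * (s * s)) • (N * p₁ * N) := by
      simp only [mul_smul_comm, smul_mul_assoc]
      module
    rw [h6, h5', smul_mul_smul_comm, s2]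
    have h7 : (-s * 2) • ((3 : F) • (p₀ * q₀) + (9 : F) • p₀) - (s • (-s * (-2 * s)) • (p₀ * q₀) + (3 : F) • (-s) • p₀) =
      (5 * (-2 * s)) • (p₀ * q₀) + (4 * s - 2 * s * (s * s)) • (p₀ * q₀) + (5 * (-3 * s)) • p₀ := by module
    rw [f, f, zero_add, add_zero, s2, show 4 * s - 2 * s * 2 = 0 by ring, zero_smul] at h7
    exact sub_eq_zero.1 h7
  · rintro _ _ _ rfl rfl rfl
    rw [hP1, hT1, hT2, smul_mul_smul_comm, smul_mul_smul_comm]
    have : (-s * -s) • (p₁ * p₁) + (-2 * s * (-2 * s)) • (q₁ * q₂) =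
        (s * s) • (p₁ * p₁) + (4 * (s * s)) • (q₁ * q₂) := by module
    rw [this, s2]
    have h1 := h.s1
    have : (2 : F) • (p₁ * p₁) + (4 * 2 : F) • (q₁ * q₂) = (5 * 1 : F) • (p₁ * p₁) + (5 * 4 : F) • (q₁ * q₂) -
      ((3 : F) • (p₁ * p₁) + (12 : F) • (q₁ * q₂)) := by module
    rw [this, h1, f, f]
    simp
  · rintro _ rfl
    rw [hP2]
    have h1 := h.s2
    have h2 := h.e22
    rw [mul_one] at h2
    have h3 : (-2 : F) • (p₂ * N + N * p₂) = -((6 : F) • (p₂ * p₂) - 1) := by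
      have : (-2 : F) • (p₂ * N + N * p₂) = -((2 : F) • (p₂ * N + N * p₂)) := by module
      rw [this, ← h2, ← h1]
      module
    have h4 : (s • N) * ((-s) • p₂) + ((-s) • p₂) * (s • N) = (-(s * s)) • (p₂ * N + N * p₂) := by
      simp only [mul_smul_comm, smul_mul_assoc]
      module
    rw [h4, s2, h3, smul_mul_smul_comm]
    have h5' : (2 : F) • (-s * -s) • (p₂ * p₂) + 1 - -((6 : F) • (p₂ * p₂) - 1) =
      (5 * 2 : F) • (p₂ * p₂) + (2 * (s * s) - 4) • (p₂ * p₂) := by module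
    rw [f, s2, show (2 * 2 - 4 : F) = 0 by ring, zero_smul, add_zero] at h5'
    exact sub_eq_zero.1 h5'

end gen

variable {F : Type*} [Field F] {ω L : F} {X Z N p₀ p₁ p₂ q₀ q₁ q₂ : Matrix (Fin 2) (Fin 2) F}

local notation "R2" => Matrix (Fin 2) (Fin 2) F

/-- **The solution of the equations in characteristic five**, `L = 1`. -/
theorem eqs_normal (h : Eqs ω L X Z N p₀ p₁ p₂ q₀ q₁ q₂) (hI : Irr X Z N) (h5 : (5 : F) = 0) (hL : L = 1) :
    ∃ (S : GL (Fin 2) F) (ε : F), (ε = 1 ∨ ε = -1) ∧ X * (S : R2) = (S : R2) * (ε • Xo) ∧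
      Z * (S : R2) = (S : R2) * ((-ε) • Zo ω) ∧ N * (S : R2) = (S : R2) * ((3 * (2 * ω + 1)) • No ω) := by
  have h1 := md_of_eqs h h5 hL
  obtain ⟨S, ε, hε, hX, hZ, hN⟩ := h1.normal (by
    rintro ⟨v, hv, hX, ⟨a, ha⟩, b, hb⟩
    refine hI.irr v hv hX ⟨-a, ?_⟩ ⟨3 * (2 * ω + 1) * b, ?_⟩
    · rw [neg_smul, ← ha, Matrix.neg_mulVec, neg_neg]
    · rw [Matrix.smul_mulVec] at hb
      rw [mul_smul, ← hb, smul_smul]
      have h2 : (3 * (2 * ω + 1)) * (2 * ω + 1) = 1 := by linear_combination 12 * h.hω - 2 * h5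
      rw [h2, one_smul])
  refine ⟨S, ε, hε, hX, ?_, ?_⟩
  · have h2 : Z = -(-Z) := (neg_neg Z).symm
    rw [h2, neg_mul, hZ, neg_smul, mul_neg]
  · have h2 : (3 * (2 * ω + 1)) * (2 * ω + 1) = 1 := by linear_combination 12 * h.hω - 2 * h5
    have h3 : N = (3 * (2 * ω + 1)) • ((2 * ω + 1) • N) := by rw [smul_smul, h2, one_smul]
    rw [h3, smul_mul_assoc, hN, mul_smul_comm]

end Cfsg.Agent.H930.A7s
end

-- part: H108/TK/FiveF
section
/-!
# `6.A₇` in dimension twelve, characteristic five: the explicit matrices over `F` (helper108)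
-/

set_option autoImplicit false
set_option linter.unusedSectionVars false
set_option maxRecDepth 100000

namespace Cfsg.Agent.H108.TK.Five

open Matrix Cfsg.Agent.H890.A7
open scoped Kronecker

section phi

variable {F : Type*} [Field F] [CharP F 5] {ω : F}

/-- `F₅[w] → F`, `w ↦ ω` -/
noncomputable def phi (hω : ω ^ 2 + ω + 1 = 0) : Ra →+* F :=
  letI := ZMod.algebra F 5
  (QuadraticAlgebra.lift (R := ZMod 5) (a := -1) (b := -1) (A := F) ⟨ω, by
    rw [neg_smul, neg_smul, one_smul, one_smul]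
    linear_combination hω⟩ : Ra →ₐ[ZMod 5] F).toRingHom

theorem phi_apply (hω : ω ^ 2 + ω + 1 = 0) (z : Ra) :
    phi hω z = ZMod.castHom (dvd_refl 5) F z.re + ZMod.castHom (dvd_refl 5) F z.im * ω := by
  letI := ZMod.algebra F 5
  have h : phi hω z = z.re • (1 : F) + z.im • ω := rfl
  rw [h, Algebra.smul_def, Algebra.smul_def, mul_one]
  rfl

theorem phi_mk (hω : ω ^ 2 + ω + 1 = 0) (a b : ℕ) :
    phi hω ⟨(a : ZMod 5), (b : ZMod 5)⟩ = (a : F) + (b : F) * ω := by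
  rw [phi_apply]
  change ZMod.castHom (dvd_refl 5) F (a : ZMod 5) + ZMod.castHom (dvd_refl 5) F (b : ZMod 5) * ω = _
  rw [map_natCast, map_natCast]

theorem phi_w (hω : ω ^ 2 + ω + 1 = 0) : phi hω w = ω := by
  have := phi_mk hω 0 1
  rw [Nat.cast_zero, Nat.cast_one, Nat.cast_zero, Nat.cast_one, zero_add, one_mul] at this
  exact this

/-- the Frobenius -/
theorem phi_cj (hω : ω ^ 2 + ω + 1 = 0) {σ : F →+* F} (hσ : σ ω = ω ^ 2) (z : Ra) :
    σ (phi hω z) = phi hω (cj z) := by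
  have h5 : ∀ y : ZMod 5, σ (ZMod.castHom (dvd_refl 5) F y) = ZMod.castHom (dvd_refl 5) F y := fun y => by
    have h : σ.comp (ZMod.castHom (dvd_refl 5) F) = ZMod.castHom (dvd_refl 5) F := Subsingleton.elim _ _
    exact RingHom.congr_fun h y
  rw [phi_apply, phi_apply, map_add, map_mul, h5, h5, hσ]
  change _ = ZMod.castHom (dvd_refl 5) F (z.re - z.im) + ZMod.castHom (dvd_refl 5) F (-z.im) * ω
  rw [map_sub, map_neg]
  linear_combination ZMod.castHom (dvd_refl 5) F z.im * hω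

theorem map_cj (hω : ω ^ 2 + ω + 1 = 0) {σ : F →+* F} (hσ : σ ω = ω ^ 2) {m : Type*} (A : Matrix m m Ra) :
    (A.map (phi hω)).map σ = (A.map cj).map (phi hω) := by
  ext i j
  exact phi_cj hω hσ (A i j)

variable {m : Type*} [Fintype m] [DecidableEq m]

/-- a unitary matrix over `F₅[w]` in `GL` -/
noncomputable def toGL (hω : ω ^ 2 + ω + 1 = 0) (A : Matrix m m Ra) (h : Aᵀ * A.map cj = 1) : GL m F :=
  ⟨A.map (phi hω), ((A.map cj)ᵀ).map (phi hω), by
    rw [← Matrix.map_mul]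
    have h1 : (A.map cj)ᵀ * A = 1 := by
      rw [← Matrix.transpose_inj, Matrix.transpose_mul, Matrix.transpose_transpose, h, Matrix.transpose_one]
    rw [mul_eq_one_comm.1 h1]
    exact Matrix.map_one _ (map_zero _) (map_one _), by
    rw [← Matrix.map_mul]
    have h1 : (A.map cj)ᵀ * A = 1 := by
      rw [← Matrix.transpose_inj, Matrix.transpose_mul, Matrix.transpose_transpose, h, Matrix.transpose_one]
    rw [h1]
    exact Matrix.map_one _ (map_zero _) (map_one _)⟩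

theorem toGL_isom (hω : ω ^ 2 + ω + 1 = 0) (A : Matrix m m Ra) (h : Aᵀ * A.map cj = 1) {σ : F →+* F}
    (hσ : σ ω = ω ^ 2) :
    (toGL hω A h : Matrix m m F)ᵀ * (toGL hω A h : Matrix m m F).map σ = 1 := by
  change (A.map (phi hω))ᵀ * (A.map (phi hω)).map σ = 1
  rw [map_cj hω hσ, ← Matrix.transpose_map, ← Matrix.map_mul, h]
  exact Matrix.map_one _ (map_zero _) (map_one _)

/-- the change of basis -/
noncomputable def GF (hω : ω ^ 2 + ω + 1 = 0) : GL N12 F :=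
  ⟨G.map (phi hω), Gi.map (phi hω), by
    rw [← Matrix.map_mul, G_mul_Gi]
    exact Matrix.map_one _ (map_zero _) (map_one _), by
    rw [← Matrix.map_mul, Gi_mul_G]
    exact Matrix.map_one _ (map_zero _) (map_one _)⟩

/-- the tensor factorization -/
theorem fact (hω : ω ^ 2 + ω + 1 = 0) {V : Matrix N12 N12 Ra} {A : Matrix (Fin 3) (Fin 3) Ra}
    {B : Matrix (Fin 4) (Fin 4) Ra} (h : V * G = G * (A ⊗ₖ B)) :
    V.map (phi hω) = (GF hω : Matrix N12 N12 F) * ((A.map (phi hω)) ⊗ₖ (B.map (phi hω))) *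
      ((GF hω)⁻¹ : GL N12 F) := by
  have h1 : V = G * (A ⊗ₖ B) * Gi := by
    rw [← h, Matrix.mul_assoc, G_mul_Gi, Matrix.mul_one]
  have h2 : (A ⊗ₖ B).map (phi hω) = (A.map (phi hω)) ⊗ₖ (B.map (phi hω)) := by
    ext ⟨i, j⟩ ⟨k, l⟩
    exact map_mul (phi hω) _ _
  rw [h1, Matrix.map_mul, Matrix.map_mul, h2]
  rfl

end phi

section link

variable {F : Type*} [Field F]

/-- `M₃(M₂(M₂ F)) ≃ M₁₂ F` -/
noncomputable def unc : Matrix (Fin 3) (Fin 3) (Matrix (Fin 2) (Fin 2) (Matrix (Fin 2) (Fin 2) F)) ≃ₐ[F]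
    Matrix N12 N12 F :=
  (AlgEquiv.mapMatrix ((Matrix.compAlgEquiv (Fin 2) (Fin 2) F F).trans
    (Matrix.reindexAlgEquiv F F (finProdFinEquiv : Fin 2 × Fin 2 ≃ Fin 4)))).trans
    (Matrix.compAlgEquiv (Fin 3) (Fin 4) F F)

theorem unc_apply (M : Matrix (Fin 3) (Fin 3) (Matrix (Fin 2) (Fin 2) (Matrix (Fin 2) (Fin 2) F))) (p q : N12) :
    unc M p q = M p.1 q.1 (hi p.2) (hi q.2) (lo p.2) (lo q.2) := rfl

theorem hl (p q : Fin 4) : (hi p = hi q ∧ lo p = lo q) ↔ p = q := by revert p q; decide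

theorem one_entry (p q : Fin 4) : (1 : Matrix (Fin 2) (Fin 2) (Matrix (Fin 2) (Fin 2) F)) (hi p) (hi q) (lo p) (lo q) =
    if p = q then 1 else 0 := by
  have h1 : (1 : Matrix (Fin 2) (Fin 2) (Matrix (Fin 2) (Fin 2) F)) (hi p) (hi q) =
    if hi p = hi q then 1 else 0 := Matrix.one_apply
  rw [h1]
  by_cases h : hi p = hi q
  · rw [if_pos h, Matrix.one_apply]
    by_cases h2 : lo p = lo q
    · rw [if_pos h2, if_pos ((hl p q).1 ⟨h, h2⟩)]
    · rw [if_neg h2, if_neg (fun h3 => h2 ((hl p q).2 h3).2)]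
  · rw [if_neg h, if_neg (fun h3 => h ((hl p q).2 h3).1)]
    rfl

variable [CharP F 5] {ω : F} (hω : ω ^ 2 + ω + 1 = 0)

theorem unc_a3 : unc (a3 ω) = Va.map (phi hω) := by
  ext ⟨i, p⟩ ⟨j, q⟩
  rw [unc_apply, a3_apply, Matrix.map_apply]
  change (if i = j then (ω ^ (j : ℕ)) • (1 : Matrix (Fin 2) (Fin 2) (Matrix (Fin 2) (Fin 2) F)) else 0) (hi p) (hi q)
    (lo p) (lo q) = phi hω (if (i, p) = (j, q) then w ^ (i : ℕ) else 0)
  by_cases h : i = j
  · subst h
    rw [if_pos rfl, Matrix.smul_apply, Matrix.smul_apply]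
    rw [one_entry, smul_eq_mul]
    by_cases h2 : p = q
    · subst h2
      rw [if_pos rfl, if_pos rfl, map_pow, phi_w, mul_one]
    · rw [if_neg h2, if_neg (fun h3 => h2 (Prod.ext_iff.1 h3).2), mul_zero, map_zero]
  · rw [if_neg h, if_neg (fun h3 => h (Prod.ext_iff.1 h3).1), map_zero]
    rfl

theorem unc_b3 : unc (b3 : Matrix (Fin 3) (Fin 3) (Matrix (Fin 2) (Fin 2) (Matrix (Fin 2) (Fin 2) F))) =
    Vb.map (phi hω) := by
  ext ⟨i, p⟩ ⟨j, q⟩
  rw [unc_apply, b3_apply, Matrix.map_apply]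
  change (if i = j + 1 then (1 : Matrix (Fin 2) (Fin 2) (Matrix (Fin 2) (Fin 2) F)) else 0) (hi p) (hi q)
    (lo p) (lo q) = phi hω (if i = j + 1 ∧ p = q then 1 else 0)
  by_cases h : i = j + 1
  · rw [if_pos h, one_entry]
    by_cases h2 : p = q
    · rw [if_pos h2, if_pos ⟨h, h2⟩, map_one]
    · rw [if_neg h2, if_neg (fun h3 => h2 h3.2), map_zero]
  · rw [if_neg h, if_neg (fun h3 => h h3.1), map_zero]
    rfl

/-- matrices of scalars -/
def sc2 (A : Matrix (Fin 2) (Fin 2) F) : Matrix (Fin 2) (Fin 2) (Matrix (Fin 2) (Fin 2) F) :=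
  A.map fun c => c • (1 : Matrix (Fin 2) (Fin 2) F)

theorem sc2_entry (A : Matrix (Fin 2) (Fin 2) F) (a b c d : Fin 2) :
    sc2 A a b c d = if c = d then A a b else 0 := by
  change (A a b • (1 : Matrix (Fin 2) (Fin 2) F)) c d = _
  rw [Matrix.smul_apply, Matrix.one_apply, smul_eq_mul, mul_ite, mul_one, mul_zero]

theorem h5F : (5 : F) = 0 := by
  have := CharP.cast_eq_zero F 5
  exact_mod_cast this

theorem th_ne (hω : ω ^ 2 + ω + 1 = 0) : ω - ω ^ 2 ≠ 0 := by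
  intro h
  have h5 : (5 : F) = 0 := h5F
  have h1 : (1 : F) = 0 := by
    linear_combination 2 * ((ω ^ 2 - 3 * ω + 3) * hω - (ω - ω ^ 2) * h) - h5
  exact one_ne_zero h1

/-- the blocks of `k` -/
theorem eq_sc2 {d : Matrix (Fin 2) (Fin 2) (Matrix (Fin 2) (Fin 2) F)} {A : Matrix (Fin 2) (Fin 2) F}
    (hω : ω ^ 2 + ω + 1 = 0) (h : (ω - ω ^ 2) • d = sc2 ((ω - ω ^ 2) • A)) : d = sc2 A := by
  have h1 : sc2 ((ω - ω ^ 2) • A) = (ω - ω ^ 2) • sc2 A := by
    ext a b c e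
    rw [sc2_entry, Matrix.smul_apply, Matrix.smul_apply, Matrix.smul_apply]
    rw [sc2_entry, smul_eq_mul, smul_eq_mul, mul_ite, mul_zero]
  rw [h1] at h
  exact smul_right_injective _ (th_ne hω) h

theorem sc2_of {a b c d : F} : sc2 !![a, b; c, d] = !![a • 1, b • 1; c • 1, d • 1] := by
  ext i j
  fin_cases i <;> fin_cases j <;> rfl

theorem map2 (A : Matrix (Fin 2) (Fin 2) Ra) : A.map (phi hω) =
    !![phi hω (A 0 0), phi hω (A 0 1); phi hω (A 1 0), phi hω (A 1 1)] := by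
  ext i j
  fin_cases i <;> fin_cases j <;> rfl

theorem smul_two (c : F) (a b d e : F) : c • !![a, b; d, e] = !![c * a, c * b; c * d, c * e] := by
  ext i j
  fin_cases i <;> fin_cases j <;> rfl

theorem d_eq {d : Matrix (Fin 2) (Fin 2) (Matrix (Fin 2) (Fin 2) F)} {A : Matrix (Fin 2) (Fin 2) Ra} {a b c e : F}
    (h : (ω - ω ^ 2) • d = !![a • 1, b • 1; c • 1, e • 1]) (h00 : (ω - ω ^ 2) * phi hω (A 0 0) = a)
    (h01 : (ω - ω ^ 2) * phi hω (A 0 1) = b) (h10 : (ω - ω ^ 2) * phi hω (A 1 0) = c)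
    (h11 : (ω - ω ^ 2) * phi hω (A 1 1) = e) : d = sc2 (A.map (phi hω)) := by
  apply eq_sc2 hω
  rw [h, map2, smul_two, h00, h01, h10, h11, sc2_of]

theorem d0_eq {d : Matrix (Fin 2) (Fin 2) (Matrix (Fin 2) (Fin 2) F)}
    (h : (ω - ω ^ 2) • d = !![(1 : F) • 1, (1 : F) • 1; (2 : F) • 1, (-1 : F) • 1]) :
    d = sc2 (d0.map (phi hω)) := by
  have h5 : (5 : F) = 0 := h5F
  refine d_eq hω h ?_ ?_ ?_ ?_
  · rw [show phi hω (d0 0 0) = 3 + 1 * ω from (phi_mk hω 3 1).trans (by push_cast; ring)]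
    linear_combination ((-1) + (-1) * ω) * hω + (ω) * h5
  · rw [show phi hω (d0 0 1) = 3 + 1 * ω from (phi_mk hω 3 1).trans (by push_cast; ring)]
    linear_combination ((-1) + (-1) * ω) * hω + (ω) * h5
  · rw [show phi hω (d0 1 0) = 1 + 2 * ω from (phi_mk hω 1 2).trans (by push_cast; ring)]
    linear_combination (3 + (-2) * ω) * hω + ((-1)) * h5
  · rw [show phi hω (d0 1 1) = 2 + 4 * ω from (phi_mk hω 2 4).trans (by push_cast; ring)]
    linear_combination (6 + (-4) * ω) * hω + ((-1)) * h5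

theorem d1_eq {d : Matrix (Fin 2) (Fin 2) (Matrix (Fin 2) (Fin 2) F)}
    (h : (ω - ω ^ 2) • d = !![(1 : F) • 1, (ω : F) • 1; (2 * ω ^ 2 : F) • 1, (-1 : F) • 1]) :
    d = sc2 (d1.map (phi hω)) := by
  have h5 : (5 : F) = 0 := h5F
  refine d_eq hω h ?_ ?_ ?_ ?_
  · rw [show phi hω (d1 0 0) = 3 + 1 * ω from (phi_mk hω 3 1).trans (by push_cast; ring)]
    linear_combination ((-1) + (-1) * ω) * hω + (ω) * h5
  · rw [show phi hω (d1 0 1) = 4 + 2 * ω from (phi_mk hω 4 2).trans (by push_cast; ring)]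
    linear_combination ((-2) * ω) * hω + (ω) * h5
  · rw [show phi hω (d1 1 0) = 1 + 4 * ω from (phi_mk hω 1 4).trans (by push_cast; ring)]
    linear_combination (5 + (-4) * ω) * hω + ((-1)) * h5
  · rw [show phi hω (d1 1 1) = 2 + 4 * ω from (phi_mk hω 2 4).trans (by push_cast; ring)]
    linear_combination (6 + (-4) * ω) * hω + ((-1)) * h5

theorem d2_eq {d : Matrix (Fin 2) (Fin 2) (Matrix (Fin 2) (Fin 2) F)}
    (h : (ω - ω ^ 2) • d = !![(1 : F) • 1, (ω ^ 2 : F) • 1; (2 * ω : F) • 1, (-1 : F) • 1]) :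
    d = sc2 (d2.map (phi hω)) := by
  have h5 : (5 : F) = 0 := h5F
  refine d_eq hω h ?_ ?_ ?_ ?_
  · rw [show phi hω (d2 0 0) = 3 + 1 * ω from (phi_mk hω 3 1).trans (by push_cast; ring)]
    linear_combination ((-1) + (-1) * ω) * hω + (ω) * h5
  · rw [show phi hω (d2 0 1) = 3 + 2 * ω from (phi_mk hω 3 2).trans (by push_cast; ring)]
    linear_combination ((-2) * ω) * hω + (ω) * h5
  · rw [show phi hω (d2 1 0) = 3 + 4 * ω from (phi_mk hω 3 4).trans (by push_cast; ring)]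
    linear_combination (5 + (-4) * ω) * hω + ((-1)) * h5
  · rw [show phi hω (d2 1 1) = 2 + 4 * ω from (phi_mk hω 2 4).trans (by push_cast; ring)]
    linear_combination (6 + (-4) * ω) * hω + ((-1)) * h5

theorem neg_two (a b d e : F) : -!![a, b; d, e] = !![-a, -b; -d, -e] := by
  ext i j
  fin_cases i <;> fin_cases j <;> rfl

theorem eq_two {a b c d a' b' c' d' : F} (h1 : a = a') (h2 : b = b') (h3 : c = c') (h4 : d = d') :
    !![a, b; c, d] = !![a', b'; c', d'] := by rw [h1, h2, h3, h4]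

open Cfsg.Agent.H930.A7s (Xo Zo No)

theorem blk01 (hω : ω ^ 2 + ω + 1 = 0) : ((-1 : F) • Zo ω) * ((3 * (2 * ω + 1)) • No ω) =
    !![0 + 0 * ω, 4 + 2 * ω; 4 + 1 * ω, 4 + 2 * ω] := by
  have h5 : (5 : F) = 0 := h5F
  unfold Zo No
  rw [smul_two, smul_two, Matrix.mul_fin_two]
  apply eq_two
  · linear_combination (0) * hω + (0) * h5
  · linear_combination (6) * hω + ((-2) + (-1) * ω) * h5
  · linear_combination (6 + (-12) * ω) * hω + ((-2) + ω) * h5
  · linear_combination ((-24) + 12 * ω + 12 * ω ^ 2 + (-24) * ω ^ 3) * hω + (4 + 2 * ω) * h5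

theorem blk10 (hω : ω ^ 2 + ω + 1 = 0) : -((2 : F) • (((3 * (2 * ω + 1)) • No ω) * ((-1 : F) • Zo ω))) =
    !![2 + 1 * ω, 3 + 4 * ω; 3 + 2 * ω, 0 + 0 * ω] := by
  have h5 : (5 : F) = 0 := h5F
  unfold Zo No
  rw [smul_two, smul_two, Matrix.mul_fin_two, smul_two, neg_two]
  apply eq_two
  · linear_combination (48 + (-24) * ω + (-24) * ω ^ 2 + 48 * ω ^ 3) * hω + ((-10) + (-5) * ω) * h5
  · linear_combination (12) * hω + ((-3) + (-2) * ω) * h5
  · linear_combination (12 + (-24) * ω) * hω + ((-3) + 2 * ω) * h5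
  · linear_combination (0) * hω + (0) * h5

theorem blk11 (hω : ω ^ 2 + ω + 1 = 0) : (2 : F) • (((3 * (2 * ω + 1)) • No ω) * Xo * ((3 * (2 * ω + 1)) • No ω)) =
    !![1 + 1 * ω, 4 + 3 * ω; 3 + 0 * ω, 4 + 4 * ω] := by
  have h5 : (5 : F) = 0 := h5F
  unfold No Xo
  rw [smul_two, Matrix.mul_fin_two, Matrix.mul_fin_two, smul_two]
  apply eq_two
  · linear_combination ((-216) + 288 * ω ^ 2) * hω + (43 + 43 * ω) * h5
  · linear_combination ((-72) + 432 * ω + (-432) * ω ^ 2 + 576 * ω ^ 4) * hω + (10 + (-87) * ω) * h5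
  · linear_combination ((-144)) * hω + (21) * h5
  · linear_combination (216 + (-288) * ω ^ 2) * hω + ((-44) + (-44) * ω) * h5

theorem unc_dg {e₀ e₁ e₂ : Matrix (Fin 2) (Fin 2) (Matrix (Fin 2) (Fin 2) F)} (h₀ : e₀ = sc2 (d0.map (phi hω)))
    (h₁ : e₁ = sc2 (d1.map (phi hω))) (h₂ : e₂ = sc2 (d2.map (phi hω))) :
    unc (dg e₀ e₁ e₂) = Vk.map (phi hω) := by
  ext ⟨i, p⟩ ⟨j, q⟩
  rw [unc_apply, Matrix.map_apply]
  change (if i = j then (if i = 0 then e₀ else if i = 1 then e₁ else e₂) else 0) (hi p) (hi q) (lo p) (lo q) =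
    phi hω (if i = j ∧ lo p = lo q then dd i (hi p) (hi q) else 0)
  by_cases h : i = j
  · rw [if_pos h]
    have h3 : (if i = 0 then e₀ else if i = 1 then e₁ else e₂) = sc2 ((dd i).map (phi hω)) := by
      unfold dd
      split_ifs
      · exact h₀
      · exact h₁
      · exact h₂
    rw [h3, sc2_entry]
    by_cases h2 : lo p = lo q
    · rw [if_pos h2, if_pos ⟨h, h2⟩]
      rfl
    · rw [if_neg h2, if_neg (fun h4 => h2 h4.2), map_zero]
  · rw [if_neg h, if_neg (fun h4 => h h4.1), map_zero]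
    rfl

theorem unc_gm {x : Matrix (Fin 2) (Fin 2) (Matrix (Fin 2) (Fin 2) F)}
    (hx : ∀ p q : Fin 4, x (hi p) (hi q) (lo p) (lo q) = phi hω (x4 p q)) :
    unc (gm ω x) = Vg.map (phi hω) := by
  ext ⟨i, p⟩ ⟨j, q⟩
  rw [unc_apply, Matrix.map_apply]
  change (ω ^ (2 * (i : ℕ) * (j : ℕ)) • x) (hi p) (hi q) (lo p) (lo q) =
    phi hω (w ^ (2 * (i : ℕ) * (j : ℕ)) * x4 p q)
  rw [Matrix.smul_apply, Matrix.smul_apply]
  rw [hx, map_mul, map_pow, phi_w, smul_eq_mul]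

/-- the matrix `x` in normal form -/
def xo (ω : F) : Matrix (Fin 2) (Fin 2) (Matrix (Fin 2) (Fin 2) F) :=
  !![Xo, ((-1 : F) • Zo ω) * ((3 * (2 * ω + 1)) • No ω);
    -((2 : F) • (((3 * (2 * ω + 1)) • No ω) * ((-1 : F) • Zo ω))),
    (2 : F) • (((3 * (2 * ω + 1)) • No ω) * Xo * ((3 * (2 * ω + 1)) • No ω))]

theorem Xo_eq : (Xo : Matrix (Fin 2) (Fin 2) F) = !![0 + 0 * ω, 1 + 0 * ω; 2 + 0 * ω, 0 + 0 * ω] := by
  unfold Xo
  apply eq_two <;> ring

theorem xo_entry (p q : Fin 4) : xo ω (hi p) (hi q) (lo p) (lo q) = phi hω (x4 p q) := by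
  unfold xo
  rw [blk01 hω, blk10 hω, blk11 hω, Xo_eq (ω := ω)]
  have key : ∀ a b : ℕ, phi hω ⟨(a : ZMod 5), (b : ZMod 5)⟩ = (a : F) + (b : F) * ω := phi_mk hω
  fin_cases p <;> fin_cases q
  · exact (show (0 + 0 * ω : F) = phi hω (x4 0 0) from ((key 0 0).trans (by push_cast; ring)).symm)
  · exact (show (1 + 0 * ω : F) = phi hω (x4 0 1) from ((key 1 0).trans (by push_cast; ring)).symm)
  · exact (show (0 + 0 * ω : F) = phi hω (x4 0 2) from ((key 0 0).trans (by push_cast; ring)).symm)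
  · exact (show (4 + 2 * ω : F) = phi hω (x4 0 3) from ((key 4 2).trans (by push_cast; ring)).symm)
  · exact (show (2 + 0 * ω : F) = phi hω (x4 1 0) from ((key 2 0).trans (by push_cast; ring)).symm)
  · exact (show (0 + 0 * ω : F) = phi hω (x4 1 1) from ((key 0 0).trans (by push_cast; ring)).symm)
  · exact (show (4 + 1 * ω : F) = phi hω (x4 1 2) from ((key 4 1).trans (by push_cast; ring)).symm)
  · exact (show (4 + 2 * ω : F) = phi hω (x4 1 3) from ((key 4 2).trans (by push_cast; ring)).symm)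
  · exact (show (2 + 1 * ω : F) = phi hω (x4 2 0) from ((key 2 1).trans (by push_cast; ring)).symm)
  · exact (show (3 + 4 * ω : F) = phi hω (x4 2 1) from ((key 3 4).trans (by push_cast; ring)).symm)
  · exact (show (1 + 1 * ω : F) = phi hω (x4 2 2) from ((key 1 1).trans (by push_cast; ring)).symm)
  · exact (show (4 + 3 * ω : F) = phi hω (x4 2 3) from ((key 4 3).trans (by push_cast; ring)).symm)
  · exact (show (3 + 2 * ω : F) = phi hω (x4 3 0) from ((key 3 2).trans (by push_cast; ring)).symm)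
  · exact (show (0 + 0 * ω : F) = phi hω (x4 3 1) from ((key 0 0).trans (by push_cast; ring)).symm)
  · exact (show (3 + 0 * ω : F) = phi hω (x4 3 2) from ((key 3 0).trans (by push_cast; ring)).symm)
  · exact (show (4 + 4 * ω : F) = phi hω (x4 3 3) from ((key 4 4).trans (by push_cast; ring)).symm)

end link

section main

variable {F : Type*} [Field F]

/-- conjugation -/
noncomputable def cjE (S : GL (Fin 2) F) : Matrix (Fin 2) (Fin 2) F ≃ₐ[F] Matrix (Fin 2) (Fin 2) F :=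
  AlgEquiv.ofAlgHom (Cfsg.Agent.H930.A7s.cj S) (Cfsg.Agent.H930.A7s.cj S⁻¹) (by
    ext1 A
    change ((S⁻¹ : GL (Fin 2) F) : Matrix (Fin 2) (Fin 2) F) * ((((S⁻¹)⁻¹ : GL (Fin 2) F) : Matrix (Fin 2) (Fin 2) F) * A *
      ((S⁻¹ : GL (Fin 2) F) : Matrix (Fin 2) (Fin 2) F)) * (S : Matrix (Fin 2) (Fin 2) F) = A
    rw [inv_inv]
    calc _ = (((S⁻¹ : GL (Fin 2) F) : Matrix (Fin 2) (Fin 2) F) * (S : Matrix (Fin 2) (Fin 2) F)) * A *
          (((S⁻¹ : GL (Fin 2) F) : Matrix (Fin 2) (Fin 2) F) * (S : Matrix (Fin 2) (Fin 2) F)) := by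
            simp only [Matrix.mul_assoc]
      _ = A := by rw [← Units.val_mul, inv_mul_cancel, Units.val_one, Matrix.one_mul, Matrix.mul_one]) (by
    ext1 A
    change (((S⁻¹)⁻¹ : GL (Fin 2) F) : Matrix (Fin 2) (Fin 2) F) * (((S⁻¹ : GL (Fin 2) F) : Matrix (Fin 2) (Fin 2) F) * A *
      (S : Matrix (Fin 2) (Fin 2) F)) * ((S⁻¹ : GL (Fin 2) F) : Matrix (Fin 2) (Fin 2) F) = A
    rw [inv_inv]
    calc _ = ((S : Matrix (Fin 2) (Fin 2) F) * ((S⁻¹ : GL (Fin 2) F) : Matrix (Fin 2) (Fin 2) F)) * A *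
          ((S : Matrix (Fin 2) (Fin 2) F) * ((S⁻¹ : GL (Fin 2) F) : Matrix (Fin 2) (Fin 2) F)) := by
            simp only [Matrix.mul_assoc]
      _ = A := by rw [← Units.val_mul, mul_inv_cancel, Units.val_one, Matrix.one_mul, Matrix.mul_one])

theorem cjE_of {S : GL (Fin 2) F} {X Y : Matrix (Fin 2) (Fin 2) F}
    (h : X * (S : Matrix (Fin 2) (Fin 2) F) = (S : Matrix (Fin 2) (Fin 2) F) * Y) : cjE S X = Y := by
  change ((S⁻¹ : GL (Fin 2) F) : Matrix (Fin 2) (Fin 2) F) * X * (S : Matrix (Fin 2) (Fin 2) F) = Y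
  rw [Matrix.mul_assoc, h, ← Matrix.mul_assoc, ← Units.val_mul, inv_mul_cancel, Units.val_one, Matrix.one_mul]

theorem map_a3 {R R' : Type*} [Ring R] [Ring R'] [Algebra F R] [Algebra F R'] (f : R ≃ₐ[F] R') (ω : F) :
    f.mapMatrix (a3 ω : Matrix (Fin 3) (Fin 3) R) = a3 ω := by
  ext i j
  rw [AlgEquiv.mapMatrix_apply, Matrix.map_apply, a3_apply, a3_apply]
  split_ifs
  · rw [map_smul, map_one]
  · exact map_zero f

theorem map_b3 {R R' : Type*} [Ring R] [Ring R'] [Algebra F R] [Algebra F R'] (f : R ≃ₐ[F] R') :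
    f.mapMatrix (b3 : Matrix (Fin 3) (Fin 3) R) = b3 := by
  ext i j
  rw [AlgEquiv.mapMatrix_apply, Matrix.map_apply, b3_apply, b3_apply]
  split_ifs
  · exact map_one f
  · exact map_zero f

theorem map_dg {R R' : Type*} [Ring R] [Ring R'] [Algebra F R] [Algebra F R'] (f : R ≃ₐ[F] R') (x y z : R) :
    f.mapMatrix (dg x y z) = dg (f x) (f y) (f z) := by
  ext i j
  rw [AlgEquiv.mapMatrix_apply, Matrix.map_apply]
  change f (if i = j then (if i = 0 then x else if i = 1 then y else z) else 0) =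
    (if i = j then (if i = 0 then f x else if i = 1 then f y else f z) else 0)
  split_ifs
  · rfl
  · rfl
  · rfl
  · exact map_zero f

theorem map_gm {R R' : Type*} [Ring R] [Ring R'] [Algebra F R] [Algebra F R'] (f : R ≃ₐ[F] R') (ω : F) (x : R) :
    f.mapMatrix (gm ω x) = gm ω (f x) := by
  ext i j
  rw [AlgEquiv.mapMatrix_apply, Matrix.map_apply]
  change f (ω ^ (2 * (i : ℕ) * (j : ℕ)) • x) = ω ^ (2 * (i : ℕ) * (j : ℕ)) • f x
  rw [map_smul]

theorem map_two (f : Matrix (Fin 2) (Fin 2) F ≃ₐ[F] Matrix (Fin 2) (Fin 2) F) (a b c d : Matrix (Fin 2) (Fin 2) F) :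
    f.mapMatrix !![a, b; c, d] = !![f a, f b; f c, f d] := by
  ext1 i j
  fin_cases i <;> fin_cases j <;> rfl

variable [CharP F 5] {ω : F} (hω : ω ^ 2 + ω + 1 = 0) {ι : Type*} [Fintype ι] [DecidableEq ι]

theorem map_d {S : GL (Fin 2) F} {c : F} {d : Matrix (Fin 2) (Fin 2) (Matrix (Fin 2) (Fin 2) F)} {x y z t : F}
    (h : c • d = !![x • 1, y • 1; z • 1, t • 1]) :
    c • (cjE S).mapMatrix d = !![x • 1, y • 1; z • 1, t • 1] := by
  rw [← map_smul, h, map_two, map_smul, map_smul, map_smul, map_smul, map_one]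

/-- **the tensor form** -/
theorem exists_tensor {a b k g : Matrix ι ι F}
    (ψ : Matrix ι ι F ≃ₐ[F] Matrix (Fin 3) (Fin 3) (Matrix (Fin 2) (Fin 2) (Matrix (Fin 2) (Fin 2) F)))
    {d₀ d₁ d₂ x : Matrix (Fin 2) (Fin 2) (Matrix (Fin 2) (Fin 2) F)} {X Z N : Matrix (Fin 2) (Fin 2) F}
    (ha : ψ a = a3 ω) (hb : ψ b = b3) (hk : ψ k = dg d₀ d₁ d₂) (hg : ψ g = gm ω x)
    (h₀ : (ω - ω ^ 2) • d₀ = !![(1 : F) • 1, (1 : F) • 1; (2 : F) • 1, (-1 : F) • 1])
    (h₁ : (ω - ω ^ 2) • d₁ = !![(1 : F) • 1, (ω : F) • 1; (2 * ω ^ 2 : F) • 1, (-1 : F) • 1])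
    (h₂ : (ω - ω ^ 2) • d₂ = !![(1 : F) • 1, (ω ^ 2 : F) • 1; (2 * ω : F) • 1, (-1 : F) • 1])
    (hx : x = !![X, Z * N; -((2 : F) • (N * Z)), (2 : F) • (N * X * N)]) {S : GL (Fin 2) F} {ε : F}
    (hX : X * (S : Matrix (Fin 2) (Fin 2) F) = (S : Matrix (Fin 2) (Fin 2) F) * (ε • Cfsg.Agent.H930.A7s.Xo))
    (hZ : Z * (S : Matrix (Fin 2) (Fin 2) F) = (S : Matrix (Fin 2) (Fin 2) F) * ((-ε) • Cfsg.Agent.H930.A7s.Zo ω))
    (hN : N * (S : Matrix (Fin 2) (Fin 2) F) =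
      (S : Matrix (Fin 2) (Fin 2) F) * ((3 * (2 * ω + 1)) • Cfsg.Agent.H930.A7s.No ω)) :
    ∃ (e : Fin 3 × Fin 4 ≃ ι) (u : GL ι F),
      a = (u : Matrix ι ι F) * kr e (Aa.map (phi hω)) (Ba.map (phi hω)) * ((u⁻¹ : GL ι F) : Matrix ι ι F) ∧
      b = (u : Matrix ι ι F) * kr e (Ab.map (phi hω)) (Bb.map (phi hω)) * ((u⁻¹ : GL ι F) : Matrix ι ι F) ∧
      k = (u : Matrix ι ι F) * kr e (Ak.map (phi hω)) (Bk.map (phi hω)) * ((u⁻¹ : GL ι F) : Matrix ι ι F) ∧
      g = ε • ((u : Matrix ι ι F) * kr e (Ag.map (phi hω)) (Bg.map (phi hω)) * ((u⁻¹ : GL ι F) : Matrix ι ι F)) := by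
  have cX := cjE_of hX
  have cZ := cjE_of hZ
  have cN := cjE_of hN
  have hfx : (cjE S).mapMatrix x = ε • xo ω := by
    rw [hx, map_two, map_neg, map_smul, map_smul, map_mul, map_mul, map_mul, map_mul, cX, cZ, cN]
    unfold xo
    ext1 i j
    fin_cases i <;> fin_cases j
    · rfl
    · change ((-ε) • Cfsg.Agent.H930.A7s.Zo ω) * (_ : Matrix (Fin 2) (Fin 2) F) =
        ε • (((-1 : F) • Cfsg.Agent.H930.A7s.Zo ω) * (_ : Matrix (Fin 2) (Fin 2) F))
      rw [smul_mul_assoc, smul_mul_assoc, smul_smul]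
      congr 1
      ring
    · change -((2 : F) • ((_ : Matrix (Fin 2) (Fin 2) F) * ((-ε) • Cfsg.Agent.H930.A7s.Zo ω))) =
        ε • -((2 : F) • ((_ : Matrix (Fin 2) (Fin 2) F) * ((-1 : F) • Cfsg.Agent.H930.A7s.Zo ω)))
      rw [mul_smul_comm, mul_smul_comm, smul_smul, smul_smul, smul_neg, smul_smul]
      congr 2
      ring
    · change (2 : F) • (((_ : Matrix (Fin 2) (Fin 2) F) * (ε • Cfsg.Agent.H930.A7s.Xo)) * (_ : Matrix (Fin 2) (Fin 2) F)) =
        ε • ((2 : F) • (((_ : Matrix (Fin 2) (Fin 2) F) * Cfsg.Agent.H930.A7s.Xo) * (_ : Matrix (Fin 2) (Fin 2) F)))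
      simp only [mul_smul_comm, smul_mul_assoc, smul_smul]
      congr 1
      ring
  let Ψ : Matrix ι ι F ≃ₐ[F] Matrix N12 N12 F := ψ.trans ((cjE S).mapMatrix.mapMatrix.trans unc)
  have Ψa : Ψ a = Va.map (phi hω) := by
    change unc ((cjE S).mapMatrix.mapMatrix (ψ a)) = _
    rw [ha, map_a3, unc_a3 hω]
  have Ψb : Ψ b = Vb.map (phi hω) := by
    change unc ((cjE S).mapMatrix.mapMatrix (ψ b)) = _
    rw [hb, map_b3, unc_b3 hω]
  have Ψk : Ψ k = Vk.map (phi hω) := by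
    change unc ((cjE S).mapMatrix.mapMatrix (ψ k)) = _
    rw [hk, map_dg]
    exact unc_dg hω (d0_eq hω (map_d h₀)) (d1_eq hω (map_d h₁)) (d2_eq hω (map_d h₂))
  have Ψg : Ψ g = ε • Vg.map (phi hω) := by
    change unc ((cjE S).mapMatrix.mapMatrix (ψ g)) = _
    rw [hg, map_gm, hfx, ← unc_gm hω (xo_entry hω), ← map_smul]
    congr 1
    ext1 i j
    change ω ^ (2 * (i : ℕ) * (j : ℕ)) • ε • xo ω = ε • ω ^ (2 * (i : ℕ) * (j : ℕ)) • xo ω
    rw [smul_comm]
  obtain ⟨e, u, hu⟩ := exists_conj_alg Ψ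
  let GE : GL ι F := ⟨Matrix.reindex e e (GF hω : Matrix N12 N12 F), Matrix.reindex e e ((GF hω)⁻¹ : GL N12 F), by
    rw [Matrix.reindex_apply, Matrix.reindex_apply, Matrix.submatrix_mul_equiv, ← Units.val_mul, mul_inv_cancel]
    exact Matrix.submatrix_one_equiv _, by
    rw [Matrix.reindex_apply, Matrix.reindex_apply, Matrix.submatrix_mul_equiv, ← Units.val_mul, inv_mul_cancel]
    exact Matrix.submatrix_one_equiv _⟩
  have key : ∀ {V : Matrix N12 N12 Ra} {A : Matrix (Fin 3) (Fin 3) Ra} {B : Matrix (Fin 4) (Fin 4) Ra},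
      V * G = G * (A ⊗ₖ B) → (u : Matrix ι ι F) * Matrix.reindex e e (V.map (phi hω)) * ((u⁻¹ : GL ι F) : Matrix ι ι F) =
        ((u * GE : GL ι F) : Matrix ι ι F) * kr e (A.map (phi hω)) (B.map (phi hω)) *
          (((u * GE)⁻¹ : GL ι F) : Matrix ι ι F) := by
    intro V A B h
    have h1 : Matrix.reindex e e (V.map (phi hω)) = (GE : Matrix ι ι F) * kr e (A.map (phi hω)) (B.map (phi hω)) *
        ((GE⁻¹ : GL ι F) : Matrix ι ι F) := by
      rw [fact hω h]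
      change _ = Matrix.reindex e e _ * Matrix.reindex e e _ * Matrix.reindex e e _
      rw [Matrix.reindex_apply, Matrix.reindex_apply, Matrix.reindex_apply, Matrix.reindex_apply,
        Matrix.submatrix_mul_equiv, Matrix.submatrix_mul_equiv]
    rw [h1, _root_.mul_inv_rev, Units.val_mul, Units.val_mul]
    simp only [Matrix.mul_assoc]
  refine ⟨e, u * GE, ?_, ?_, ?_, ?_⟩
  · rw [← key ea, ← Ψa]
    exact hu a
  · rw [← key eb, ← Ψb]
    exact hu b
  · rw [← key ek, ← Ψk]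
    exact hu k
  · rw [← key eg]
    have h1 := hu g
    rw [Ψg] at h1
    have h2 : Matrix.reindex e e (ε • Vg.map (phi hω)) = ε • Matrix.reindex e e (Vg.map (phi hω)) := rfl
    rw [h2, mul_smul_comm, smul_mul_assoc] at h1
    exact h1

end main

end Cfsg.Agent.H108.TK.Five
end

-- part: H108/TK/A7
section
/-!
# `3.A₇` and `6.A₇`: no outer automorphisms (helper108)

`cover_A7` : if `P` is a core with `P / scalars ≅ A₇` containing scalars of order three and `H` normalises `P`, then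
`H ≤ P · scalars` (the generic form of helper890's argument for `n = 6`).
`kill_A7_SU` : the tensor kill for `P / scalars ≅ A₇`.
-/

set_option autoImplicit false
set_option linter.unusedSectionVars false

namespace Cfsg.Agent.H108.TK

open Cfsg Cfsg.Geo Matrix Cfsg.Agent.H913.N6
open Equiv Equiv.Perm
open Cfsg.Agent.H915.LD (Core Soc toSoc tr core_of_residual)

/-- `(0 1 2)` -/
def t3 : alternatingGroup (Fin 7) := ⟨c[0, 1, 2], mem_alternatingGroup.2 (by decide)⟩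
/-- `(3 4 5)` -/
def t3' : alternatingGroup (Fin 7) := ⟨c[3, 4, 5], mem_alternatingGroup.2 (by decide)⟩

/-- `(i, j) ↦ t3 ^ i * t3' ^ j` -/
def f9 : Multiplicative (ZMod 3 × ZMod 3) →* alternatingGroup (Fin 7) :=
  MonoidHom.mk' (fun x => t3 ^ (x.toAdd.1).val * t3' ^ (x.toAdd.2).val) (by decide +kernel)

theorem f9_injective : Function.Injective f9 := by
  rw [injective_iff_map_eq_one]
  decide +kernel

theorem index_f9 : f9.range.index = 280 := by
  have h1 : Nat.card f9.range = 9 := by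
    rw [← Nat.card_congr (MonoidHom.ofInjective f9_injective).toEquiv]
    show Nat.card (ZMod 3 × ZMod 3) = 9
    rw [Nat.card_prod, Nat.card_zmod]
  have h2 := f9.range.card_mul_index
  rw [h1, nat_card_alternatingGroup, Nat.card_eq_fintype_card, Fintype.card_fin] at h2
  have h3 : Nat.factorial 7 / 2 = 9 * 280 := by decide
  rw [h3] at h2
  exact Nat.eq_of_mul_eq_mul_left (by norm_num) h2

theorem L_congr {ι : Type} [Fintype ι] [DecidableEq ι] {F : Type*} [Field F] {P : Subgroup (GL ι F)} {T : Type*}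
    [Group T] {C : Cov P T} {x : GL ι F} {σ τ : T} (h : C.L x σ) (e : σ = τ) : C.L x τ := e ▸ h

variable {ι : Type} [Fintype ι] [DecidableEq ι] {F : Type*} [Field F] {P H : Subgroup (GL ι F)}
  {C : Cov P (alternatingGroup (Fin 7))}

/-- the lifts of the two `3`-cycles do not commute -/
theorem not_comm [Finite F] [Nonempty ι] (hC : Core P) (hz : ∃ c : Fˣ, c ≠ 1 ∧ c ^ 3 = 1 ∧ sc c ∈ P) {a b : GL ι F}
    (La : C.L a t3) (Lb : C.L b t3') : a * b ≠ b * a := by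
  intro hab
  obtain ⟨c, hc1, hc3, hc⟩ := hz
  have hcomm : Commute a b := hab
  let S : Subgroup P := f9.range.comap C.π
  have hS : ∀ x ∈ S, ∀ y ∈ S, x * y = y * x := by
    have form : ∀ x ∈ S, ∃ (d : Fˣ) (i j : ℕ), (x : GL ι F) = sc d * (a ^ i * b ^ j) := by
      intro x hx
      obtain ⟨m, hm⟩ := hx
      have h1 : C.L (x : GL ι F) (t3 ^ (m.toAdd.1).val * t3' ^ (m.toAdd.2).val) := ⟨x.2, hm.symm⟩
      have h2 := (La.pow (m.toAdd.1).val).mul (Lb.pow (m.toAdd.2).val)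
      obtain ⟨d, -, hd⟩ := h1.exists_sc h2
      exact ⟨d, _, _, hd⟩
    intro x hx y hy
    obtain ⟨d, i, j, h1⟩ := form x hx
    obtain ⟨d', i', j', h2⟩ := form y hy
    apply Subtype.ext
    rw [Subgroup.coe_mul, Subgroup.coe_mul, h1, h2]
    have e1 : Commute (a ^ i * b ^ j) (a ^ i' * b ^ j') := by
      apply Commute.mul_left
      · exact Commute.mul_right (Commute.pow_pow (Commute.refl a) _ _) (hcomm.pow_pow _ _)
      · exact Commute.mul_right (hcomm.symm.pow_pow _ _) (Commute.pow_pow (Commute.refl b) _ _)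
    have e2 : ∀ (e : Fˣ) (z : GL ι F), Commute (sc e) z := fun e z => sc_comm e z
    exact ((e2 d _).mul_left ((e2 d' _).symm.mul_right e1)).eq
  have hzS : (⟨sc c, hc⟩ : P) ∈ S := by
    show C.π _ ∈ f9.range
    rw [(C.ker ⟨sc c, hc⟩).2 (sc_mem_scalars c)]
    exact one_mem _
  have h1 := pow_index_mem hC.commutator_top S hS hzS (fun x => Subtype.ext (sc_comm c (x : GL ι F)))
  have h2 : S.index = 280 := by
    rw [← index_f9]
    exact Subgroup.index_comap_of_surjective _ C.surj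
  rw [h2] at h1
  have h3 : sc (c ^ 280) = (1 : GL ι F) := by
    rw [sc_pow]
    exact congrArg Subtype.val h1
  rw [← sc_one] at h3
  have h4 := sc_inj h3
  apply hc1
  have h6 : c ^ 280 = (c ^ 3) ^ 93 * c := by rw [← pow_mul, ← pow_succ]
  rw [h6, hc3, one_pow, one_mul] at h4
  exact h4

/-- a scalar of order three -/
theorem exists_three [Finite F] (h : 3 ∣ Nat.card ((scalars ι F).subgroupOf P)) :
    ∃ c : Fˣ, c ≠ 1 ∧ c ^ 3 = 1 ∧ (sc c : GL ι F) ∈ P := by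
  obtain ⟨z, hz⟩ := exists_prime_orderOf_dvd_card' 3 h
  obtain ⟨c, hc⟩ := mem_scalars.1 (Subgroup.mem_subgroupOf.1 z.2)
  have hz3 : z ^ 3 = 1 := by rw [← hz]; exact pow_orderOf_eq_one z
  have hz1 : z ≠ 1 := by
    rintro rfl
    rw [orderOf_one] at hz
    norm_num at hz
  have e1 : (sc c : GL ι F) ^ 3 = 1 := by
    rw [← hc]
    exact congrArg (fun x : (scalars ι F).subgroupOf P => ((x : P) : GL ι F)) hz3
  have hne : Nonempty ι := by
    by_contra hcon
    rw [not_nonempty_iff] at hcon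
    exact hz1 (Subtype.ext (Subtype.ext (Units.ext (Matrix.ext fun i => (hcon.false i).elim))))
  refine ⟨c, ?_, ?_, ?_⟩
  · rintro rfl
    apply hz1
    apply Subtype.ext
    apply Subtype.ext
    rw [hc, sc_one]
    rfl
  · rw [← sc_pow, ← sc_one] at e1
    exact sc_inj e1
  · rw [← hc]
    exact (z : P).2

theorem cube_comm {G : Type*} [Group G] {a b s : G} (hs : ∀ y, s * y = y * s) (h : a * b = s * (b * a)) :
    a ^ 3 * b = s ^ 3 * (b * a ^ 3) := by
  have h1 : b⁻¹ * a * b = s * a := by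
    rw [mul_assoc, h, ← mul_assoc, ← hs b⁻¹]
    group
  have h2 : b⁻¹ * a ^ 3 * b = s ^ 3 * a ^ 3 := by
    rw [← (show Commute s a from hs a).mul_pow, ← h1]
    have := conj_pow (i := 3) (a := b⁻¹) (b := a)
    rw [inv_inv] at this
    exact this.symm
  calc a ^ 3 * b = b * (b⁻¹ * a ^ 3 * b) := by group
    _ = b * (s ^ 3 * a ^ 3) := by rw [h2]
    _ = s ^ 3 * (b * a ^ 3) := by
      rw [← mul_assoc, ← mul_assoc, ((show Commute s b from hs b).pow_left 3).eq]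

/-- **no outer automorphisms** -/
theorem cover_A7 [Finite F] [Nonempty ι] (hH : IsResidualCore H P) (C : Cov P (alternatingGroup (Fin 7)))
    (hz : ∃ c : Fˣ, c ≠ 1 ∧ c ^ 3 = 1 ∧ sc c ∈ P) {x : GL ι F} (hx : x ∈ H) :
    ∃ y ∈ P, ∃ s ∈ scalars ι F, x = y * s := by
  have hC : Core P := core_of_residual hH
  have hxi : ∀ y ∈ P, x⁻¹ * y * x ∈ P := by
    intro y hy
    have := hH.normal x⁻¹ (inv_mem hx) y hy
    rwa [inv_inv] at this
  obtain ⟨φ, hφ⟩ := Cov.exists_aut C (hH.normal x hx) hxi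
  obtain ⟨σ, hσ⟩ := Cfsg.Agent.StandardComponent.AltAut.exists_conj (m := 5) le_rfl φ
  rcases Int.units_eq_one_or (sign σ) with hs | hs
  · obtain ⟨y, c, hy, hc⟩ := Cov.mem_of_inner (C := C) (h := x) (φ := φ)
      (fun g hg hcs => hH.centralizer_scalar _ (mul_mem (inv_mem (hH.le hg)) hx) hcs) hφ (γ := ⟨σ, hs⟩)
      (fun τ => Subtype.ext (hσ τ))
    exact ⟨y, hy.mem, _, sc_mem_scalars c, hc⟩
  · exfalso
    obtain ⟨a, La⟩ := C.exists_lift t3
    obtain ⟨b, Lb⟩ := C.exists_lift t3'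
    have hnc := not_comm hC hz La Lb
    have h33 : t3 * t3' = t3' * t3 := by decide
    obtain ⟨w, hwP, hab⟩ := (La.mul Lb).exists_sc (L_congr (Lb.mul La) h33.symm)
    have hw1 : w ≠ 1 := by
      rintro rfl
      apply hnc
      rw [hab, sc_one, one_mul]
    have hw3 : w ^ 3 = 1 := by
      have h1 : C.L (a ^ 3) 1 := L_congr (La.pow 3) (by decide)
      obtain ⟨-, d, hd⟩ := Cov.L.one_iff.1 h1
      have h2 : a ^ 3 * b = sc (w ^ 3) * (b * a ^ 3) := by
        rw [sc_pow]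
        exact cube_comm (fun y => sc_comm w y) hab
      rw [hd, sc_comm d b] at h2
      have h3 : sc (w ^ 3) = (1 : GL ι F) := by
        have := mul_right_cancel (a := (1 : GL ι F)) (b := b * sc d) (c := sc (w ^ 3)) (by rw [one_mul]; exact h2)
        exact this.symm
      rw [← sc_one] at h3
      exact sc_inj h3
    have hmem : _root_.Equiv.swap 0 1 * σ⁻¹ ∈ alternatingGroup (Fin 7) := by
      rw [mem_alternatingGroup, map_mul, map_inv, hs, sign_swap (by decide)]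
      decide
    obtain ⟨y, hy⟩ := C.exists_lift ⟨_root_.Equiv.swap 0 1 * σ⁻¹, hmem⟩
    have key : ∀ u τ, C.L u τ → ∀ τ' : alternatingGroup (Fin 7), (τ' : Perm (Fin 7)) =
        _root_.Equiv.swap 0 1 * (τ : Perm (Fin 7)) * (_root_.Equiv.swap 0 1)⁻¹ →
        C.L ((y * x) * u * (y * x)⁻¹) τ' := by
      intro u τ hu τ' hτ'
      have h1 := (hφ u τ hu).conj hy
      have e : y * (x * u * x⁻¹) * y⁻¹ = (y * x) * u * (y * x)⁻¹ := by group
      rw [e] at h1
      refine L_congr h1 (Subtype.ext ?_)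
      rw [hτ']
      show _root_.Equiv.swap 0 1 * σ⁻¹ * (φ τ : Perm (Fin 7)) * (_root_.Equiv.swap 0 1 * σ⁻¹)⁻¹ = _
      rw [hσ]
      group
    have h1 := key a t3 La t3⁻¹ (by decide)
    have h2 := key b t3' Lb t3' (by decide)
    obtain ⟨c₁, -, hc₁⟩ := h1.exists_sc La.inv
    obtain ⟨c₂, -, hc₂⟩ := h2.exists_sc Lb
    have h4 : (y * x) * (a * b) * (y * x)⁻¹ = sc w * ((y * x) * (b * a) * (y * x)⁻¹) := by
      rw [hab, ← mul_assoc (y * x) (sc w), ← sc_comm]; group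
    have h5 : (y * x) * (a * b) * (y * x)⁻¹ = (sc c₁ * a⁻¹) * (sc c₂ * b) := by rw [← hc₁, ← hc₂]; group
    have h6 : (y * x) * (b * a) * (y * x)⁻¹ = (sc c₂ * b) * (sc c₁ * a⁻¹) := by rw [← hc₁, ← hc₂]; group
    rw [h5, h6] at h4
    have h7 : a⁻¹ * b = sc w * (b * a⁻¹) := by
      have e1 : (sc c₁ * a⁻¹) * (sc c₂ * b) = (sc c₁ * sc c₂) * (a⁻¹ * b) := by
        rw [mul_assoc, ← mul_assoc a⁻¹, ← sc_comm c₂ a⁻¹]; group
      have e2 : sc w * ((sc c₂ * b) * (sc c₁ * a⁻¹)) = (sc c₁ * sc c₂) * (sc w * (b * a⁻¹)) := by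
        rw [mul_assoc (sc c₂) b, ← mul_assoc b, ← sc_comm c₁ b, sc_comm c₁ (sc c₂)]
        rw [← mul_assoc (sc w), ← mul_assoc (sc w * sc c₂), sc_comm w (sc c₂)]
        rw [mul_assoc (sc c₂) (sc w), ← mul_assoc (sc w) (sc c₁), sc_comm w (sc c₁)]
        group
      rw [e1, e2] at h4
      exact mul_left_cancel h4
    have h8 : b * a = sc w * (a * b) := by
      calc b * a = a * (a⁻¹ * b) * a := by group
        _ = a * (sc w * (b * a⁻¹)) * a := by rw [h7]
        _ = sc w * (a * b) := by rw [← mul_assoc a, ← sc_comm w a]; group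
    rw [hab, ← mul_assoc, ← sc_mul] at h8
    have h9 : sc (w * w) = (1 : GL ι F) := by
      have := mul_right_cancel (a := (1 : GL ι F)) (b := b * a) (c := sc (w * w)) (by rw [one_mul]; exact h8)
      exact this.symm
    rw [← sc_one] at h9
    have h10 := sc_inj h9
    apply hw1
    have h11 : w ^ 3 = w * w * w := by rw [pow_succ, sq]
    rw [h10, one_mul] at h11
    rw [← h11, hw3]

end Cfsg.Agent.H108.TK
end

-- part: H108/TK/Form
section
/-!
# Tensor kill with arbitrary Hermitian forms (helper108)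

`TU e hF J₁ J₂ g` : the matrices `g (a ⊗ b) g⁻¹` with `a`, `b` preserving the Hermitian matrices `J₁`, `J₂`.
`kill_TU` : tensor kill. `kill_A7_SU` : the case `P / scalars ≅ A₇`, `3 ∣ |scalars|`, in terms of generators.
-/

set_option autoImplicit false
set_option linter.unusedSectionVars false

namespace Cfsg.Agent.H108.TK

open Cfsg Cfsg.Geo Matrix Cfsg.Agent.H913.N6
open Cfsg.Agent.LieClassical.HermBasic
open Cfsg.Agent.H108.Nine (sg sg_apply map_map_sg sg_sg)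
open Cfsg.Agent.H915.LD (Core Soc toSoc tr core_of_residual)

variable {F : Type*} [Field F] [Fintype F] {q : ℕ} {m k n : ℕ}

/-- A non-degenerate Hermitian matrix: its isometries are conjugate to unitary matrices. -/
theorem exists_conj_GU (hF : Fintype.card F = q ^ 2) {J : Matrix (Fin m) (Fin m) F}
    (hJ : (J.map (sg hF))ᵀ = J) (hJ0 : J.det ≠ 0) : ∃ T : GL (Fin m) F, ∀ x : GL (Fin m) F,
      (x : Matrix (Fin m) (Fin m) F)ᵀ * J * (x : Matrix (Fin m) (Fin m) F).map (sg hF) = J →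
      T⁻¹ * x * T ∈ GU m F q := by
  obtain ⟨A, hA⟩ : ∃ A : GL (Fin m) F, (A : Matrix (Fin m) (Fin m) F) = J :=
    (Matrix.isUnit_iff_isUnit_det _).2 (isUnit_iff_ne_zero.2 hJ0)
  have hne : conj hF ≠ RingEquiv.refl F := by
    intro h
    obtain ⟨x, hx⟩ := exists_not_fixed hF
    exact hx (DFunLike.congr_fun h x)
  obtain ⟨H, hH⟩ := Cfsg.Agent.S2697.exists_herm hne (pow_q_pow_q hF) A (by rw [hA]; exact hJ)
  have hJH : J = (H : Matrix (Fin m) (Fin m) F) * ((H : Matrix (Fin m) (Fin m) F).map (sg hF))ᵀ := by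
    rw [← hA, hH, Units.val_mul]
    rfl
  obtain ⟨K, hK⟩ : ∃ K : GL (Fin m) F, (K : Matrix (Fin m) (Fin m) F) = (H : Matrix (Fin m) (Fin m) F)ᵀ :=
    ⟨(Cfsg.Agent.H966.PSLAut.ctr H)⁻¹, rfl⟩
  refine ⟨K⁻¹, fun x hx => ?_⟩
  rw [inv_inv]
  apply mem_GU_of_un hF
  have hKJ : J = (K : Matrix (Fin m) (Fin m) F)ᵀ * (K : Matrix (Fin m) (Fin m) F).map (sg hF) := by
    rw [hJH, hK]
    rfl
  have h1 : (K : Matrix (Fin m) (Fin m) F) * ((K⁻¹ : GL (Fin m) F) : Matrix (Fin m) (Fin m) F) = 1 := by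
    rw [← Units.val_mul, mul_inv_cancel, Units.val_one]
  have h2 : ((K⁻¹ : GL (Fin m) F) : Matrix (Fin m) (Fin m) F)ᵀ * (K : Matrix (Fin m) (Fin m) F)ᵀ = 1 := by
    rw [← Matrix.transpose_mul, h1, Matrix.transpose_one]
  have h3 : (K : Matrix (Fin m) (Fin m) F).map (sg hF) * ((K⁻¹ : GL (Fin m) F) : Matrix (Fin m) (Fin m) F).map (sg hF) = 1 := by
    rw [← Matrix.map_mul, h1, Matrix.map_one _ (map_zero _) (map_one _)]
  calc ((K * x * K⁻¹ : GL (Fin m) F) : Matrix (Fin m) (Fin m) F)ᵀ *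
        ((K * x * K⁻¹ : GL (Fin m) F) : Matrix (Fin m) (Fin m) F).map (sg hF)
      = ((K⁻¹ : GL (Fin m) F) : Matrix (Fin m) (Fin m) F)ᵀ * ((x : Matrix (Fin m) (Fin m) F)ᵀ *
          ((K : Matrix (Fin m) (Fin m) F)ᵀ * (K : Matrix (Fin m) (Fin m) F).map (sg hF)) *
          (x : Matrix (Fin m) (Fin m) F).map (sg hF)) * ((K⁻¹ : GL (Fin m) F) : Matrix (Fin m) (Fin m) F).map (sg hF) := by
        rw [Units.val_mul, Units.val_mul, Matrix.transpose_mul, Matrix.transpose_mul, Matrix.map_mul, Matrix.map_mul]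
        simp only [Matrix.mul_assoc]
    _ = ((K⁻¹ : GL (Fin m) F) : Matrix (Fin m) (Fin m) F)ᵀ * ((K : Matrix (Fin m) (Fin m) F)ᵀ *
          (K : Matrix (Fin m) (Fin m) F).map (sg hF)) * ((K⁻¹ : GL (Fin m) F) : Matrix (Fin m) (Fin m) F).map (sg hF) := by
        rw [← hKJ, hx]
    _ = (((K⁻¹ : GL (Fin m) F) : Matrix (Fin m) (Fin m) F)ᵀ * (K : Matrix (Fin m) (Fin m) F)ᵀ) *
          ((K : Matrix (Fin m) (Fin m) F).map (sg hF) * ((K⁻¹ : GL (Fin m) F) : Matrix (Fin m) (Fin m) F).map (sg hF)) := by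
        simp only [Matrix.mul_assoc]
    _ = 1 := by rw [h2, h3, Matrix.one_mul]

/-- the isometries of a sesquilinear form -/
def isom (hF : Fintype.card F = q ^ 2) (J : Matrix (Fin m) (Fin m) F) : Subgroup (GL (Fin m) F) where
  carrier := {x | (x : Matrix (Fin m) (Fin m) F)ᵀ * J * (x : Matrix (Fin m) (Fin m) F).map (sg hF) = J}
  one_mem' := by
    change ((1 : GL (Fin m) F) : Matrix (Fin m) (Fin m) F)ᵀ * J *
      ((1 : GL (Fin m) F) : Matrix (Fin m) (Fin m) F).map (sg hF) = J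
    rw [Units.val_one, Matrix.transpose_one, Matrix.one_mul, Matrix.map_one _ (map_zero _) (map_one _), Matrix.mul_one]
  mul_mem' := by
    intro x y (hx : _ = _) (hy : _ = _)
    change ((x * y : GL (Fin m) F) : Matrix (Fin m) (Fin m) F)ᵀ * J *
      ((x * y : GL (Fin m) F) : Matrix (Fin m) (Fin m) F).map (sg hF) = J
    rw [Units.val_mul, Matrix.transpose_mul, Matrix.map_mul]
    calc _ = (y : Matrix (Fin m) (Fin m) F)ᵀ * ((x : Matrix (Fin m) (Fin m) F)ᵀ * J *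
          (x : Matrix (Fin m) (Fin m) F).map (sg hF)) * (y : Matrix (Fin m) (Fin m) F).map (sg hF) := by
          simp only [Matrix.mul_assoc]
      _ = J := by rw [hx, hy]
  inv_mem' := by
    intro x (hx : _ = _)
    change ((x⁻¹ : GL (Fin m) F) : Matrix (Fin m) (Fin m) F)ᵀ * J *
      ((x⁻¹ : GL (Fin m) F) : Matrix (Fin m) (Fin m) F).map (sg hF) = J
    have h1 : (x : Matrix (Fin m) (Fin m) F) * ((x⁻¹ : GL (Fin m) F) : Matrix (Fin m) (Fin m) F) = 1 := by
      rw [← Units.val_mul, mul_inv_cancel, Units.val_one]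
    have h2 : ((x⁻¹ : GL (Fin m) F) : Matrix (Fin m) (Fin m) F)ᵀ * (x : Matrix (Fin m) (Fin m) F)ᵀ = 1 := by
      rw [← Matrix.transpose_mul, h1, Matrix.transpose_one]
    have h3 : (x : Matrix (Fin m) (Fin m) F).map (sg hF) * ((x⁻¹ : GL (Fin m) F) : Matrix (Fin m) (Fin m) F).map (sg hF) = 1 := by
      rw [← Matrix.map_mul, h1, Matrix.map_one _ (map_zero _) (map_one _)]
    calc _ = ((x⁻¹ : GL (Fin m) F) : Matrix (Fin m) (Fin m) F)ᵀ * ((x : Matrix (Fin m) (Fin m) F)ᵀ * J *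
          (x : Matrix (Fin m) (Fin m) F).map (sg hF)) * ((x⁻¹ : GL (Fin m) F) : Matrix (Fin m) (Fin m) F).map (sg hF) := by
          rw [hx]
      _ = (((x⁻¹ : GL (Fin m) F) : Matrix (Fin m) (Fin m) F)ᵀ * (x : Matrix (Fin m) (Fin m) F)ᵀ) * J *
          ((x : Matrix (Fin m) (Fin m) F).map (sg hF) * ((x⁻¹ : GL (Fin m) F) : Matrix (Fin m) (Fin m) F).map (sg hF)) := by
          simp only [Matrix.mul_assoc]
      _ = J := by rw [h2, h3, Matrix.one_mul, Matrix.mul_one]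

theorem mem_isom {hF : Fintype.card F = q ^ 2} {J : Matrix (Fin m) (Fin m) F} {x : GL (Fin m) F} :
    x ∈ isom hF J ↔ (x : Matrix (Fin m) (Fin m) F)ᵀ * J * (x : Matrix (Fin m) (Fin m) F).map (sg hF) = J := Iff.rfl

variable (e : Fin m × Fin k ≃ Fin n)

/-- the tensor product of two groups, in the coordinates `g` -/
def TG {ι κ ν : Type} [Fintype ι] [Fintype κ] [Fintype ν] [DecidableEq ι] [DecidableEq κ] [DecidableEq ν]
    (e : ι × κ ≃ ν) (A : Subgroup (GL ι F)) (B : Subgroup (GL κ F)) (g : GL ν F) : Subgroup (GL ν F) where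
  carrier := {x | ∃ a ∈ A, ∃ b ∈ B, x = g * krGL e a b * g⁻¹}
  one_mem' := ⟨1, A.one_mem, 1, B.one_mem, by rw [krGL_one, mul_one, mul_inv_cancel]⟩
  mul_mem' := by
    rintro _ _ ⟨a, ha, b, hb, rfl⟩ ⟨a', ha', b', hb', rfl⟩
    refine ⟨a * a', A.mul_mem ha ha', b * b', B.mul_mem hb hb', ?_⟩
    rw [krGL_mul]
    group
  inv_mem' := by
    rintro _ ⟨a, ha, b, hb, rfl⟩
    refine ⟨a⁻¹, A.inv_mem ha, b⁻¹, B.inv_mem hb, ?_⟩
    rw [← krGL_inv]
    group

/-- scalar matrices -/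
theorem sc_mem_TG (hF : Fintype.card F = q ^ 2) (hn : n ≠ 0) {J₁ : Matrix (Fin m) (Fin m) F}
    {B : Subgroup (GL (Fin k) F)} {g : GL (Fin n) F} {c : Fˣ} (hc : (sc c : GL (Fin n) F) ∈ GU n F q) :
    sc c ∈ TG e (isom hF J₁) B g := by
  have hnn : NeZero n := ⟨hn⟩
  have h1 := un_of_mem_GU hF hc
  have h2 : (c : F) * sg hF c = 1 := by
    have h3 := congrFun (congrFun h1 0) 0
    rw [coe_sc, Matrix.transpose_smul, Matrix.transpose_one, Matrix.smul_mul, Matrix.one_mul, Matrix.smul_apply,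
      Matrix.map_apply, Matrix.smul_apply, Matrix.one_apply_eq, smul_eq_mul, smul_eq_mul, mul_one] at h3
    exact h3
  refine ⟨sc c, ?_, 1, B.one_mem, ?_⟩
  · rw [mem_isom, coe_sc, Matrix.transpose_smul, Matrix.transpose_one, Matrix.smul_mul, Matrix.one_mul]
    have e1 : ((c : F) • (1 : Matrix (Fin m) (Fin m) F)).map (sg hF) = (sg hF c) • 1 := by
      ext i j
      simp only [Matrix.map_apply, Matrix.smul_apply, smul_eq_mul, map_mul, Matrix.one_apply]
      split_ifs <;> simp only [_root_.RingHom.coe_coe, _root_.map_one, _root_.mul_one, _root_.map_zero, _root_.MulZeroClass.mul_zero]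
    rw [e1, Matrix.mul_smul, Matrix.mul_one, smul_smul, mul_comm, h2, one_smul]
  · have h4 : krGL e (sc c) 1 = (sc c : GL (Fin n) F) := by
      apply Units.ext
      rw [coe_krGL, coe_sc, coe_sc, Units.val_one, kr_smul_left, kr_one]
    rw [h4, ← sc_comm, mul_inv_cancel_right]

/-- **Tensor kill with forms.** -/
theorem kill_TU (hF : Fintype.card F = q ^ 2) (hm : 3 ≤ m) (hk : 2 ≤ k) {H P : Subgroup (GL (Fin n) F)}
    (hc : IsResidualCore H P) (hH : IsMaximalIn (GU n F q ⊓ specialLinear (Fin n) F) H) {g : GL (Fin n) F}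
    {J₁ : Matrix (Fin m) (Fin m) F} {J₂ : Matrix (Fin k) (Fin k) F}
    (hJ₁ : (J₁.map (sg hF))ᵀ = J₁) (hJ₁0 : J₁.det ≠ 0) (hJ₂ : (J₂.map (sg hF))ᵀ = J₂) (hJ₂0 : J₂.det ≠ 0)
    (hHP : ∀ h ∈ H, ∃ x ∈ P, ∃ s ∈ scalars (Fin n) F, h = x * s)
    (hP : P ≤ TG e (isom hF J₁) (isom hF J₂) g) : False := by
  obtain ⟨S, hS⟩ := exists_conj_GU hF hJ₁ hJ₁0
  obtain ⟨T, hT⟩ := exists_conj_GU hF hJ₂ hJ₂0
  have key : ∀ x ∈ P, ∃ a ∈ GU m F q, ∃ b ∈ GU k F q, x = (g * krGL e S T) * krGL e a b * (g * krGL e S T)⁻¹ := by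
    intro x hx
    obtain ⟨a, ha, b, hb, rfl⟩ := hP hx
    refine ⟨_, hS a ha, _, hT b hb, ?_⟩
    rw [krGL_mul, krGL_mul, ← krGL_inv]
    group
  exact kill_SU e hF hm hk hc hH (g * krGL e S T)
    (tensor_of_cover e _ hHP fun x hx => by
      obtain ⟨a, -, b, -, h⟩ := key x hx
      exact ⟨a, b, h⟩) key

/-- lifts of generators and the scalars of `P` generate `P` -/
theorem le_of_gens {ι : Type} [Fintype ι] [DecidableEq ι] {P : Subgroup (GL ι F)} {T : Type*} [Group T]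
    (C : Cov P T) {S : Set T} (hS : Subgroup.closure S = ⊤)
    {Y : Subgroup (GL ι F)} (hY : ∀ s ∈ S, ∃ y ∈ Y, C.L y s) (hsc : ∀ c, sc c ∈ P → sc c ∈ Y) : P ≤ Y := by
  have key : ∀ σ : T, ∃ y ∈ Y, C.L y σ := by
    intro σ
    have h1 : σ ∈ Subgroup.closure S := by rw [hS]; exact Subgroup.mem_top _
    induction h1 using Subgroup.closure_induction with
    | mem x hx => exact hY x hx
    | one => exact ⟨1, one_mem Y, Cov.L.one⟩
    | mul x y _ _ h h' =>
      obtain ⟨u, hu, hu'⟩ := h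
      obtain ⟨v, hv, hv'⟩ := h'
      exact ⟨u * v, mul_mem hu hv, hu'.mul hv'⟩
    | inv x _ h =>
      obtain ⟨u, hu, hu'⟩ := h
      exact ⟨u⁻¹, inv_mem hu, hu'.inv⟩
  intro x hx
  obtain ⟨σ, hσ⟩ := Cov.L.of_mem C hx
  obtain ⟨y, hy, hy'⟩ := key σ
  obtain ⟨c, hc, rfl⟩ := hσ.exists_sc hy'
  exact mul_mem (hsc c hc) hy

/-- **Tensor kill for `3.A₇`, `6.A₇`** (e.g. `V = U₃ ⊗ U₄*`, `p = 5`). -/
theorem kill_A7_SU (hF : Fintype.card F = q ^ 2) (hm : 3 ≤ m) (hk : 2 ≤ k) {H P : Subgroup (GL (Fin n) F)}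
    (hc : IsResidualCore H P) (hH : IsMaximalIn (GU n F q ⊓ specialLinear (Fin n) F) H)
    (C : Cov P (alternatingGroup (Fin 7))) (hz : 3 ∣ Nat.card ((scalars (Fin n) F).subgroupOf P)) {g : GL (Fin n) F}
    {J₁ : Matrix (Fin m) (Fin m) F} {J₂ : Matrix (Fin k) (Fin k) F}
    (hJ₁ : (J₁.map (sg hF))ᵀ = J₁) (hJ₁0 : J₁.det ≠ 0) (hJ₂ : (J₂.map (sg hF))ᵀ = J₂) (hJ₂0 : J₂.det ≠ 0)
    {S : Set (alternatingGroup (Fin 7))} (hS : Subgroup.closure S = ⊤)
    (hY : ∀ s ∈ S, ∃ y ∈ TG e (isom hF J₁) (isom hF J₂) g, C.L y s) : False := by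
  have hn : n ≠ 0 := by
    rintro rfl
    exact (e (⟨0, by omega⟩, ⟨0, by omega⟩)).elim0
  have hne : Nonempty (Fin n) := ⟨⟨0, by omega⟩⟩
  refine kill_TU e hF hm hk hc hH hJ₁ hJ₁0 hJ₂ hJ₂0
    (fun h hh => cover_A7 hc C (exists_three hz) hh) (le_of_gens C hS hY fun c hcP => ?_)
  exact sc_mem_TG e hF hn (hH.1.le (hc.le hcP)).1

end Cfsg.Agent.H108.TK
end

-- part: H108/TK/Five
section
/-!
# `6.A₇` in dimension twelve, characteristic five (helper108)

`V = U₃ ⊗ U₄`: `exists_TG`; hence `Cj P 5`, and `P` is not the core of a maximal subgroup of `SU₁₂(5)`.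
-/

set_option autoImplicit false
set_option linter.unusedSectionVars false
set_option maxRecDepth 100000

namespace Cfsg.Agent.H108.TK.Five

open Matrix Cfsg Cfsg.Geo Cfsg.Agent.H913.N6
open Cfsg.Agent.H108.TK
open Cfsg.Agent.H890.A7 (kk gen7 Z6)
open Cfsg.Agent.H890.Y3 (r3 r3' g4)
open scoped commutatorElement
open Cfsg.Agent.H108.Nine (sg)
open Cfsg.Agent.H915.LD (Core Soc toSoc tr core_of_residual Cj SD)

variable {F : Type*} [Field F]

/-- the unitary matrices for `σ` -/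
def isoS {m : Type} [Fintype m] [DecidableEq m] (σ : F →+* F) : Subgroup (GL m F) where
  carrier := {x | (x : Matrix m m F)ᵀ * (x : Matrix m m F).map σ = 1}
  one_mem' := by
    change ((1 : GL m F) : Matrix m m F)ᵀ * ((1 : GL m F) : Matrix m m F).map σ = 1
    rw [Units.val_one, Matrix.transpose_one, Matrix.one_mul, Matrix.map_one _ (map_zero _) (map_one _)]
  mul_mem' := by
    intro x y (hx : _ = _) (hy : _ = _)
    change ((x * y : GL m F) : Matrix m m F)ᵀ * ((x * y : GL m F) : Matrix m m F).map σ = 1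
    rw [Units.val_mul, Matrix.transpose_mul, Matrix.map_mul]
    calc _ = (y : Matrix m m F)ᵀ * ((x : Matrix m m F)ᵀ * (x : Matrix m m F).map σ) * (y : Matrix m m F).map σ := by
          simp only [Matrix.mul_assoc]
      _ = 1 := by rw [hx, Matrix.mul_one, hy]
  inv_mem' := by
    intro x (hx : _ = _)
    change ((x⁻¹ : GL m F) : Matrix m m F)ᵀ * ((x⁻¹ : GL m F) : Matrix m m F).map σ = 1
    have h1 : ((x⁻¹ : GL m F) : Matrix m m F)ᵀ * (x : Matrix m m F)ᵀ = 1 := by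
      rw [← Matrix.transpose_mul, ← Units.val_mul, mul_inv_cancel, Units.val_one, Matrix.transpose_one]
    have h2 : (x : Matrix m m F).map σ * ((x⁻¹ : GL m F) : Matrix m m F).map σ = 1 := by
      rw [← Matrix.map_mul, ← Units.val_mul, mul_inv_cancel, Units.val_one, Matrix.map_one _ (map_zero _) (map_one _)]
    calc _ = ((x⁻¹ : GL m F) : Matrix m m F)ᵀ * ((x : Matrix m m F)ᵀ * (x : Matrix m m F).map σ) *
          ((x⁻¹ : GL m F) : Matrix m m F).map σ := by rw [hx, Matrix.mul_one]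
      _ = (((x⁻¹ : GL m F) : Matrix m m F)ᵀ * (x : Matrix m m F)ᵀ) *
          ((x : Matrix m m F).map σ * ((x⁻¹ : GL m F) : Matrix m m F).map σ) := by simp only [Matrix.mul_assoc]
      _ = 1 := by rw [h1, h2, Matrix.mul_one]

theorem mem_isoS {m : Type} [Fintype m] [DecidableEq m] {σ : F →+* F} {x : GL m F} :
    x ∈ isoS σ ↔ (x : Matrix m m F)ᵀ * (x : Matrix m m F).map σ = 1 := Iff.rfl

variable {ι : Type} [Fintype ι] [DecidableEq ι]

/-- perfect groups and lifts of generators -/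
theorem le_of_perfect {P : Subgroup (GL ι F)} (hp : ⁅P, P⁆ = P) {T : Type*} [Group T]
    (C : Cov P T) {S : Set T} (hS : Subgroup.closure S = ⊤)
    {Y : Subgroup (GL ι F)} (hY : ∀ s ∈ S, ∃ y ∈ Y, C.L y s) : P ≤ Y := by
  have key : ∀ σ : T, ∃ y ∈ Y, C.L y σ := by
    intro σ
    have h1 : σ ∈ Subgroup.closure S := by rw [hS]; exact Subgroup.mem_top _
    induction h1 using Subgroup.closure_induction with
    | mem x hx => exact hY x hx
    | one => exact ⟨1, one_mem Y, Cov.L.one⟩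
    | mul x y _ _ h h' =>
      obtain ⟨u, hu, hu'⟩ := h
      obtain ⟨v, hv, hv'⟩ := h'
      exact ⟨u * v, mul_mem hu hv, hu'.mul hv'⟩
    | inv x _ h =>
      obtain ⟨u, hu, hu'⟩ := h
      exact ⟨u⁻¹, inv_mem hu, hu'.inv⟩
  have key2 : ∀ x ∈ P, ∃ c : Fˣ, ∃ y ∈ Y, x = sc c * y := by
    intro x hx
    obtain ⟨σ, hσ⟩ := Cov.L.of_mem C hx
    obtain ⟨y, hy, hy'⟩ := key σ
    obtain ⟨c, -, hc⟩ := hσ.exists_sc hy'
    exact ⟨c, y, hy, hc⟩
  rw [← hp, Subgroup.commutator_le]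
  intro x hx y hy
  obtain ⟨c, x', hx', rfl⟩ := key2 x hx
  obtain ⟨d, y', hy', rfl⟩ := key2 y hy
  have h1 : ∀ z : GL ι F, sc c * z = z * sc c := fun z => sc_comm c z
  have h2 : ∀ z : GL ι F, sc d * z = z * sc d := fun z => sc_comm d z
  have e : ⁅sc c * x', sc d * y'⁆ = ⁅x', y'⁆ := by
    rw [commutatorElement_def, commutatorElement_def, _root_.mul_inv_rev, _root_.mul_inv_rev]
    have h3 : ∀ z : GL ι F, (sc c)⁻¹ * z = z * (sc c)⁻¹ := fun z => ((show Commute (sc c) z from h1 z).inv_left).eq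
    have h4 : ∀ z : GL ι F, (sc d)⁻¹ * z = z * (sc d)⁻¹ := fun z => ((show Commute (sc d) z from h2 z).inv_left).eq
    calc sc c * x' * (sc d * y') * (x'⁻¹ * (sc c)⁻¹) * (y'⁻¹ * (sc d)⁻¹)
        = sc c * (x' * (sc d * (y' * (x'⁻¹ * ((sc c)⁻¹ * (y'⁻¹ * (sc d)⁻¹)))))) := by simp only [mul_assoc]
      _ = sc c * (x' * (y' * (x'⁻¹ * ((sc c)⁻¹ * (y'⁻¹ * (sc d)⁻¹)))) * sc d) := by
          rw [h2 (y' * (x'⁻¹ * ((sc c)⁻¹ * (y'⁻¹ * (sc d)⁻¹))))]; simp only [mul_assoc]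
      _ = (x' * (y' * (x'⁻¹ * ((sc c)⁻¹ * (y'⁻¹ * (sc d)⁻¹)))) * sc d) * sc c := h1 _
      _ = x' * y' * x'⁻¹ * (((sc c)⁻¹ * (y'⁻¹ * (sc d)⁻¹ * sc d)) * sc c) := by simp only [mul_assoc]
      _ = x' * y' * x'⁻¹ * y'⁻¹ := by
          rw [inv_mul_cancel_right, h3 y'⁻¹, inv_mul_cancel_right]
  rw [e]
  rw [commutatorElement_def]
  exact mul_mem (mul_mem (mul_mem hx' hy') (inv_mem hx')) (inv_mem hy')

theorem mem_of_eq {e : Fin 3 × Fin 4 ≃ ι} {u y : GL ι F} {A₀ : Matrix (Fin 3) (Fin 3) F} {B₀ : Matrix (Fin 4) (Fin 4) F}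
    {A : GL (Fin 3) F} {B : GL (Fin 4) F} (hA₀ : (A : Matrix (Fin 3) (Fin 3) F) = A₀)
    (hB₀ : (B : Matrix (Fin 4) (Fin 4) F) = B₀)
    (h : (y : Matrix ι ι F) = (u : Matrix ι ι F) * kr e A₀ B₀ * ((u⁻¹ : GL ι F) : Matrix ι ι F)) :
    y = u * krGL e A B * u⁻¹ := by
  apply Units.ext
  rw [h, Units.val_mul, Units.val_mul, coe_krGL, hA₀, hB₀]

/-- **`V = U₃ ⊗ U₄` for `6.A₇` in dimension twelve, characteristic five.** -/
theorem exists_TG [Finite F] [CharP F 5] {P : Subgroup (GL ι F)} (hC : Core P)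
    (e' : Soc P ≃* alternatingGroup (Fin 7)) (hn : Fintype.card ι = 12)
    (hz : ∃ c : Fˣ, c ≠ 1 ∧ c ^ 3 = 1 ∧ (sc c : GL ι F) ∈ P) (hneg : (sc (-1 : Fˣ) : GL ι F) ∈ P) :
    ∃ (ω : F) (e : Fin 3 × Fin 4 ≃ ι) (u : GL ι F), ω ^ 2 + ω + 1 = 0 ∧
      ∀ σ : F →+* F, σ ω = ω ^ 2 → P ≤ TG e (isoS σ) (isoS σ) u := by
  have hι : Nonempty ι := Fintype.card_pos_iff.1 (by omega)
  have h5 : (5 : F) = 0 := h5F
  have h2 : (2 : F) ≠ 0 := by
    intro h
    have : (1 : F) = 0 := by linear_combination h5 - 2 * h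
    exact one_ne_zero this
  obtain ⟨ω, L, a, b, k, h88⟩ := Cfsg.Agent.H825.A7x.exists_frame hC (Cov.of e') (Cfsg.Agent.H825.A7x.z6_of' hC e') hn hz h2 hneg
  revert h88; rintro ⟨g, ψ, x, d₀, d₁, h88⟩
  revert h88; rintro ⟨d₂, t, X, Z, N, h88⟩
  revert h88; rintro ⟨p₀, p₁, p₂, q₀, q₁, h88⟩
  revert h88; rintro ⟨q₂, La, Lb, Lk, Lg, h88⟩
  revert h88; rintro ⟨ha, hb, hk, hg, hB, h88⟩
  revert h88; rintro ⟨hS, E, I, hL⟩
  obtain ⟨S, ε, hε, hX, hZ, hN⟩ := Cfsg.Agent.H930.A7s.eqs_normal E I h5 hL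
  have hω := hB.hω
  obtain ⟨e, u, ea, eb, ek, eg⟩ := exists_tensor (ω := (ω : F)) hω ψ (a := (a : Matrix ι ι F)) (b := (b : Matrix ι ι F))
    (k := (k : Matrix ι ι F)) (g := (g : Matrix ι ι F)) ha hb hk hg
    (by rw [hB.e0, one_smul, neg_smul, one_smul]; unfold Cfsg.Agent.H825.A7x.SD; rw [mul_one, one_smul])
    (by rw [hB.e1, one_smul, neg_smul, one_smul]; rfl)
    (by rw [hB.e2, one_smul, neg_smul, one_smul]; rfl) hS.x_eq hX hZ hN
  refine ⟨ω, e, u, hω, fun σ hσ => le_of_perfect hC.perfect (Cov.of e') gen7 ?_⟩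
  intro s hs
  simp only [Set.mem_insert_iff, Set.mem_singleton_iff] at hs
  rcases hs with rfl | rfl | rfl | rfl
  · exact ⟨a, ⟨toGL hω Aa uAa, toGL_isom hω Aa uAa hσ, toGL hω Ba uBa, toGL_isom hω Ba uBa hσ,
      mem_of_eq rfl rfl ea⟩, La⟩
  · exact ⟨b, ⟨toGL hω Ab uAb, toGL_isom hω Ab uAb hσ, toGL hω Bb uBb, toGL_isom hω Bb uBb hσ,
      mem_of_eq rfl rfl eb⟩, Lb⟩
  · exact ⟨k, ⟨toGL hω Ak uAk, toGL_isom hω Ak uAk hσ, toGL hω Bk uBk, toGL_isom hω Bk uBk hσ,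
      mem_of_eq rfl rfl ek⟩, Lk⟩
  · rcases hε with rfl | rfl
    · rw [one_smul] at eg
      exact ⟨g, ⟨toGL hω Ag uAg, toGL_isom hω Ag uAg hσ, toGL hω Bg uBg, toGL_isom hω Bg uBg hσ,
        mem_of_eq rfl rfl eg⟩, Lg⟩
    · refine ⟨g, ⟨toGL hω Ag uAg, toGL_isom hω Ag uAg hσ, -toGL hω Bg uBg, ?_,
        mem_of_eq (A₀ := Ag.map (phi hω)) (B₀ := -(Bg.map (phi hω))) rfl rfl ?_⟩, Lg⟩
      · rw [mem_isoS]
        have h1 := toGL_isom hω Bg uBg hσ
        rw [Units.val_neg, Matrix.transpose_neg]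
        have h3 : (-(toGL hω Bg uBg : Matrix (Fin 4) (Fin 4) F)).map σ = -((toGL hω Bg uBg : Matrix (Fin 4) (Fin 4) F).map σ) := by
          ext i j
          exact map_neg σ _
        rw [h3, neg_mul_neg]
        exact h1
      · rw [eg, neg_smul, one_smul]
        have h1 : kr e (Ag.map (phi hω)) (-(Bg.map (phi hω))) = -kr e (Ag.map (phi hω)) (Bg.map (phi hω)) := by
          rw [← neg_one_smul F (Bg.map (phi hω)), kr_smul_right, neg_one_smul]
        rw [h1, mul_neg, neg_mul]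

/-- the trace of the inverse of a unitary matrix -/
theorem trace_inv {m : Type} [Fintype m] [DecidableEq m] {σ : F →+* F} {x : GL m F} (hx : x ∈ isoS σ) :
    ((x⁻¹ : GL m F) : Matrix m m F).trace = σ (x : Matrix m m F).trace := by
  rw [mem_isoS] at hx
  have h1 : ((x : Matrix m m F).map σ)ᵀ * (x : Matrix m m F) = 1 := by
    rw [← Matrix.transpose_inj, Matrix.transpose_mul, Matrix.transpose_transpose, hx, Matrix.transpose_one]
  have h2 : ((x⁻¹ : GL m F) : Matrix m m F) = ((x : Matrix m m F).map σ)ᵀ := by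
    calc ((x⁻¹ : GL m F) : Matrix m m F) = (((x : Matrix m m F).map σ)ᵀ * (x : Matrix m m F)) * ((x⁻¹ : GL m F) : Matrix m m F) := by
          rw [h1, Matrix.one_mul]
      _ = _ := by rw [Matrix.mul_assoc, ← Units.val_mul, mul_inv_cancel, Units.val_one, Matrix.mul_one]
  rw [h2, Matrix.trace_transpose, Matrix.trace, Matrix.trace, map_sum]
  rfl

theorem trace_kr {e : Fin 3 × Fin 4 ≃ ι} (A : Matrix (Fin 3) (Fin 3) F) (B : Matrix (Fin 4) (Fin 4) F) :
    (kr e A B).trace = A.trace * B.trace := by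
  change ∑ l, kr e A B l l = (∑ i, A i i) * ∑ j, B j j
  rw [sum_ix e, Finset.sum_mul_sum]
  exact Finset.sum_congr rfl fun i _ => Finset.sum_congr rfl fun j _ => kr_ix e A B i i j j

theorem tr_TG {e : Fin 3 × Fin 4 ≃ ι} {u : GL ι F} {σ : F →+* F} {g : GL ι F}
    (hg : g ∈ TG e (isoS σ) (isoS σ) u) : tr g⁻¹ = σ (tr g) := by
  obtain ⟨A, hA, B, hB, rfl⟩ := hg
  have h1 : (u * krGL e A B * u⁻¹)⁻¹ = u * krGL e A⁻¹ B⁻¹ * u⁻¹ := by
    rw [← krGL_inv]
    group
  have h2 : ∀ (A : GL (Fin 3) F) (B : GL (Fin 4) F), tr (u * krGL e A B * u⁻¹) =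
      (A : Matrix (Fin 3) (Fin 3) F).trace * (B : Matrix (Fin 4) (Fin 4) F).trace := by
    intro A B
    rw [Cfsg.Agent.H915.LD.tr_conj]
    exact trace_kr _ _
  rw [h1, h2, h2, map_mul, trace_inv hA, trace_inv hB]

/-- **`6.A₇` in dimension twelve, characteristic five: `x ↦ x⁵` is the dual.** -/
theorem cj_five [Finite F] [CharP F 5] {P : Subgroup (GL ι F)} (hC : Core P)
    (e' : Soc P ≃* alternatingGroup (Fin 7)) (hn : Fintype.card ι = 12)
    (hz : ∃ c : Fˣ, c ≠ 1 ∧ c ^ 3 = 1 ∧ (sc c : GL ι F) ∈ P) (hneg : (sc (-1 : Fˣ) : GL ι F) ∈ P) : Cj P 5 := by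
  have h5p : Fact (Nat.Prime 5) := ⟨by norm_num⟩
  obtain ⟨ω, e, u, hω, h⟩ := exists_TG hC e' hn hz hneg
  intro g hg
  have h1 := tr_TG (h (frobenius F 5) (by
    rw [frobenius_def]
    linear_combination (ω ^ 3 - ω ^ 2) * hω) hg)
  rw [h1, frobenius_def]

/-- **`A₇` in dimension twelve.** -/
theorem a7_twelve [Finite F] (p : ℕ) [Fact p.Prime] [CharP F p] {P : Subgroup (GL ι F)} (hC : Core P)
    (e' : Soc P ≃* alternatingGroup (Fin 7)) (hn : Fintype.card ι = 12) : SD P ∨ (p = 5 ∧ Cj P 5) := by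
  rcases Cfsg.Agent.H637.Three.twelve p hC e' hn with h | ⟨hp2, -, hneg, hz⟩
  · exact Or.inl h
  · right
    have h2 : (2 : F) ≠ 0 := by
      intro h
      have h3 : ((2 : ℕ) : F) = 0 := by exact_mod_cast h
      rw [CharP.cast_eq_zero_iff F p] at h3
      exact hp2 ((Nat.prime_dvd_prime_iff_eq Fact.out Nat.prime_two).1 h3)
    have h5 := Cfsg.Agent.H825.A7x.twelve_six hC e' hn hz h2 hneg
    have hp5 : p = 5 := by
      have h3 : ((5 : ℕ) : F) = 0 := by exact_mod_cast h5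
      rw [CharP.cast_eq_zero_iff F p] at h3
      exact (Nat.prime_dvd_prime_iff_eq Fact.out (by norm_num)).1 h3
    subst hp5
    exact ⟨rfl, cj_five hC e' hn hz hneg⟩

/-- **`6.A₇` is not the core of a maximal subgroup of `SU₁₂(q)`, `5 ∣ q`.** -/
theorem su_false [Fintype F] [CharP F 5] {q : ℕ} (hF : Fintype.card F = q ^ 2) {H P : Subgroup (GL (Fin 12) F)}
    (hc : IsResidualCore H P) (hH : IsMaximalIn (GU 12 F q ⊓ specialLinear (Fin 12) F) H)
    (e' : Soc P ≃* alternatingGroup (Fin 7)) (hz : 3 ∣ Nat.card ((scalars (Fin 12) F).subgroupOf P)) : False := by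
  have hC := core_of_residual hc
  obtain ⟨c, hc1, hc3, hcP⟩ := exists_three hz
  have h12 : Fintype.card (Fin 12) = 12 := by simp
  have h5 : (5 : F) = 0 := h5F
  have hneg : (sc (-1 : Fˣ) : GL (Fin 12) F) ∈ P := by
    have h5p : Fact (Nat.Prime 5) := ⟨by norm_num⟩
    rcases Cfsg.Agent.H637.Three.twelve 5 hC e' h12 with h | ⟨-, -, h, -⟩
    · exfalso
      have h1 := h (sc c) hcP
      have h2 : ∀ d : Fˣ, tr (sc d : GL (Fin 12) F) = 12 * (d : F) := by
        intro d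
        unfold tr
        rw [coe_sc, Matrix.trace_smul, Matrix.trace_one, smul_eq_mul, Fintype.card_fin]
        push_cast
        ring
      rw [← sc_inv, h2, h2] at h1
      have h3 : ((c⁻¹ : Fˣ) : F) = c := by linear_combination 3 * h1 + (-7 * ((c⁻¹ : Fˣ) : F) + 7 * (c : F)) * h5
      apply hc1
      have h4 : c⁻¹ = c := Units.ext h3
      have h6 : c * c = 1 := by
        nth_rewrite 1 [← h4]
        exact inv_mul_cancel c
      have h7 : c ^ 3 = c := by rw [pow_succ, pow_two, h6, one_mul]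
      rw [← h7, hc3]
    · exact h
  obtain ⟨ω, e, u, hω, h⟩ := exists_TG hC e' h12 ⟨c, hc1, hc3, hcP⟩ hneg
  -- `σ ω = ω²`
  have hcu : (c : F) * sg hF c = 1 := by
    have h1 := un_of_mem_GU hF (hH.1.le (hc.le hcP)).1
    have h3 := congrFun (congrFun h1 0) 0
    rw [coe_sc, Matrix.transpose_smul, Matrix.transpose_one, Matrix.smul_mul, Matrix.one_mul, Matrix.smul_apply,
      Matrix.map_apply, Matrix.smul_apply, Matrix.one_apply_eq, smul_eq_mul, smul_eq_mul, mul_one] at h3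
    exact h3
  have hcω : (c : F) ^ 2 + c + 1 = 0 := by
    have h1 : ((c : F) - 1) * ((c : F) ^ 2 + c + 1) = 0 := by
      have h3 : (c : F) ^ 3 = 1 := by rw [← Units.val_pow_eq_pow_val, hc3, Units.val_one]
      linear_combination h3
    rcases mul_eq_zero.1 h1 with h2 | h2
    · exfalso
      apply hc1
      apply Units.ext
      rw [sub_eq_zero] at h2
      exact h2
    · exact h2
  have hsc : sg hF (c : F) = (c : F) ^ 2 := by
    have h3 : (c : F) * (c : F) ^ 2 = 1 := by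
      have h3 : (c : F) ^ 3 = 1 := by rw [← Units.val_pow_eq_pow_val, hc3, Units.val_one]
      linear_combination h3
    have h0 : (c : F) ≠ 0 := c.ne_zero
    exact mul_left_cancel₀ h0 (hcu.trans h3.symm)
  have hσ : (sg hF : F →+* F) ω = ω ^ 2 := by
    have h1 : (ω - c) * (ω - (c : F) ^ 2) = 0 := by
      linear_combination hω - hcω * ω + ((c : F) - 1) * hcω
    rcases mul_eq_zero.1 h1 with h2 | h2
    · rw [sub_eq_zero] at h2
      rw [h2]
      exact hsc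
    · rw [sub_eq_zero] at h2
      rw [h2, map_pow]
      have h3 : (sg hF : F →+* F) (c : F) = (c : F) ^ 2 := hsc
      rw [h3]
  have hP := h (sg hF) hσ
  refine kill_A7_SU e hF (by norm_num) (by norm_num) hc hH (Cov.of e') hz (g := u) (J₁ := 1) (J₂ := 1) ?_ ?_ ?_ ?_
    (S := ⊤) (by simp) ?_
  · rw [Matrix.map_one _ (map_zero _) (map_one _), Matrix.transpose_one]
  · rw [Matrix.det_one]; exact one_ne_zero
  · rw [Matrix.map_one _ (map_zero _) (map_one _), Matrix.transpose_one]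
  · rw [Matrix.det_one]; exact one_ne_zero
  · intro s _
    obtain ⟨y, hy⟩ := (Cov.of e').exists_lift s
    obtain ⟨A, hA, B, hB, h1⟩ := hP hy.1
    exact ⟨y, ⟨A, by rw [mem_isom, Matrix.mul_one]; exact hA, B, by rw [mem_isom, Matrix.mul_one]; exact hB, h1⟩, hy⟩

end Cfsg.Agent.H108.TK.Five
end

private theorem dce_a4b965fbeb7a : _root_.True := by
  try have : _root_.True := by simp only [_root_.Cfsg.Agent.H930.A7s.No.eq_1]
  try have : _root_.True := by simp only [_root_.Cfsg.Agent.H108.TK.Five.phi.congr_simp]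
  try have : _root_.True := by simp only [_root_.Cfsg.Agent.H930.A7s.Zo.eq_1]
  try have : _root_.True := by simp only [_root_.Cfsg.Agent.H930.A7s.Xo.eq_1]
  exact _root_.True.intro
end
end
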